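import Groth.Agent.H9Pur.Hull
import Groth.Agent.Pi1Ext.PuritySch

/-!
# Morphisms over the punctured spectrum on standard opens
-/

set_option autoImplicit false
set_option linter.style.haveILetI false

universe u

open CategoryTheory CategoryTheory.Limits AlgebraicGeometry IsLocalRing Groth.Agent.Pi1Ext.RegPurity
  Groth.Agent.Pi1Ext.PuritySch

noncomputable section

namespace Groth.Agent.H9Pur

variable {A : Type u} [CommRing A] [IsLocalRing A] {B C : Type u} [CommRing B] [CommRing C] [Algebra A B]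
  [Algebra A C] {g g' : A}

/-- The standard open of `Spec C` maps to the punctured spectrum. -/
def jU (C : Type u) [CommRing C] [Algebra A C] (hg : g ∈ maximalIdeal A) :
    Spec (CommRingCat.of (L C g)) ⟶ (FEt.puncturedSpec A : Scheme.{u}) :=
  Spec.map (CommRingCat.ofHom (IsLocalization.Away.lift (S := Localization.Away g) g
    (isUnit_L (C := C) g))) ≫ ρ hg

theorem jU_ι (hg : g ∈ maximalIdeal A) : jU C hg ≫ (FEt.puncturedSpec A).ι = sp A (L C g) := by
  rw [jU, Category.assoc, ρ_ι, ← Spec.map_comp, ← CommRingCat.ofHom_comp, IsLocalization.Away.lift_comp]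

/-- The standard open of the restriction. -/
def jS (C : Type u) [CommRing C] [Algebra A C] (hg : g ∈ maximalIdeal A) :
    Spec (CommRingCat.of (L C g)) ⟶ pullback (sp A C) (FEt.puncturedSpec A).ι :=
  pullback.lift (Spec.map (CommRingCat.ofHom (algebraMap C (L C g)))) (jU C hg) (by
    rw [jU_ι, ← Spec.map_comp, ← CommRingCat.ofHom_comp, ← IsScalarTower.algebraMap_eq])

@[reassoc]
theorem jS_fst (hg : g ∈ maximalIdeal A) :
    jS C hg ≫ pullback.fst _ _ = Spec.map (CommRingCat.ofHom (algebraMap C (L C g))) :=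
  pullback.lift_fst _ _ _

@[reassoc]
theorem jS_snd (hg : g ∈ maximalIdeal A) : jS C hg ≫ pullback.snd _ _ = jU C hg :=
  pullback.lift_snd _ _ _

theorem jS_res (hg : g ∈ maximalIdeal A) (hg' : g' ∈ maximalIdeal A) (r : L C g →ₐ[C] L C g') :
    Spec.map (CommRingCat.ofHom r.toRingHom) ≫ jS C hg = jS C hg' := by
  refine pullback.hom_ext ?_ ?_
  · rw [Category.assoc, jS_fst, jS_fst, ← Spec.map_comp, ← CommRingCat.ofHom_comp]
    congr 2
    exact RingHom.ext r.commutes
  · rw [Category.assoc, jS_snd, jS_snd, ← cancel_mono (FEt.puncturedSpec A).ι, Category.assoc, jU_ι, jU_ι,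
      ← Spec.map_comp, ← CommRingCat.ofHom_comp]
    congr 2
    exact RingHom.ext (r.restrictScalars A).commutes

theorem jS_ext (hg : g ∈ maximalIdeal A) {D : Type u} [CommRing D] [Algebra A D] (f₁ f₂ : L B g →ₐ[A] D)
    (h : Spec.map (CommRingCat.ofHom f₁.toRingHom) ≫ jS B hg = Spec.map (CommRingCat.ofHom f₂.toRingHom) ≫ jS B hg)
    (z : L B g) : f₁ z = f₂ z := by
  have h1 := congrArg (· ≫ pullback.fst _ _) h
  simp only [Category.assoc, jS_fst, ← Spec.map_comp, ← CommRingCat.ofHom_comp] at h1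
  exact RingHom.congr_fun (IsLocalization.ringHom_ext (Submonoid.powers (algebraMap A B g))
    (congrArg CommRingCat.Hom.hom (Spec.map_injective h1))) z

variable (φ : pullback (sp A C) (FEt.puncturedSpec A).ι ⟶ pullback (sp A B) (FEt.puncturedSpec A).ι)
  (hφ : φ ≫ pullback.snd _ _ = pullback.snd _ _)

/-- The map of functions on a standard open induced by a morphism over the punctured spectrum. -/
def τ₀ (hg : g ∈ maximalIdeal A) : B →ₐ[A] L C g :=
  { (Spec.preimage (jS C hg ≫ φ ≫ pullback.fst _ _)).hom with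
    commutes' := fun a => by
      have h1 : CommRingCat.ofHom (algebraMap A B) ≫ Spec.preimage (jS C hg ≫ φ ≫ pullback.fst _ _)
          = CommRingCat.ofHom (algebraMap A (L C g)) := Spec.map_injective (by
        rw [Spec.map_comp, Spec.map_preimage, Category.assoc, Category.assoc, pullback.condition,
          reassoc_of% hφ, jS_snd_assoc, jU_ι])
      exact ConcreteCategory.congr_hom h1 a }

/-- The map of functions on a standard open. -/
def τ (hg : g ∈ maximalIdeal A) : L B g →ₐ[A] L C g :=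
  IsLocalization.liftAlgHom (M := Submonoid.powers (algebraMap A B g)) (f := τ₀ φ hφ hg) (by
    rintro ⟨_, n, rfl⟩
    simp only [map_pow, AlgHom.commutes]
    exact (isUnit_L (C := C) g).pow n)

theorem τ_algebraMap (hg : g ∈ maximalIdeal A) (b : B) :
    τ φ hφ hg (algebraMap B (L B g) b) = τ₀ φ hφ hg b := by
  unfold τ
  exact IsLocalization.lift_eq _ b

theorem Spec_τ₀ (hg : g ∈ maximalIdeal A) :
    Spec.map (CommRingCat.ofHom (τ₀ φ hφ hg).toRingHom) = jS C hg ≫ φ ≫ pullback.fst _ _ :=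
  Spec.map_preimage _

theorem τ_jS (hg : g ∈ maximalIdeal A) :
    Spec.map (CommRingCat.ofHom (τ φ hφ hg).toRingHom) ≫ jS B hg = jS C hg ≫ φ := by
  refine pullback.hom_ext ?_ ?_
  · rw [Category.assoc, Category.assoc, jS_fst, ← Spec_τ₀ φ hφ hg, ← Spec.map_comp, ← CommRingCat.ofHom_comp]
    congr 2
    exact RingHom.ext (τ_algebraMap φ hφ hg)
  · rw [Category.assoc, Category.assoc, jS_snd, hφ, jS_snd, ← cancel_mono (FEt.puncturedSpec A).ι, Category.assoc,
      jU_ι, jU_ι, ← Spec.map_comp, ← CommRingCat.ofHom_comp]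
    congr 2
    exact RingHom.ext (τ φ hφ hg).commutes

theorem τ_res (hg : g ∈ maximalIdeal A) (hg' : g' ∈ maximalIdeal A) (rB : L B g →ₐ[B] L B g')
    (rC : L C g →ₐ[C] L C g') (z : L B g) : rC (τ φ hφ hg z) = τ φ hφ hg' (rB z) :=
  jS_ext hg ((rC.restrictScalars A).comp (τ φ hφ hg)) ((τ φ hφ hg').comp (rB.restrictScalars A)) (by
    show Spec.map (CommRingCat.ofHom (rC.toRingHom.comp (τ φ hφ hg).toRingHom)) ≫ _ =
      Spec.map (CommRingCat.ofHom ((τ φ hφ hg').toRingHom.comp rB.toRingHom)) ≫ _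
    rw [CommRingCat.ofHom_comp, CommRingCat.ofHom_comp, Spec.map_comp, Spec.map_comp, Category.assoc,
      Category.assoc, τ_jS, jS_res hg hg' rB, τ_jS, ← Category.assoc, jS_res hg hg' rC]) z

theorem τ_τ (ψ : pullback (sp A B) (FEt.puncturedSpec A).ι ⟶ pullback (sp A C) (FEt.puncturedSpec A).ι)
    (hψ : ψ ≫ pullback.snd _ _ = pullback.snd _ _) (hφψ : φ ≫ ψ = 𝟙 _) (hg : g ∈ maximalIdeal A) (z : L C g) :
    τ φ hφ hg (τ ψ hψ hg z) = z :=
  jS_ext hg ((τ φ hφ hg).comp (τ ψ hψ hg)) (AlgHom.id A _) (by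
    show Spec.map (CommRingCat.ofHom ((τ φ hφ hg).toRingHom.comp (τ ψ hψ hg).toRingHom)) ≫ _ =
      Spec.map (CommRingCat.ofHom (RingHom.id _)) ≫ _
    rw [CommRingCat.ofHom_comp, Spec.map_comp, Category.assoc, τ_jS, ← Category.assoc, τ_jS, Category.assoc,
      hφψ, Category.comp_id, CommRingCat.ofHom_id, Spec.map_id, Category.id_comp]) z

end Groth.Agent.H9Pur

end
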