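import Groth.Agent.Pi1Ext.TraceDual
import Groth.Agent.Pi1Ext.RegPurity
import Mathlib.RingTheory.Flat.EquationalCriterion
import Mathlib.Algebra.Module.FinitePresentation

/-!
# The reflexive hull of an algebra which is étale away from the closed point

A finite algebra `C` maps to the kernel of a map of free modules by linear forms, isomorphically
away from each `g` at which it is étale; the gluing of sections on two opens is computed in this kernel,
also modulo ideals.
-/

set_option autoImplicit false
set_option linter.style.haveILetI false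

universe u

open TensorProduct Groth.Agent.Pi1Ext.RegPurity

noncomputable section

namespace Groth.Agent.H9Pur

variable {R C : Type u} [CommRing R] [IsNoetherianRing R] [CommRing C] [Algebra R C] [Module.Finite R C]

omit [IsNoetherianRing R] in
theorem apply_eq_sum {M : Type u} [AddCommGroup M] [Module R M] {n : ℕ} (f : (Fin n → R) →ₗ[R] M)
    (v : Fin n → R) : f v = ∑ i, v i • f (Pi.single i 1) := by
  conv_lhs => rw [← Finset.univ_sum_single v]
  rw [map_sum]
  refine Finset.sum_congr rfl fun i _ => ?_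
  rw [← map_smul]
  congr 1
  rw [← Pi.single_smul', smul_eq_mul, mul_one]

/-- A dual basis of `C`, up to a power of `g`. -/
theorem exists_dualBasis (g : R) (hg : EtAway R C g) :
    ∃ (n N : ℕ) (φ : C →ₗ[R] (Fin n → R)) (G : (Fin n → R) →ₗ[R] C), ∀ c, G (φ c) = g ^ N • c := by
  let Rg := Localization.Away g
  haveI : Algebra.Etale Rg (Rg ⊗[R] C) :=
    etale_tensor_of_etAway hg Rg (IsLocalization.Away.algebraMap_isUnit g)
  haveI : Module.Flat Rg (Rg ⊗[R] C) := inferInstance
  haveI : IsNoetherianRing Rg := IsLocalization.isNoetherianRing (Submonoid.powers g) Rg inferInstance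
  haveI : Module.FinitePresentation Rg (Rg ⊗[R] C) := Module.finitePresentation_of_finite _ _
  haveI : Module.Projective Rg (Rg ⊗[R] C) := Module.Flat.projective_of_finitePresentation
  obtain ⟨n, G, hG⟩ := Module.Finite.exists_fin' R C
  haveI : Module.FinitePresentation R C := Module.finitePresentation_of_finite _ _
  let ι : C →ₗ[R] Rg ⊗[R] C := TensorProduct.mk R Rg C 1
  let y : Fin n → Rg ⊗[R] C := fun i => ι (G (Pi.single i 1))
  let Gg : (Fin n → Rg) →ₗ[Rg] Rg ⊗[R] C := Fintype.linearCombination Rg y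
  have hGg : ∀ v, Gg (fun i => algebraMap R Rg (v i)) = ι (G v) := fun v => by
    rw [apply_eq_sum G v, map_sum]
    simp only [Gg, y, Fintype.linearCombination_apply, map_smul, algebraMap_smul]
  have hGs : Function.Surjective Gg := by
    rw [← LinearMap.range_eq_top, eq_top_iff]
    intro x _
    induction x with
    | zero => exact zero_mem _
    | add x y hx hy => exact add_mem (hx trivial) (hy trivial)
    | tmul z c =>
      obtain ⟨v, rfl⟩ := hG c
      refine ⟨z • fun i => algebraMap R Rg (v i), ?_⟩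
      rw [map_smul, hGg, TensorProduct.mk_apply, TensorProduct.smul_tmul', smul_eq_mul, mul_one]
  obtain ⟨σ, hσ⟩ := Module.projective_lifting_property Gg LinearMap.id hGs
  have hl : ∀ i, ∃ (φi : C →ₗ[R] R) (Ni : ℕ), ∀ c, algebraMap R Rg (φi c) = g ^ Ni • σ (ι c) i := fun i => by
    obtain ⟨φi, ⟨_, Ni, rfl⟩, hφ⟩ := Module.FinitePresentation.exists_lift_of_isLocalizedModule
      (Submonoid.powers g) (Algebra.linearMap R Rg)
      ((LinearMap.proj i).comp ((σ.restrictScalars R).comp ι))
    exact ⟨φi, Ni, fun c => LinearMap.congr_fun hφ c⟩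
  choose φi Ni hφi using hl
  let φ : C →ₗ[R] (Fin n → R) := LinearMap.pi fun i => g ^ (Finset.univ.sup Ni - Ni i) • φi i
  have hφ : ∀ c, (fun i => algebraMap R Rg (φ c i)) = g ^ Finset.univ.sup Ni • σ (ι c) := fun c => by
    funext i
    simp only [φ, LinearMap.pi_apply, LinearMap.smul_apply, smul_eq_mul, map_mul, Pi.smul_apply]
    rw [← Algebra.smul_def, hφi, smul_smul, ← pow_add, Nat.sub_add_cancel (Finset.le_sup (Finset.mem_univ i))]
  obtain ⟨⟨_, N', rfl⟩, hN'⟩ := Module.Finite.exists_smul_of_comp_eq_of_isLocalizedModule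
    (Submonoid.powers g) ι (G.comp φ) (g ^ Finset.univ.sup Ni • LinearMap.id) (LinearMap.ext fun c => by
      simp only [LinearMap.comp_apply, LinearMap.smul_apply, LinearMap.id_apply, map_smul]
      rw [← hGg, hφ, LinearMap.map_smul_of_tower]
      congr 1
      exact LinearMap.congr_fun hσ (ι c))
  refine ⟨n, N' + Finset.univ.sup Ni, φ, g ^ N' • G, fun c => ?_⟩
  rw [pow_add, mul_smul]
  exact LinearMap.congr_fun hN' c

theorem exists_hull_data : ∃ (p q : ℕ) (ε : C →ₗ[R] (Fin p → R)) (a : (Fin p → R) →ₗ[R] (Fin q → R)),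
    (∀ c, a (ε c) = 0) ∧ ∀ g : R, EtAway R C g → ∃ (M : ℕ) (s : (Fin p → R) →ₗ[R] C)
      (t : (Fin q → R) →ₗ[R] (Fin p → R)),
      (∀ c, s (ε c) = g ^ M • c) ∧ ∀ x, ε (s x) + t (a x) = g ^ M • x := by
  haveI : Module.Finite R (Module.Dual R C) := by
    obtain ⟨n, π, hπ⟩ := Module.Finite.exists_fin' R C
    exact Module.Finite.of_injective π.dualMap (LinearMap.dualMap_injective_of_surjective hπ)
  obtain ⟨p, π, hπ⟩ := Module.Finite.exists_fin' R (Module.Dual R C)
  let l : Fin p → Module.Dual R C := fun i => π (Pi.single i 1)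
  let ε : C →ₗ[R] (Fin p → R) := LinearMap.pi l
  have hπl : ∀ (v : Fin p → R) (c : C), π v c = ∑ i, v i * l i c := fun v c => by
    rw [apply_eq_sum π v]
    simp [l, LinearMap.coe_sum]
  obtain ⟨q, r, hr⟩ := Submodule.fg_iff_exists_fin_generating_family.mp (IsNoetherian.noetherian π.ker)
  let a : (Fin p → R) →ₗ[R] (Fin q → R) := LinearMap.pi fun j => ∑ i, r j i • LinearMap.proj i
  have ha : ∀ (x : Fin p → R) (j : Fin q), a x j = ∑ i, r j i * x i := fun x j => by
    simp [a, LinearMap.coe_sum]
  refine ⟨p, q, ε, a, fun c => ?_, fun g hg => ?_⟩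
  · funext j
    rw [ha, Pi.zero_apply]
    have hj : r j ∈ π.ker := hr ▸ Submodule.subset_span ⟨j, rfl⟩
    rw [show (∑ i, r j i * ε c i) = π (r j) c from (hπl _ _).symm, LinearMap.mem_ker.mp hj]
    rfl
  obtain ⟨n, N, φ, G, hkey⟩ := exists_dualBasis g hg
  choose w hw using fun i : Fin n => hπ ((LinearMap.proj i).comp φ)
  have hφc : ∀ c i, φ c i = ∑ k, w i k * ε c k := fun c i => by
    rw [← show (π (w i)) c = φ c i from by rw [hw i]; rfl]
    exact hπl _ _
  let W : (Fin p → R) →ₗ[R] (Fin n → R) := LinearMap.pi fun i => ∑ k, w i k • LinearMap.proj k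
  have hW : ∀ c, W (ε c) = φ c := fun c => funext fun i => by
    simp [W, LinearMap.coe_sum, hφc]
  let s : (Fin p → R) →ₗ[R] C := G.comp W
  let D : (Fin p → R) →ₗ[R] (Fin p → R) := g ^ N • LinearMap.id - ε.comp s
  have hs : ∀ c, s (ε c) = g ^ N • c := fun c => by
    simp only [s, LinearMap.comp_apply, hW, hkey]
  have hD : ∀ c, D (ε c) = 0 := fun c => by
    simp only [D, LinearMap.sub_apply, LinearMap.smul_apply, LinearMap.id_apply, LinearMap.comp_apply, hs,
      map_smul, sub_self]
  have hker : ∀ i, (fun k => D (Pi.single k 1) i) ∈ π.ker := fun i => LinearMap.mem_ker.mpr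
    (LinearMap.ext fun c => by
      rw [hπl, LinearMap.zero_apply]
      have h1 := congrFun (hD c) i
      rw [apply_eq_sum D (ε c)] at h1
      simp only [Finset.sum_apply, Pi.smul_apply, smul_eq_mul, Pi.zero_apply] at h1
      rw [← h1]
      exact Finset.sum_congr rfl fun k _ => mul_comm _ _)
  have hsp : ∀ i, ∃ b : Fin q → R, ∑ j, b j • r j = fun k => D (Pi.single k 1) i := fun i =>
    (Submodule.mem_span_range_iff_exists_fun R).mp (hr.symm ▸ hker i)
  choose b hb using hsp
  let t : (Fin q → R) →ₗ[R] (Fin p → R) := LinearMap.pi fun i => ∑ j, b i j • LinearMap.proj j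
  refine ⟨N, s, t, hs, fun x => ?_⟩
  have hta : t (a x) = D x := by
    funext i
    have h1 : D x i = ∑ k, x k * D (Pi.single k 1) i := by
      rw [apply_eq_sum D x]
      simp only [Finset.sum_apply, Pi.smul_apply, smul_eq_mul]
    rw [h1]
    simp only [t, LinearMap.pi_apply, LinearMap.coe_sum, Finset.sum_apply, LinearMap.smul_apply,
      LinearMap.proj_apply, smul_eq_mul, ha, Finset.mul_sum]
    rw [Finset.sum_comm]
    refine Finset.sum_congr rfl fun k _ => ?_
    rw [← congrFun (hb i) k, Finset.sum_apply, Finset.mul_sum]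
    refine Finset.sum_congr rfl fun j _ => ?_
    rw [Pi.smul_apply, smul_eq_mul]
    ring
  rw [hta]
  simp [D]

/-- Cancellation of powers in a regular pair modulo an ideal. -/
structure PairMod (h k : R) (I : Ideal R) : Prop where
  left : ∀ z, h * z ∈ I → z ∈ I
  right : ∀ z, k * z ∈ I → z ∈ I
  div : ∀ z w, k * z - h * w ∈ I → ∃ v, z - h * v ∈ I

omit [IsNoetherianRing R] in
theorem PairMod.cancel {h k : R} {I : Ideal R} (hI : PairMod h k I) (i j : ℕ) {z : R}
    (hz : h ^ i * k ^ j * z ∈ I) : z ∈ I := by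
  induction i with
  | succ i ih => exact ih (hI.left _ (by rw [← mul_assoc, ← mul_assoc, ← pow_succ']; exact hz))
  | zero =>
    rw [pow_zero, one_mul] at hz
    induction j with
    | zero => simpa using hz
    | succ j ih => exact ih (hI.right _ (by rw [← mul_assoc, ← pow_succ']; exact hz))

omit [IsNoetherianRing R] in
theorem PairMod.div_pow {h k : R} {I : Ideal R} (hI : PairMod h k I) (m j : ℕ) {z w : R}
    (hz : k ^ j * z - h ^ m * w ∈ I) : ∃ v, z - h ^ m * v ∈ I := by
  have h1 : ∀ (j : ℕ) (z w : R), k ^ j * z - h * w ∈ I → ∃ v, z - h * v ∈ I := by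
    intro j
    induction j with
    | zero => intro z w hzw; exact ⟨w, by simpa using hzw⟩
    | succ j ih =>
      intro z w hzw
      obtain ⟨v, hv⟩ := ih (k * z) w (by rw [← mul_assoc, ← pow_succ]; exact hzw)
      exact hI.div z v hv
  induction m generalizing z w with
  | zero => exact ⟨z, by simp⟩
  | succ m ih =>
    obtain ⟨v, hv⟩ := h1 j z (h ^ m * w) (by rw [← mul_assoc, ← pow_succ']; exact hz)
    have h2 : k ^ j * v - h ^ m * w ∈ I := hI.left _ (by
      have := I.sub_mem hz (I.mul_mem_left (k ^ j) hv)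
      convert this using 1
      ring)
    obtain ⟨u, hu⟩ := ih h2
    refine ⟨u, ?_⟩
    have := I.add_mem hv (I.mul_mem_left h hu)
    convert this using 1
    ring

end Groth.Agent.H9Pur

end
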