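import Groth.Agent.H9Pur.RetractAlg

/-!
# Maps of sections on the punctured spectrum lift along thickenings

A compatible family of maps modulo `J` between algebras étale on `D(h)` and `D(k)` induces a unique map
of sections on `D(h) ∪ D(k)`, when the base is complete for `J`.
-/

set_option autoImplicit false
set_option linter.style.haveILetI false

universe u

open Groth.Agent.Pi1Ext.RegPurity IsLocalRing

noncomputable section

namespace Groth.Agent.H9Pur

variable {A : Type u} [CommRing A] (J : Ideal A) {B C : Type u} [CommRing B] [CommRing C] [Algebra A B]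
  [Algebra A C]

/-- The ideal of the `n`-th thickening. -/
abbrev Th (B : Type u) [CommRing B] [Algebra A B] (n : ℕ) (g : A) : Ideal (L B g) :=
  (J ^ (n + 1)).map (algebraMap A (L B g))

/-- The functions on the `n`-th thickening. -/
abbrev TQ (B : Type u) [CommRing B] [Algebra A B] (n : ℕ) (g : A) : Type u := L B g ⧸ Th J B n g

/-- The quotient map to a thickening. -/
abbrev tq (n : ℕ) (g : A) : L B g →ₐ[A] TQ J B n g := Ideal.Quotient.mkₐ A _

theorem Th_le {m n : ℕ} (g : A) (h : m ≤ n) : Th J B n g ≤ Th J B m g :=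
  Ideal.map_mono (Ideal.pow_le_pow_right (by omega))

/-- Reduction of thickenings. -/
def tred {m n : ℕ} (g : A) (h : m ≤ n) : TQ J B n g →ₐ[A] TQ J B m g :=
  Ideal.Quotient.factorₐ A (Th_le J g h)

theorem tred_tq {m n : ℕ} (g : A) (h : m ≤ n) (z : L B g) : tred J g h (tq J n g z) = tq J m g z := rfl

theorem tred_surjective {m n : ℕ} (g : A) (h : m ≤ n) : Function.Surjective (tred J (B := B) g h) := fun y => by
  obtain ⟨z, rfl⟩ := Ideal.Quotient.mk_surjective y
  exact ⟨_, tred_tq J g h z⟩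

theorem isNilpotent_ker_tred (n : ℕ) (g : A) :
    IsNilpotent (RingHom.ker (tred J (B := B) g (Nat.zero_le n) : TQ J B n g →+* TQ J B 0 g)) := by
  refine ⟨n + 1, ?_⟩
  have h1 : RingHom.ker (tred J (B := B) g (Nat.zero_le n) : TQ J B n g →+* TQ J B 0 g)
      = (Th J B 0 g).map (Ideal.Quotient.mk (Th J B n g)) := Ideal.Quotient.factor_ker (Th_le J g (Nat.zero_le n))
  rw [h1, Ideal.zero_eq_bot, ← Ideal.map_pow, Ideal.map_eq_bot_iff_le_ker, Ideal.mk_ker, ← Ideal.map_pow,
    ← pow_mul, zero_add, one_mul]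

theorem tred_tred {l m n : ℕ} (g : A) (h : l ≤ m) (h' : m ≤ n) (x : TQ J B n g) :
    tred J g h (tred J g h' x) = tred J g (h.trans h') x := by
  obtain ⟨z, hz⟩ : ∃ z, tq J n g z = x := Ideal.Quotient.mk_surjective x
  rw [← hz, tred_tq, tred_tq, tred_tq]

/-- The map of thickenings induced by a restriction. -/
def tres {g g' : A} (f : L B g →ₐ[B] L B g') (n : ℕ) : TQ J B n g →ₐ[A] TQ J B n g' :=
  Ideal.quotientMapₐ (Th J B n g') (f.restrictScalars A) (by
    refine Ideal.map_le_iff_le_comap.2 fun r hr => ?_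
    rw [Ideal.mem_comap, Ideal.mem_comap, AlgHom.commutes]
    exact Ideal.mem_map_of_mem _ hr)

theorem tres_tq {g g' : A} (f : L B g →ₐ[B] L B g') (n : ℕ) (z : L B g) :
    tres J f n (tq J n g z) = tq J n g' (f z) := rfl

theorem tred_tres {g g' : A} (f : L B g →ₐ[B] L B g') {m n : ℕ} (h : m ≤ n) (x : TQ J B n g) :
    tred J g' h (tres J f n x) = tres J f m (tred J g h x) := by
  obtain ⟨z, hz⟩ : ∃ z, tq J n g z = x := Ideal.Quotient.mk_surjective x
  rw [← hz, tred_tq, tres_tq, tres_tq, tred_tq]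

/-- A map killing nothing extends over a thickening of the source. -/
def tbar {g g' : A} {n : ℕ} (f : L C g →ₐ[A] TQ J B n g') : TQ J C n g →ₐ[A] TQ J B n g' :=
  Ideal.Quotient.liftₐ (Th J C n g) f fun z hz => by
    have hle : Th J C n g ≤ RingHom.ker f := Ideal.map_le_iff_le_comap.2 fun r hr => by
      rw [Ideal.mem_comap, RingHom.mem_ker, AlgHom.commutes, IsScalarTower.algebraMap_apply A (L B g') (TQ J B n g'),
        Ideal.Quotient.algebraMap_eq, Ideal.Quotient.eq_zero_iff_mem]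
      exact Ideal.mem_map_of_mem _ hr
    exact hle hz

theorem tbar_tq {g g' : A} {n : ℕ} (f : L C g →ₐ[A] TQ J B n g') (z : L C g) :
    tbar J f (tq J n g z) = f z := rfl

/-- The lift of a map to the thickenings. -/
def tlift (n : ℕ) (g : A) (hg : EtAway A C g) (u : L C g →ₐ[A] TQ J B 0 g) : L C g →ₐ[A] TQ J B n g :=
  haveI : Algebra.Etale A (L C g) := hg
  Algebra.FormallySmooth.liftOfSurjective u (tred J g (Nat.zero_le n))
    (tred_surjective J g (Nat.zero_le n)) (isNilpotent_ker_tred J n g)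

theorem tred_tlift (n : ℕ) (g : A) (hg : EtAway A C g) (u : L C g →ₐ[A] TQ J B 0 g) (z : L C g) :
    tred J g (Nat.zero_le n) (tlift J n g hg u z) = u z := by
  unfold tlift
  haveI : Algebra.Etale A (L C g) := hg
  exact Algebra.FormallySmooth.liftOfSurjective_apply u (tred J g (Nat.zero_le n))
    (tred_surjective J g (Nat.zero_le n)) (isNilpotent_ker_tred J n g) z

theorem tlift_unique (n : ℕ) {g g' : A} (hg : EtAway A C g) (f₁ f₂ : L C g →ₐ[A] TQ J B n g')
    (h : ∀ z, tred J g' (Nat.zero_le n) (f₁ z) = tred J g' (Nat.zero_le n) (f₂ z)) (z : L C g) : f₁ z = f₂ z := by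
  haveI : Algebra.Etale A (L C g) := hg
  exact DFunLike.congr_fun (Algebra.FormallyUnramified.lift_unique' (tred J g' (Nat.zero_le n))
    (isNilpotent_ker_tred J n g') f₁ f₂ (AlgHom.ext h)) z

theorem tred_tlift' {m n : ℕ} (h : m ≤ n) (g : A) (hg : EtAway A C g) (u : L C g →ₐ[A] TQ J B 0 g) (z : L C g) :
    tred J g h (tlift J n g hg u z) = tlift J m g hg u z :=
  tlift_unique J m hg ((tred J g h).comp (tlift J n g hg u)) (tlift J m g hg u) (fun z => by
    rw [AlgHom.comp_apply, tred_tred, tred_tlift, tred_tlift]) z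

/-- Maps modulo `J` on the two opens and their intersection. -/
structure Compat (C B : Type u) [CommRing B] [CommRing C] [Algebra A B] [Algebra A C] (h k : A) where
  eh : EtAway A C h
  ek : EtAway A C k
  ehk : EtAway A C (h * k)
  u₁ : L C h →ₐ[A] TQ J B 0 h
  u₂ : L C k →ₐ[A] TQ J B 0 k
  u₁₂ : L C (h * k) →ₐ[A] TQ J B 0 (h * k)
  comm₁ : ∀ z, tres J (res₁ h k) 0 (u₁ z) = u₁₂ (res₁ h k z)
  comm₂ : ∀ z, tres J (res₂ h k) 0 (u₂ z) = u₁₂ (res₂ h k z)

variable {J} {h k : A} (U : Compat J C B h k)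

theorem Compat.comm₁_lift (n : ℕ) (z : L C h) :
    tres J (res₁ h k) n (tlift J n h U.eh U.u₁ z) = tlift J n (h * k) U.ehk U.u₁₂ (res₁ h k z) :=
  tlift_unique J n U.eh ((tres J (res₁ h k) n).comp (tlift J n h U.eh U.u₁))
    ((tlift J n (h * k) U.ehk U.u₁₂).comp ((res₁ h k).restrictScalars A)) (fun z => by
      rw [AlgHom.comp_apply, AlgHom.comp_apply, tred_tres, tred_tlift, tred_tlift]
      exact U.comm₁ z) z

theorem Compat.comm₂_lift (n : ℕ) (z : L C k) :
    tres J (res₂ h k) n (tlift J n k U.ek U.u₂ z) = tlift J n (h * k) U.ehk U.u₁₂ (res₂ h k z) :=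
  tlift_unique J n U.ek ((tres J (res₂ h k) n).comp (tlift J n k U.ek U.u₂))
    ((tlift J n (h * k) U.ehk U.u₁₂).comp ((res₂ h k).restrictScalars A)) (fun z => by
      rw [AlgHom.comp_apply, AlgHom.comp_apply, tred_tres, tred_tlift, tred_tlift]
      exact U.comm₂ z) z

variable (E : Hull A B h k)

/-- `x` represents the image of the section `s` on the `n`-th thickening. -/
def Compat.IsImg (n : ℕ) (s : sect C h k) (x : Fin E.p → A) : Prop :=
  (∀ j, E.a x j ∈ J ^ (n + 1)) ∧ tq J n h (E.Φ₁ x) = tlift J n h U.eh U.u₁ s.1.1 ∧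
    tq J n k (E.Φ₂ x) = tlift J n k U.ek U.u₂ s.1.2

variable (hP : ∀ n, PairMod h k (J ^ n))

include hP in
theorem Compat.isImg_unique {n : ℕ} {s : sect C h k} {x x' : Fin E.p → A} (hx : U.IsImg E n s x)
    (hx' : U.IsImg E n s x') (i : Fin E.p) : x i - x' i ∈ J ^ (n + 1) := by
  refine E.unique (hP (n + 1)) (x := x - x') (fun j => ?_) ?_ i
  · rw [map_sub]; exact sub_mem (hx.1 j) (hx'.1 j)
  · rw [map_sub, ← Ideal.Quotient.eq]; exact hx.2.1.trans hx'.2.1.symm

include hP in
theorem Compat.exists_isImg (n : ℕ) (s : sect C h k) : ∃ x, U.IsImg E n s x := by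
  obtain ⟨v₁, hv₁⟩ := Ideal.Quotient.mk_surjective (tlift J n h U.eh U.u₁ s.1.1)
  obtain ⟨v₂, hv₂⟩ := Ideal.Quotient.mk_surjective (tlift J n k U.ek U.u₂ s.1.2)
  have e : tres J (res₁ h k) n (tq J n h v₁) = tres J (res₂ h k) n (tq J n k v₂) := by
    rw [show tq J n h v₁ = _ from hv₁, show tq J n k v₂ = _ from hv₂, U.comm₁_lift, U.comm₂_lift,
      show res₁ h k s.1.1 = res₂ h k s.1.2 from s.2]
  rw [tres_tq, tres_tq] at e
  obtain ⟨x, hax, h1, h2⟩ := E.glue (hP (n + 1)) v₁ v₂ (Ideal.Quotient.eq.1 e)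
  exact ⟨x, hax, (Ideal.Quotient.eq.2 h1).trans hv₁, (Ideal.Quotient.eq.2 h2).trans hv₂⟩

theorem Compat.isImg_mono {m n : ℕ} (hmn : m ≤ n) {s : sect C h k} {x : Fin E.p → A} (hx : U.IsImg E n s x) :
    U.IsImg E m s x :=
  ⟨fun j => Ideal.pow_le_pow_right (by omega) (hx.1 j), by rw [← tred_tq J h hmn, hx.2.1, tred_tlift'],
    by rw [← tred_tq J k hmn, hx.2.2, tred_tlift']⟩

theorem map_mem_Th {p : ℕ} {n : ℕ} {g : A} (f : (Fin p → A) →ₗ[A] L B g) {x : Fin p → A}
    (hx : ∀ i, x i ∈ J ^ (n + 1)) : f x ∈ Th J B n g := by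
  rw [apply_eq_sum f x]
  refine Ideal.sum_mem _ fun i _ => ?_
  rw [Algebra.smul_def]
  exact Ideal.mul_mem_right _ _ (Ideal.mem_map_of_mem _ (hx i))

variable [IsAdicComplete J A]

theorem eq_zero_of_forall_mem {z : A} (hz : ∀ n, z ∈ J ^ (n + 1)) : z = 0 :=
  IsHausdorff.haus (I := J) inferInstance z fun n => SModEq.zero.2 (by
    rw [smul_eq_mul, Ideal.mul_top]; exact Ideal.pow_le_pow_right n.le_succ (hz n))

include hP in
/-- A section of `B` is determined by its restrictions to the thickenings. -/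
theorem sect_ext {s s' : sect B h k} (E : Hull A B h k) (hbot : PairMod h k ⊥)
    (hs : ∀ n, tq J n h s.1.1 = tq J n h s'.1.1) : s = s' := by
  obtain ⟨x, hx⟩ := (E.bijective_toSections hbot).2 (s - s')
  refine sub_eq_zero.1 ?_
  rw [← hx]
  have : x = 0 := Subtype.ext (funext fun i => eq_zero_of_forall_mem (J := J) fun n =>
    E.unique (hP (n + 1)) (x := x.1) (fun j => by rw [LinearMap.mem_ker.1 x.2]; exact zero_mem _) (by
      have h1 : E.Φ₁ x.1 = s.1.1 - s'.1.1 := congrArg (fun v : sect B h k => v.1.1) hx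
      rw [h1]
      exact Ideal.Quotient.eq.1 (hs n)) i)
  rw [this, map_zero]

include U E hP in
theorem Compat.exists_img (s : sect C h k) :
    ∃ s' : sect B h k, ∀ n, tq J n h s'.1.1 = tlift J n h U.eh U.u₁ s.1.1 ∧
      tq J n k s'.1.2 = tlift J n k U.ek U.u₂ s.1.2 := by
  choose f hf using fun n => U.exists_isImg E hP n s
  have hff : ∀ {m n}, m ≤ n → ∀ i, f m i - f n i ∈ J ^ (m + 1) := fun hmn i =>
    U.isImg_unique E hP (hf _) (U.isImg_mono E hmn (hf _)) i
  have hlim : ∀ i, ∃ l : A, ∀ n, f n i ≡ l [SMOD (J ^ n • ⊤ : Submodule A A)] := fun i =>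
    IsPrecomplete.prec (I := J) inferInstance (f := fun n => f n i) fun {m n} hmn => SModEq.sub_mem.2 (by
      rw [smul_eq_mul, Ideal.mul_top]
      exact Ideal.pow_le_pow_right m.le_succ (hff hmn i))
  choose l hl using hlim
  have hln : ∀ n i, l i - f n i ∈ J ^ (n + 1) := fun n i => by
    have h1 := SModEq.sub_mem.1 (hl i (n + 1))
    rw [smul_eq_mul, Ideal.mul_top] at h1
    have h2 := hff n.le_succ i
    have h3 := add_mem (neg_mem h1) (neg_mem h2)
    convert h3 using 1
    ring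
  have ha : E.a l = 0 := funext fun j => eq_zero_of_forall_mem (J := J) fun n => by
    have h1 : E.a (l - f n) j ∈ J ^ (n + 1) := by
      rw [apply_eq_sum E.a (l - f n), Finset.sum_apply]
      exact Ideal.sum_mem _ fun i _ => Ideal.mul_mem_right _ _ (hln n i)
    have h2 := add_mem h1 ((hf n).1 j)
    rwa [map_sub, Pi.sub_apply, sub_add_cancel] at h2
  refine ⟨E.toSections ⟨l, LinearMap.mem_ker.2 ha⟩, fun n => ⟨?_, ?_⟩⟩
  · show tq J n h (E.Φ₁ l) = _
    rw [← (hf n).2.1, Ideal.Quotient.mkₐ_eq_mk, Ideal.Quotient.eq, ← map_sub]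
    exact map_mem_Th E.Φ₁ (hln n)
  · show tq J n k (E.Φ₂ l) = _
    rw [← (hf n).2.2, Ideal.Quotient.mkₐ_eq_mk, Ideal.Quotient.eq, ← map_sub]
    exact map_mem_Th E.Φ₂ (hln n)

variable (hbot : PairMod h k ⊥)

/-- The induced map of sections. -/
def Compat.map : sect C h k →ₐ[A] sect B h k where
  toFun s := (U.exists_img E hP s).choose
  map_one' := sect_ext hP E hbot fun n => by
    rw [((U.exists_img E hP 1).choose_spec n).1]; exact (map_one _).trans (map_one (tq J n h)).symm
  map_mul' a b := sect_ext hP E hbot fun n => by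
    rw [((U.exists_img E hP (a * b)).choose_spec n).1]
    show tlift J n h U.eh U.u₁ (a.1.1 * b.1.1) = tq J n h (_ * _)
    rw [map_mul, map_mul, ((U.exists_img E hP a).choose_spec n).1, ((U.exists_img E hP b).choose_spec n).1]
  map_zero' := sect_ext hP E hbot fun n => by
    rw [((U.exists_img E hP 0).choose_spec n).1]; exact (map_zero _).trans (map_zero (tq J n h)).symm
  map_add' a b := sect_ext hP E hbot fun n => by
    rw [((U.exists_img E hP (a + b)).choose_spec n).1]
    show tlift J n h U.eh U.u₁ (a.1.1 + b.1.1) = tq J n h (_ + _)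
    rw [map_add, map_add, ((U.exists_img E hP a).choose_spec n).1, ((U.exists_img E hP b).choose_spec n).1]
  commutes' r := sect_ext hP E hbot fun n => by
    rw [((U.exists_img E hP (algebraMap A _ r)).choose_spec n).1]
    exact (AlgHom.commutes _ r).trans (AlgHom.commutes (tq J n h) r).symm

theorem Compat.map_spec (s : sect C h k) (n : ℕ) :
    tq J n h (U.map E hP hbot s).1.1 = tlift J n h U.eh U.u₁ s.1.1 :=
  ((U.exists_img E hP s).choose_spec n).1

theorem Compat.map_map (V : Compat J B C h k) (D : Hull A C h k)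
    (hinv : ∀ z w, U.u₁ z = tq J 0 h w → V.u₁ w = tq J 0 h z) (s : sect C h k) :
    V.map D hP hbot (U.map E hP hbot s) = s := by
  refine sect_ext hP D hbot fun n => ?_
  rw [V.map_spec, ← tbar_tq J (tlift J n h V.eh V.u₁), U.map_spec]
  refine tlift_unique J n U.eh ((tbar J (tlift J n h V.eh V.u₁)).comp (tlift J n h U.eh U.u₁)) (tq J n h)
    (fun z => ?_) s.1.1
  obtain ⟨w, hw⟩ := Ideal.Quotient.mk_surjective (tlift J n h U.eh U.u₁ z)
  rw [AlgHom.comp_apply, show tlift J n h U.eh U.u₁ z = tq J n h w from hw.symm, tbar_tq, tred_tlift, tred_tq]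
  exact hinv z w (by rw [← tred_tlift J n h U.eh U.u₁ z, ← hw]; rfl)

/-- An isomorphism modulo `J` gives an isomorphism of sections. -/
def Compat.equiv (V : Compat J B C h k) (D : Hull A C h k)
    (h₁ : ∀ z w, U.u₁ z = tq J 0 h w → V.u₁ w = tq J 0 h z)
    (h₂ : ∀ z w, V.u₁ z = tq J 0 h w → U.u₁ w = tq J 0 h z) : sect C h k ≃ₐ[A] sect B h k :=
  AlgEquiv.ofAlgHom (U.map E hP hbot) (V.map D hP hbot)
    (AlgHom.ext fun s => V.map_map D hP hbot U E h₂ s) (AlgHom.ext fun s => U.map_map E hP hbot V D h₁ s)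

end Groth.Agent.H9Pur

end
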