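import Groth.Agent.H9Pur.Present
import Groth.Agent.FormalFib6.Cplt
import Mathlib.RingTheory.Flat.FaithfullyFlat.Algebra
import Mathlib.RingTheory.AdicCompletion.LocalRing
import Mathlib.RingTheory.AdicCompletion.AsTensorProduct

/-!
# The adic completion of a local ring along a proper ideal
-/

set_option autoImplicit false
set_option linter.style.haveILetI false

universe u

open IsLocalRing

noncomputable section

namespace Groth.Agent.H9Pur

variable {A : Type u} [CommRing A] [IsNoetherianRing A] [IsLocalRing A] (J : Ideal A)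

theorem isLocalRing_adic (hJ : J ≤ maximalIdeal A) : IsLocalRing (AdicCompletion J A) := by
  have fg : J.FG := IsNoetherian.noetherian _
  haveI := AdicCompletion.isAdicComplete_self J fg
  haveI hmax := AdicCompletion.isMaximal_map_of_le J (maximalIdeal A) hJ fg
  refine IsLocalRing.of_unique_max_ideal ⟨_, hmax, fun M hM => ?_⟩
  have hle : J.map (algebraMap A (AdicCompletion J A)) ≤ M :=
    (IsAdicComplete.le_jacobson_bot _).trans (sInf_le ⟨bot_le, hM⟩)
  haveI := hM
  have key : ∀ (N : Ideal (AdicCompletion J A)) [N.IsMaximal], J.map (algebraMap A (AdicCompletion J A)) ≤ N →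
      ((maximalIdeal A).map (Ideal.Quotient.mk J)).comap (AdicCompletion.evalOneₐ J).toRingHom = N := by
    intro N _ hN
    have h1 : (N.map (AdicCompletion.evalOneₐ J).toRingHom).IsMaximal :=
      Ideal.IsMaximal.map_of_surjective_of_ker_le (f := (AdicCompletion.evalOneₐ J).toRingHom)
        (AdicCompletion.evalOneₐ_surjective J) ((AdicCompletion.ker_evalOneₐ_eq_map J fg).le.trans hN)
    have h2 : ((maximalIdeal A).map (Ideal.Quotient.mk J)).IsMaximal :=
      Ideal.IsMaximal.map_of_surjective_of_ker_le Ideal.Quotient.mk_surjective (by rwa [Ideal.mk_ker])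
    haveI : Nontrivial (A ⧸ J) := Ideal.Quotient.nontrivial_iff.2 fun htop =>
      (maximalIdeal.isMaximal A).ne_top (top_le_iff.1 (htop ▸ hJ))
    haveI : IsLocalRing (A ⧸ J) := IsLocalRing.of_surjective' _ Ideal.Quotient.mk_surjective
    rw [IsLocalRing.eq_maximalIdeal h2, ← IsLocalRing.eq_maximalIdeal h1,
      Ideal.comap_map_of_surjective' (AdicCompletion.evalOneₐ J).toRingHom (AdicCompletion.evalOneₐ_surjective J),
      AdicCompletion.ker_evalOneₐ_eq_map J fg, sup_eq_left]
    exact hN
  rw [← key M hle, key _ (Ideal.map_mono hJ)]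

theorem maximalIdeal_adic (hJ : J ≤ maximalIdeal A) :
    haveI := isLocalRing_adic J hJ
    maximalIdeal (AdicCompletion J A) = (maximalIdeal A).map (algebraMap A (AdicCompletion J A)) :=
  haveI := isLocalRing_adic J hJ
  (IsLocalRing.eq_maximalIdeal (AdicCompletion.isMaximal_map_of_le J (maximalIdeal A) hJ (IsNoetherian.noetherian _))).symm

theorem faithfullyFlat_adic (hJ : J ≤ maximalIdeal A) : Module.FaithfullyFlat A (AdicCompletion J A) := by
  haveI := isLocalRing_adic J hJ
  haveI : Module.Flat A (AdicCompletion J A) := AdicCompletion.flat_of_isNoetherian _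
  haveI : IsLocalHom (algebraMap A (AdicCompletion J A)) := by
    refine ((IsLocalRing.local_hom_TFAE (algebraMap A (AdicCompletion J A))).out 0 2).2 ?_
    rw [maximalIdeal_adic J hJ]
  exact Module.FaithfullyFlat.of_flat_of_isLocalHom

omit [IsLocalRing A] in
theorem exists_approx (n : ℕ) (x : AdicCompletion J A) :
    ∃ a : A, x - algebraMap A (AdicCompletion J A) a ∈ (J ^ n).map (algebraMap A (AdicCompletion J A)) := by
  have h1 : ∀ y : AdicCompletion J A, ∃ a : A, y - algebraMap A _ a ∈ J.map (algebraMap A (AdicCompletion J A)) :=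
    fun y => by
      obtain ⟨a, ha⟩ := Ideal.Quotient.mk_surjective (AdicCompletion.evalOneₐ J y)
      refine ⟨a, ?_⟩
      rw [← AdicCompletion.ker_evalOneₐ_eq_map J (IsNoetherian.noetherian _), RingHom.mem_ker]
      show AdicCompletion.evalOneₐ J (y - algebraMap A _ a) = 0
      rw [map_sub, AlgHom.commutes, ← ha, Ideal.Quotient.algebraMap_eq, sub_self]
  induction n with
  | zero => exact ⟨0, by simp [Ideal.map_top]⟩
  | succ n ih =>
    obtain ⟨a, ha⟩ := ih
    suffices ∀ y ∈ (J ^ n).map (algebraMap A (AdicCompletion J A)), ∃ b : A,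
        y - algebraMap A _ b ∈ (J ^ (n + 1)).map (algebraMap A (AdicCompletion J A)) by
      obtain ⟨b, hb⟩ := this _ ha
      exact ⟨a + b, by convert hb using 1; rw [map_add]; ring⟩
    intro y hy
    induction hy using Submodule.span_induction with
    | mem y hy =>
      obtain ⟨j, hj, rfl⟩ := hy
      exact ⟨j, by rw [sub_self]; exact zero_mem _⟩
    | zero => exact ⟨0, by simp⟩
    | add y y' _ _ hy hy' =>
      obtain ⟨b, hb⟩ := hy
      obtain ⟨b', hb'⟩ := hy'
      exact ⟨b + b', by convert add_mem hb hb' using 1; rw [map_add]; ring⟩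
    | smul r y hy hy' =>
      obtain ⟨b, hb⟩ := hy'
      obtain ⟨c, hc⟩ := h1 r
      refine ⟨c * b, ?_⟩
      have h2 : (r - algebraMap A _ c) * y ∈ (J ^ (n + 1)).map (algebraMap A (AdicCompletion J A)) := by
        rw [pow_succ', Ideal.map_mul]
        exact Ideal.mul_mem_mul hc hy
      convert add_mem h2 (Ideal.mul_mem_left _ (algebraMap A _ c) hb) using 1
      rw [smul_eq_mul, map_mul]
      ring

theorem pairMod_adic (hJ : J ≤ maximalIdeal A) {h k : A} {n : ℕ} (hP : PairMod h k (J ^ n)) :
    PairMod (algebraMap A (AdicCompletion J A) h) (algebraMap A (AdicCompletion J A) k)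
      ((J.map (algebraMap A (AdicCompletion J A))) ^ n) := by
  haveI := faithfullyFlat_adic J hJ
  let χ := algebraMap A (AdicCompletion J A)
  have hiff : ∀ a : A, χ a ∈ (J ^ n).map χ ↔ a ∈ J ^ n := fun a => by
    conv_rhs => rw [← Ideal.comap_map_eq_self_of_faithfullyFlat (B := AdicCompletion J A) (J ^ n)]
    rfl
  rw [← Ideal.map_pow]
  refine ⟨fun z hz => ?_, fun z hz => ?_, fun z w hz => ?_⟩
  · obtain ⟨a, ha⟩ := exists_approx J n z
    have h1 : χ (h * a) ∈ (J ^ n).map χ := by
      convert sub_mem hz (Ideal.mul_mem_left _ (χ h) ha) using 1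
      rw [map_mul]; ring
    convert add_mem ha ((hiff a).2 (hP.left a ((hiff _).1 h1))) using 1
    ring
  · obtain ⟨a, ha⟩ := exists_approx J n z
    have h1 : χ (k * a) ∈ (J ^ n).map χ := by
      convert sub_mem hz (Ideal.mul_mem_left _ (χ k) ha) using 1
      rw [map_mul]; ring
    convert add_mem ha ((hiff a).2 (hP.right a ((hiff _).1 h1))) using 1
    ring
  · obtain ⟨a, ha⟩ := exists_approx J n z
    obtain ⟨b, hb⟩ := exists_approx J n w
    have h1 : χ (k * a - h * b) ∈ (J ^ n).map χ := by
      convert add_mem (sub_mem hz (Ideal.mul_mem_left _ (χ k) ha)) (Ideal.mul_mem_left _ (χ h) hb) using 1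
      rw [map_sub, map_mul, map_mul]; ring
    obtain ⟨v, hv⟩ := hP.div a b ((hiff _).1 h1)
    refine ⟨χ v, ?_⟩
    convert add_mem ha ((hiff _).2 hv) using 1
    rw [map_sub, map_mul]; ring

end Groth.Agent.H9Pur

end
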