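import Groth.Agent.Pi1X.NormalCover
import Groth.Agent.EtNorm.Basic
import Groth.Agent.SchTop.Closed

/-! Restriction of finite étale covers to a dense open of a normal noetherian scheme. -/

set_option autoImplicit false
set_option linter.style.haveILetI false
set_option backward.isDefEq.respectTransparency false
set_option backward.isDefEq.respectTransparency.types false

universe u

open AlgebraicGeometry CategoryTheory CategoryTheory.Limits TopologicalSpace

namespace Groth.Agent.H9Pur

/-- The local rings of a finite étale cover of a normal noetherian scheme are domains. -/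
theorem isDomain_stalk_of_cover {X : Scheme.{u}} [AlgebraicGeometry.IsNoetherian X] (hX : Pi1.IsNormalScheme X)
    {W : Scheme.{u}} (h : W ⟶ X) [IsFinite h] [Etale h] (w : W) : IsDomain (W.presheaf.stalk w) := by
  obtain ⟨ι, _, Z, hint, -, hcov⟩ := EtNorm.exists_components X hX
  obtain ⟨i, hi⟩ := hcov (h w)
  haveI := hint i
  have hZn : Pi1.IsNormalScheme (Z i).toScheme := fun z => by
    obtain ⟨hd, hn⟩ := hX ((Z i).ι z)
    haveI := hd
    let e := (asIso ((Z i).ι.stalkMap z)).commRingCatIsoToRingEquiv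
    exact ⟨e.symm.toMulEquiv.isDomain _, haveI := hn; IsIntegrallyClosed.of_equiv e⟩
  haveI : Etale (h ∣_ Z i) := IsZariskiLocalAtTarget.restrict ‹Etale h› (Z i)
  haveI : IsFinite (h ∣_ Z i) := IsZariskiLocalAtTarget.restrict ‹IsFinite h› (Z i)
  let w' : ↥(h ⁻¹ᵁ Z i : Scheme.{u}) := ⟨w, hi⟩
  haveI := (Pi1X.isNormalScheme_of_finite_etale hZn (h ∣_ Z i) w').1
  exact (asIso ((h ⁻¹ᵁ Z i).ι.stalkMap w')).commRingCatIsoToRingEquiv.toMulEquiv.isDomain _

/-- Restriction to a dense open is fully faithful over normal noetherian schemes. -/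
theorem restrict_fullyFaithful_of_dense {X : Scheme.{u}} [AlgebraicGeometry.IsNoetherian X]
    (hX : Pi1.IsNormalScheme X) {P : Scheme.{u}} (i : P ⟶ X) [IsOpenImmersion i]
    (hU : Dense (Set.range i.base)) : (FEt.restrict i).Full ∧ (FEt.restrict i).Faithful := by
  have h : ∀ C : Set X, IsClopen C → C.Nonempty → (C ∩ Set.range i.base).Nonempty :=
    fun C hC hne => hU.inter_open_nonempty C hC.2 hne
  refine ⟨Pi1X.restrict_full i h fun W C hC => ?_, Pi1X.restrict_faithful i h⟩
  haveI : IsFinite W.hom := W.prop.1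
  haveI : Etale W.hom := W.prop.2
  let g : W.left ⟶ X := W.hom
  haveI : IsFinite g := W.prop.1
  haveI : Etale g := W.prop.2
  haveI : IsLocallyNoetherian W.left := LocallyOfFiniteType.isLocallyNoetherian g
  haveI : CompactSpace W.left := QuasiCompact.compactSpace_of_compactSpace g
  haveI : AlgebraicGeometry.IsNoetherian W.left := { }
  have hd : ∀ w : W.left, IsDomain (W.left.presheaf.stalk w) := isDomain_stalk_of_cover hX g
  have hfin : (irreducibleComponents W.left).Finite := NoetherianSpace.finite_irreducibleComponents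
  let j := pullback.fst W.hom i
  let S : Set (Set W.left) := {Z ∈ irreducibleComponents W.left | (Z ∩ j.base '' C).Nonempty}
  have hoj : ∀ T : Set ↥(pullback W.hom i), IsOpen T → IsOpen (j.base '' T) := fun T hT =>
    j.isOpenEmbedding.isOpenMap T hT
  refine ⟨⋃ Z ∈ S, Z, ⟨?_, ?_⟩, ?_⟩
  · exact (hfin.subset fun Z hZ => hZ.1).isClosed_biUnion fun Z hZ =>
      isClosed_of_mem_irreducibleComponents Z hZ.1
  · exact isOpen_biUnion fun Z hZ => SchTop.isOpen_component_of_finite hfin hd hZ.1
  ext p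
  simp only [Set.mem_preimage, Set.mem_iUnion₂]
  constructor
  · rintro ⟨Z, ⟨hZ, c, hcZ, hc⟩, hpZ⟩
    by_contra hp
    obtain ⟨z, -, ⟨a, ha, rfl⟩, b, hb, hab⟩ := hZ.1.2 (j.base '' C) (j.base '' Cᶜ) (hoj C hC.2)
      (hoj _ hC.1.isOpen_compl) ⟨c, hcZ, hc⟩ ⟨_, hpZ, p, hp, rfl⟩
    exact hb (j.isOpenEmbedding.injective hab ▸ ha)
  · intro hp
    obtain ⟨Z, hZ, hpZ⟩ := Set.mem_sUnion.1
      ((sUnion_irreducibleComponents (X := W.left)).ge (Set.mem_univ (j.base p)))
    exact ⟨Z, ⟨hZ, _, hpZ, p, hp, rfl⟩, hpZ⟩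

end Groth.Agent.H9Pur
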