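import Groth.Agent.H9Pur.Birational
import Groth.Agent.H9Pur.DenseFF
import Groth.Agent.S4440
import Groth.Agent.S0005

/-! Extension of a birational map to a big open, over which covers are unchanged. -/

set_option autoImplicit false
set_option linter.style.haveILetI false

universe u

open AlgebraicGeometry CategoryTheory

namespace Groth.Agent.H9Pur

theorem isNoetherian_opens {X : Scheme.{u}} [AlgebraicGeometry.IsNoetherian X] (U : X.Opens) :
    AlgebraicGeometry.IsNoetherian (U : Scheme.{u}) := by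
  haveI : IsLocallyNoetherian (U : Scheme.{u}) := isLocallyNoetherian_of_isOpenImmersion U.ι
  haveI : CompactSpace ↥(U : Scheme.{u}) := isCompact_iff_compactSpace.mp (TopologicalSpace.NoetherianSpace.isCompact _)
  exact ⟨⟩

theorem exists_big_extension {S X Y : Scheme.{u}} [IsLocallyNoetherian S] [AlgebraicGeometry.IsNoetherian X]
    (f : X ⟶ S) (g : Y ⟶ S) [IsProper g] (hX : ∀ x : X, IsRegularLocalRing (X.presheaf.stalk x))
    (U : X.Opens) (hU : Dense (U : Set X)) (m : (U : Scheme.{u}) ⟶ Y) (hm : m ≫ g = U.ι ≫ f) :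
    ∃ (U₀ : X.Opens) (hle : U ≤ U₀) (a : (U₀ : Scheme.{u}) ⟶ Y), a ≫ g = U₀.ι ≫ f ∧
      X.homOfLE hle ≫ a = m ∧ (FEt.restrict U₀.ι).IsEquivalence := by
  haveI : IsReduced X := by
    haveI : ∀ x : X, _root_.IsReduced (X.presheaf.stalk x) := fun x => by
      haveI := hX x
      haveI := RegLoc6.isDomain_of_isRegularLocalRing (X.presheaf.stalk x)
      infer_instance
    exact isReduced_of_isReduced_stalk X
  obtain ⟨U₀, hle, a, ha, ham, h1⟩ := S4440.result g f (fun x _ => hX x) U hU m hm
  exact ⟨U₀, hle, a, ha, ham, S0005.result X hX U₀ fun x hx =>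
    two_le_of_one_lt (not_le.mp fun h => hx (h1 x h))⟩

end Groth.Agent.H9Pur
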