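import Groth.Prelude.Def_FEt
import Groth.Agent.Pi1X.NormalCover
import Groth.Agent.RegLoc6.Normal

/-! Helpers for the birational invariance of finite étale covers. -/

set_option autoImplicit false
set_option linter.style.haveILetI false

universe u

open AlgebraicGeometry CategoryTheory

namespace Groth.Agent.H9Pur

theorem two_le_of_one_lt {a : WithBot ℕ∞} (h : 1 < a) : 2 ≤ a := by
  induction a using WithBot.recBotCoe with
  | bot => simp at h
  | coe b =>
    have h2 : (1 : ℕ∞) < b := WithBot.coe_lt_coe.mp h
    exact WithBot.coe_le_coe.mpr (show (2 : ℕ∞) ≤ b by simpa [one_add_one_eq_two] using Order.add_one_le_of_lt h2)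

theorem isNormalScheme_of_regular {X : Scheme.{u}} (h : ∀ x : X, IsRegularLocalRing (X.presheaf.stalk x)) :
    Pi1.IsNormalScheme X := fun x => by
  haveI := h x
  exact ⟨RegLoc6.isDomain_of_isRegularLocalRing _, RegLoc6.isIntegrallyClosed_of_isRegularLocalRing _⟩

theorem genericPoint_mem_range {P X : Scheme.{u}} [IsIntegral X] [Nonempty P] (i : P ⟶ X) [IsOpenImmersion i] :
    genericPoint X ∈ Set.range i.base :=
  (genericPoint_specializes (i (Classical.arbitrary P))).mem_open i.opensRange.2 ⟨_, rfl⟩

end Groth.Agent.H9Pur
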