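import Groth.Agent.H9Pur.Complete
import Groth.Agent.RegLoc6.Serre
import Groth.Agent.RegLoc6.Normal
import Groth.Agent.EtLoc7.Basic
import Mathlib.RingTheory.ZariskisMainTheorem
import Mathlib.RingTheory.KrullDimension.NonZeroDivisors
import Mathlib.RingTheory.DiscreteValuationRing.TFAE
import Mathlib.RingTheory.Flat.TorsionFree
import Mathlib.RingTheory.Etale.Locus

/-!
# Purity of the branch locus at a point of an algebra over a regular local ring

A quasi-finite point which is normal, of the same dimension as the base, and unramified in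
codimension one is étale.
-/

set_option autoImplicit false
set_option linter.style.haveILetI false

universe u

noncomputable section

namespace Groth.Agent.H9Pur

open IsLocalRing Groth.Agent.Pi1Ext.RegPurity

/-- A finite extension domain which is unramified at a prime of height one over a normal point of the
base is étale there. -/
theorem isEtaleAt_of_unramified_height_one {A C : Type u} [CommRing A] [IsRegularLocalRing A] [CommRing C]
    [IsDomain C] [Algebra A C] [Module.Finite A C] (hinj : Function.Injective (algebraMap A C))
    (p : Ideal C) [p.IsPrime] (hp : p.height = 1)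
    (hu : Algebra.FormallyUnramified A (Localization.AtPrime p)) : Algebra.IsEtaleAt A p := by
  haveI := RegLoc6.isDomain_of_isRegularLocalRing A
  haveI := RegLoc6.isIntegrallyClosed_of_isRegularLocalRing A
  haveI : IsNoetherianRing C := IsNoetherianRing.of_finite A C
  let P := p.comap (algebraMap A C)
  have hP : P.height = 1 := (height_under A C hinj p).symm.trans hp
  let A' := Localization.AtPrime P
  let B := Localization.AtPrime p
  haveI : IsRegularLocalRing A' := RegLoc6.isRegularLocalRing_localization A P
  haveI : IsDomain A' := RegLoc6.isDomain_of_isRegularLocalRing A'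
  haveI : IsDomain B := IsLocalization.isDomain_localization p.primeCompl_le_nonZeroDivisors
  letI : Algebra A' B := (Localization.localRingHom P p (algebraMap A C) rfl).toAlgebra
  haveI : IsScalarTower A A' B := IsScalarTower.of_algebraMap_eq fun a => by
    rw [RingHom.algebraMap_toAlgebra, Localization.localRingHom_to_map,
      IsScalarTower.algebraMap_apply A C B]
  haveI : IsLocalHom (algebraMap A' B) := Localization.isLocalHom_localRingHom _ _ _ _
  haveI : Algebra.EssFiniteType A B := Algebra.EssFiniteType.comp A C B
  haveI : Algebra.EssFiniteType A' B := Algebra.EssFiniteType.of_comp A A' B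
  haveI : Algebra.FormallyUnramified A' B := Algebra.FormallyUnramified.of_restrictScalars A A' B
  haveI hdvr : IsDedekindDomain A' := by
    have hd : ringKrullDim A' = 1 := by
      rw [IsLocalization.AtPrime.ringKrullDim_eq_height P A', hP]; rfl
    haveI : IsPrincipalIdealRing A' := by
      have h1 : (maximalIdeal A').spanFinrank = 1 := by
        have := (isRegularLocalRing_iff A').1 ‹_›
        rw [hd] at this
        exact_mod_cast this
      have h2 : (maximalIdeal A').IsPrincipal := by
        obtain ⟨g, hg⟩ := (maximalIdeal A').fg_iff_exists_fin_generating_family.mp (IsNoetherian.noetherian _) |> fun _ =>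
          Submodule.FG.exists_span_set_encard_eq_spanFinrank (IsNoetherian.noetherian (maximalIdeal A'))
        obtain ⟨x, rfl⟩ := Set.encard_eq_one.mp (hg.1.trans (by rw [h1]; rfl))
        exact ⟨⟨x, hg.2.symm⟩⟩
      exact ((tfae_of_isNoetherianRing_of_isLocalRing_of_isDomain A').out 0 4).mpr h2
    infer_instance
  have hinj' : Function.Injective (algebraMap A' B) := by
    rw [RingHom.algebraMap_toAlgebra]
    exact IsLocalization.map_injective_of_injective' (N := p.primeCompl) (M := P.primeCompl) (Sₘ := B) (hN := fun h => h p.zero_mem) (hf' := hinj) ..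
  haveI : Module.Flat A' B := by
    rw [IsDedekindDomain.flat_iff_torsion_eq_bot, eq_bot_iff]
    rintro x ⟨a, hax⟩
    have : algebraMap A' B a * x = 0 := by rw [← Algebra.smul_def]; exact hax
    exact (mul_eq_zero.mp this).resolve_left fun h => nonZeroDivisors.coe_ne_zero a (hinj' (h.trans (map_zero _).symm))
  haveI : Algebra.FormallyEtale A' B := EtLoc7.formallyEtale_of_formallyUnramified A' B
  haveI : Algebra.FormallyEtale A A' := Algebra.FormallyEtale.of_isLocalization P.primeCompl
  exact Algebra.FormallyEtale.comp A A' B

/-- Purity for finite extension domains: étale in codimension one implies étale at normal points. -/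
theorem isEtaleAt_of_height_one {A C : Type u} [CommRing A] [IsRegularLocalRing A] [CommRing C]
    [IsDomain C] [Algebra A C] [Module.Finite A C] (hinj : Function.Injective (algebraMap A C))
    (q : Ideal C) [q.IsPrime] (hq : 1 ≤ q.height) [IsIntegrallyClosed (Localization.AtPrime q)]
    (h : ∀ (p : Ideal C) [p.IsPrime], p ≤ q → p.height = 1 → Algebra.IsEtaleAt A p) :
    Algebra.IsEtaleAt A q := by
  haveI := RegLoc6.isDomain_of_isRegularLocalRing A
  haveI := RegLoc6.isIntegrallyClosed_of_isRegularLocalRing A
  haveI : IsNoetherianRing C := IsNoetherianRing.of_finite A C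
  haveI : Algebra.FinitePresentation A C := Algebra.FinitePresentation.of_finiteType.mp inferInstance
  -- the generic point is étale
  obtain ⟨p₁, hp₁, hp₁q, hp₁h⟩ : ∃ p : Ideal C, p.IsPrime ∧ p ≤ q ∧ p.height = 1 := by
    obtain ⟨x, hxq, hx0⟩ := (Submodule.ne_bot_iff q).mp fun e => by
      rw [e, Ideal.height_bot] at hq; exact absurd hq (by simp)
    obtain ⟨m, hm, hmq⟩ := Ideal.exists_minimalPrimes_le ((Ideal.span_singleton_le_iff_mem q).mpr hxq)
    refine ⟨m, hm.1.1, hmq, le_antisymm (Ideal.height_le_one_of_isPrincipal_of_mem_minimalPrimes _ m hm) ?_⟩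
    haveI := hm.1.1
    refine ENat.one_le_iff_ne_zero.mpr fun e => hx0 ?_
    have := hm.1.2 (Ideal.mem_span_singleton_self x)
    rw [Ideal.height_eq_zero_iff_eq_bot.mp e] at this
    exact this
  haveI := hp₁
  have hbot : Algebra.IsEtaleAt A (⊥ : Ideal C) :=
    (PrimeSpectrum.le_iff_specializes ⟨⊥, Ideal.isPrime_bot⟩ ⟨p₁, hp₁⟩).mp bot_le |>.mem_open
      (Algebra.isOpen_etaleLocus (R := A) (A := C)) (h p₁ hp₁q hp₁h)
  suffices ∀ (n : ℕ) (p : Ideal C) [p.IsPrime], p ≤ q → p.height = n → Algebra.IsEtaleAt A p by
    obtain ⟨n, hn⟩ := ENat.ne_top_iff_exists.mp (Ideal.height_ne_top (I := q) (Ideal.IsPrime.ne_top'))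
    exact this n q le_rfl hn.symm
  intro n
  induction n using Nat.strong_induction_on with
  | _ n ih =>
    intro p hpp hpq hn
    rcases n with _ | _ | n
    · have : p = ⊥ := Ideal.height_eq_zero_iff_eq_bot.mp (by exact_mod_cast hn)
      subst this
      exact hbot
    · exact h p hpq (by exact_mod_cast hn)
    haveI := hpp
    let P := p.comap (algebraMap A C)
    let A' := Localization.AtPrime P
    haveI : IsRegularLocalRing A' := RegLoc6.isRegularLocalRing_localization A P
    let M := Algebra.algebraMapSubmonoid C P.primeCompl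
    let C' := Localization M
    have hM : M ≤ nonZeroDivisors C := by
      rintro _ ⟨a, ha, rfl⟩
      refine mem_nonZeroDivisors_of_ne_zero fun e => ha ?_
      rw [hinj (e.trans (map_zero _).symm)]
      exact P.zero_mem
    haveI : IsDomain C' := IsLocalization.isDomain_localization hM
    haveI : Module.Finite A' C' := Module.Finite.of_isLocalization A C P.primeCompl
    have hinj' : Function.Injective (algebraMap A' C') :=
      IsLocalization.map_injective_of_injective' (N := M) (M := P.primeCompl) (Sₘ := C') (hN := fun h => zero_notMem_nonZeroDivisors (hM h)) (hf' := hinj) ..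
    have hdisj : Disjoint (M : Set C) (p : Set C) := by
      rw [Set.disjoint_left]
      rintro _ ⟨a, ha, rfl⟩ hm
      exact ha hm
    let p' := p.map (algebraMap C C')
    haveI : p'.IsPrime := IsLocalization.isPrime_of_isPrime_disjoint M C' p hpp hdisj
    have hcomap : p'.comap (algebraMap C C') = p := IsLocalization.under_map_of_isPrime_disjoint M C' hpp hdisj
    have hp'm : p'.comap (algebraMap A' C') = maximalIdeal A' := by
      rw [← IsLocalization.map_under P.primeCompl A' (p'.comap (algebraMap A' C')), Ideal.under,
        Ideal.comap_comap, ← IsScalarTower.algebraMap_eq, IsScalarTower.algebraMap_eq A C C',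
        ← Ideal.comap_comap, hcomap]
      exact Localization.AtPrime.map_eq_maximalIdeal
    haveI : IsIntegrallyClosed (Localization.AtPrime p') := by
      haveI : IsLocalization.AtPrime (Localization.AtPrime p') (p'.comap (algebraMap C C')) :=
        IsLocalization.isLocalization_isLocalization_atPrime_isLocalization M (T := Localization.AtPrime p') p'
      have key : ∀ (P0 : Ideal C) [P0.IsPrime] (_ : P0 = p)
          [IsLocalization.AtPrime (Localization.AtPrime p') P0], IsIntegrallyClosed (Localization.AtPrime p') := by
        rintro P0 _ rfl _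
        let Cq := Localization.AtPrime q
        let Cp := Localization.AtPrime p'
        have hle : q.primeCompl ≤ P0.primeCompl := fun x hx h' => hx (hpq h')
        letI : Algebra Cq Cp := (IsLocalization.lift (M := q.primeCompl) (S := Cq) (g := algebraMap C Cp)
          fun y => IsLocalization.map_units Cp (⟨y.1, hle y.2⟩ : P0.primeCompl)).toAlgebra
        haveI : IsScalarTower C Cq Cp := IsScalarTower.of_algebraMap_eq fun c =>
          (IsLocalization.lift_eq (M := q.primeCompl) (S := Cq) _ c).symm
        haveI := IsLocalization.isLocalization_of_submonoid_le Cq Cp q.primeCompl P0.primeCompl hle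
        haveI : IsDomain Cq := IsLocalization.isDomain_localization q.primeCompl_le_nonZeroDivisors
        exact isIntegrallyClosed_of_isLocalization Cp _ (map_le_nonZeroDivisors_of_injective _
          (IsLocalization.injective Cq q.primeCompl_le_nonZeroDivisors) P0.primeCompl_le_nonZeroDivisors)
      exact key _ hcomap
    have hd : (2 : WithBot ℕ∞) ≤ ringKrullDim A' := by
      rw [IsLocalization.AtPrime.ringKrullDim_eq_height P A', ← height_under A C hinj p, hn]
      exact WithBot.coe_le_coe.mpr (ENat.coe_le_coe.mpr (show 2 ≤ n + 1 + 1 by omega))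
    have key : Algebra.IsEtaleAt A' p' := by
      refine isEtaleAt_of_punctured hd hinj' p' hp'm fun r _ hr hne => ?_
      rw [Pi1Ext.formallyEtale_atPrime_comp (A := A) (B := C) P.primeCompl]
      have hle : r.comap (algebraMap C C') ≤ p := (Ideal.comap_mono hr).trans hcomap.le
      have hlt : r.comap (algebraMap C C') < p := hle.lt_of_ne fun e => hne (by
        rw [← IsLocalization.map_under M C' r, Ideal.under, e])
      haveI : (r.comap (algebraMap C C')).FiniteHeight := inferInstance
      obtain ⟨m, hm⟩ := ENat.ne_top_iff_exists.mp (Ideal.height_ne_top (I := r.comap (algebraMap C C')) (Ideal.IsPrime.ne_top'))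
      refine ih m ?_ _ (hle.trans hpq) hm.symm
      have := Ideal.height_strict_mono_of_isPrime hlt
      rw [hn, ← hm] at this
      exact_mod_cast this
    have := (Pi1Ext.formallyEtale_atPrime_comp (A := A) (B := C) P.primeCompl p').mp key
    simpa only [hcomap] using this

/-- Integral extensions do not increase the dimension. -/
theorem ringKrullDim_le_of_isIntegral (A C : Type u) [CommRing A] [CommRing C] [Algebra A C]
    [Algebra.IsIntegral A C] : ringKrullDim C ≤ ringKrullDim A :=
  Order.krullDim_le_of_strictMono (PrimeSpectrum.comap (algebraMap A C)) fun x y hxy =>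
    Ideal.comap_lt_comap_of_integral_mem_sdiff (I := x.asIdeal) (J := y.asIdeal) hxy.le
      (Classical.choose_spec (SetLike.exists_of_lt (show x.asIdeal < y.asIdeal from hxy)))
      (Algebra.IsIntegral.isIntegral _)

/-- **Purity of the branch locus.** -/
theorem isEtaleAt_of_normal {A S : Type u} [CommRing A] [IsRegularLocalRing A] [CommRing S] [IsDomain S]
    [Algebra A S] [Algebra.FiniteType A S] (q : Ideal S) [q.IsPrime]
    [Algebra.QuasiFiniteAt A q] [IsIntegrallyClosed (Localization.AtPrime q)]
    (hdim : ringKrullDim A ≤ ringKrullDim (Localization.AtPrime q))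
    (hq1 : 1 ≤ q.height)
    (h : ∀ (p : Ideal S) [p.IsPrime], p ≤ q → p.height = 1 →
      Algebra.FormallyUnramified A (Localization.AtPrime p)) :
    Algebra.IsEtaleAt A q := by
  haveI := RegLoc6.isDomain_of_isRegularLocalRing A
  obtain ⟨S', hfg, r, hr, hbij⟩ := Algebra.QuasiFiniteAt.exists_fg_and_exists_notMem_and_awayMap_bijective (R := A) q
  haveI : Module.Finite A S' := ⟨(Submodule.fg_top _).mpr hfg⟩
  have hloc : ∀ (p : Ideal S) [p.IsPrime], r.1 ∉ p →
      IsLocalization.AtPrime (Localization.AtPrime p) (p.comap S'.val.toRingHom) := by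
    intro p _ hrp
    let ι := S'.val.toRingHom
    let Sp := Localization.AtPrime p
    refine (isLocalization_iff _ _).2 ⟨?_, ?_, ?_⟩
    · rintro ⟨y, hy⟩
      exact IsLocalization.map_units Sp (⟨y.1, hy⟩ : p.primeCompl)
    · intro z
      obtain ⟨a, s, rfl⟩ := IsLocalization.exists_mk'_eq p.primeCompl z
      obtain ⟨a', m, ha'⟩ := Localization.awayMap_surjective_iff.mp hbij.2 a
      obtain ⟨s', l, hs'⟩ := Localization.awayMap_surjective_iff.mp hbij.2 s.1
      have hs'p : s' ∈ (p.comap ι).primeCompl := fun h' => by
        have h2 : ι r ^ l * s.1 ∈ p := hs' ▸ h'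
        exact (Ideal.IsPrime.mem_or_mem ‹_› h2).elim (fun h3 => hrp (Ideal.IsPrime.mem_of_pow_mem ‹_› _ h3)) s.2
      have hrp' : r ∈ (p.comap ι).primeCompl := hrp
      refine ⟨⟨r ^ l * a', ⟨r ^ m * s', mul_mem (pow_mem hrp' m) hs'p⟩⟩, ?_⟩
      show _ * algebraMap S Sp (ι (r ^ m * s')) = algebraMap S Sp (ι (r ^ l * a'))
      simp only [map_mul, map_pow]
      erw [ha', hs']
      simp only [map_mul, map_pow]
      rw [← IsLocalization.mk'_spec Sp a s]
      ring
    · intro c c' h
      have h' : algebraMap S Sp (ι c) = algebraMap S Sp (ι c') := h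
      rw [IsLocalization.eq_iff_exists p.primeCompl] at h'
      obtain ⟨⟨t, ht⟩, htc⟩ := h'
      obtain ⟨t', l, ht'⟩ := Localization.awayMap_surjective_iff.mp hbij.2 t
      refine ⟨⟨t', fun h2 => ?_⟩, Subtype.ext ?_⟩
      · have h3 : ι r ^ l * t ∈ p := ht' ▸ h2
        exact (Ideal.IsPrime.mem_or_mem ‹_› h3).elim (fun h4 => hrp (Ideal.IsPrime.mem_of_pow_mem ‹_› _ h4)) ht
      · show ι t' * ι c = ι t' * ι c'
        erw [ht']
        rw [mul_assoc, mul_assoc]
        exact congrArg _ htc
  let q' := q.comap S'.val.toRingHom
  haveI := hloc q hr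
  let eq' : Localization.AtPrime q' ≃ₐ[S'] Localization.AtPrime q :=
    IsLocalization.algEquiv q'.primeCompl _ _
  haveI : IsIntegrallyClosed (Localization.AtPrime q') := IsIntegrallyClosed.of_equiv eq'.toRingEquiv.symm
  have hh : q'.height = q.height := by
    have h1 := IsLocalization.AtPrime.ringKrullDim_eq_height q' (Localization.AtPrime q)
    rw [IsLocalization.AtPrime.ringKrullDim_eq_height q (Localization.AtPrime q)] at h1
    exact_mod_cast h1.symm
  have hinj : Function.Injective (algebraMap A S') := by
    rw [RingHom.injective_iff_ker_eq_bot]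
    by_contra hne
    obtain ⟨a, ha, ha0⟩ := (Submodule.ne_bot_iff _).mp hne
    haveI : Algebra.IsIntegral A S' := inferInstance
    let I := RingHom.ker (algebraMap A S')
    letI : Algebra (A ⧸ Ideal.span {a}) S' := (Ideal.Quotient.lift (Ideal.span {a}) (algebraMap A S') fun b hb => by
      obtain ⟨c, rfl⟩ := Ideal.mem_span_singleton.mp hb
      rw [map_mul, RingHom.mem_ker.mp ha, zero_mul]).toAlgebra
    haveI : IsScalarTower A (A ⧸ Ideal.span {a}) S' := IsScalarTower.of_algebraMap_eq fun _ => rfl
    haveI : Algebra.IsIntegral (A ⧸ Ideal.span {a}) S' := Algebra.IsIntegral.tower_top (R := A)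
    have h1 := ringKrullDim_le_of_isIntegral (A ⧸ Ideal.span {a}) S'
    have h2 := ringKrullDim_quotient_succ_le_of_nonZeroDivisor (mem_nonZeroDivisors_of_ne_zero ha0)
    have h3 : ringKrullDim (Localization.AtPrime q) ≤ ringKrullDim S' := by
      rw [IsLocalization.AtPrime.ringKrullDim_eq_height q (Localization.AtPrime q), ← hh]
      exact Ideal.height_le_ringKrullDim_of_ne_top Ideal.IsPrime.ne_top'
    have h4 := le_trans (add_le_add_left ((hdim.trans h3).trans h1) 1) h2
    have hA : ringKrullDim A = ((maximalIdeal A).spanFinrank : WithBot ℕ∞) := ((isRegularLocalRing_iff A).1 ‹_›).symm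
    rw [hA] at h4
    have h5 : ((maximalIdeal A).spanFinrank : ℕ∞) + 1 ≤ ((maximalIdeal A).spanFinrank : ℕ∞) := by
      exact_mod_cast h4
    exact absurd (ENat.coe_le_coe.mp (by exact_mod_cast h5 : (((maximalIdeal A).spanFinrank + 1 : ℕ) : ℕ∞) ≤ _)) (by omega)
  haveI := isEtaleAt_of_height_one hinj q' (hh.symm ▸ hq1) fun p hp hpq hp1 => by
    obtain ⟨P, hP, hPq, hPp⟩ : ∃ P : Ideal S, ∃ _ : P.IsPrime, P ≤ q ∧ P.comap S'.val.toRingHom = p := by
      haveI := hp
      have hd : Disjoint (q'.primeCompl : Set S') (p : Set S') := by
        rw [Set.disjoint_left]; exact fun x hx hxp => hx (hpq hxp)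
      haveI hp2 : (p.map (algebraMap S' (Localization.AtPrime q))).IsPrime :=
        IsLocalization.isPrime_of_isPrime_disjoint q'.primeCompl _ p hp hd
      refine ⟨(p.map (algebraMap S' (Localization.AtPrime q))).comap (algebraMap S (Localization.AtPrime q)),
        inferInstance, ?_, ?_⟩
      · exact (Ideal.comap_mono (le_maximalIdeal hp2.ne_top)).trans Localization.AtPrime.under_maximalIdeal.le
      · rw [Ideal.comap_comap]
        exact IsLocalization.under_map_of_isPrime_disjoint q'.primeCompl _ hp hd
    haveI := hP
    haveI := hloc P fun hm => hr (hPq hm)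
    subst hPp
    let e := (IsLocalization.algEquiv (P.comap S'.val.toRingHom).primeCompl
      (Localization.AtPrime (P.comap S'.val.toRingHom)) (Localization.AtPrime P)).restrictScalars A
    refine isEtaleAt_of_unramified_height_one hinj _ hp1 ?_
    have hP1 : P.height = 1 := by
      have h1 := IsLocalization.AtPrime.ringKrullDim_eq_height (P.comap S'.val.toRingHom) (Localization.AtPrime P)
      rw [IsLocalization.AtPrime.ringKrullDim_eq_height P (Localization.AtPrime P)] at h1
      rw [← hp1]; exact_mod_cast h1
    haveI := h P hPq hP1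
    exact Algebra.FormallyUnramified.of_equiv e.symm
  exact Algebra.FormallyEtale.of_equiv (eq'.restrictScalars A)

end Groth.Agent.H9Pur

end
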