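import Groth.Agent.H9Pur.Branch
import Groth.Agent.StalkLoc7.Basic
import Groth.Agent.InvUfdLib.Extend
import Groth.Agent.Pi1Ext.EtalePure

/-! Purity of the branch locus for schemes. -/

set_option autoImplicit false
set_option linter.style.haveILetI false

universe u

open AlgebraicGeometry CategoryTheory IsLocalRing

noncomputable section

namespace Groth.Agent.H9Pur

/-- The affine statement with a general base localized at a prime. -/
theorem isEtaleAt_branch {R S : Type u} [CommRing R] [IsNoetherianRing R] [CommRing S] [IsDomain S] [Algebra R S]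
    [Algebra.FiniteType R S] (p : Ideal R) [p.IsPrime] (q : Ideal S) [q.IsPrime] [q.LiesOver p]
    [IsRegularLocalRing (Localization.AtPrime p)] [IsIntegrallyClosed (Localization.AtPrime q)]
    [Algebra.QuasiFiniteAt R q]
    (hdim : ringKrullDim (Localization.AtPrime p) = ringKrullDim (Localization.AtPrime q))
    (hq1 : (1 : WithBot ℕ∞) ≤ ringKrullDim (Localization.AtPrime q))
    (h : ∀ (P : Ideal S) [P.IsPrime], P ≤ q → P.height = 1 →
      Algebra.FormallyUnramified R (Localization.AtPrime P)) :
    Algebra.IsEtaleAt R q := by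
  let A := Localization.AtPrime p
  let M := Algebra.algebraMapSubmonoid S p.primeCompl
  let S' := Localization M
  haveI : Algebra.FinitePresentation R S := Algebra.FinitePresentation.of_finiteType.mp inferInstance
  have hdisj : Disjoint (M : Set S) (q : Set S) := by
    rw [Set.disjoint_left]
    rintro _ ⟨a, ha, rfl⟩ hm
    exact ha ((Ideal.LiesOver.over (P := q) (p := p)).ge hm)
  have h0 : (0 : S) ∉ M := fun h0 => Set.disjoint_left.mp hdisj h0 q.zero_mem
  haveI : IsDomain S' := IsLocalization.isDomain_localization (fun x hx =>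
    mem_nonZeroDivisors_of_ne_zero (ne_of_mem_of_not_mem hx h0))
  haveI : Algebra.IsPushout R A S S' := Algebra.IsPushout.symm (Algebra.isPushout_of_isLocalization p.primeCompl A S S')
  haveI : Algebra.FiniteType A S' := Algebra.FiniteType.equiv inferInstance (Algebra.IsPushout.equiv R A S S')
  let q' := q.map (algebraMap S S')
  haveI : q'.IsPrime := IsLocalization.isPrime_of_isPrime_disjoint M S' q ‹_› hdisj
  have hcomap : q'.comap (algebraMap S S') = q := IsLocalization.under_map_of_isPrime_disjoint M S' ‹_› hdisj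
  have hloc : ∀ (r : Ideal S') [r.IsPrime] (P : Ideal S) [P.IsPrime], r.comap (algebraMap S S') = P →
      ∃ _ : IsLocalization.AtPrime (Localization.AtPrime r) P,
        Nonempty (Localization.AtPrime P ≃ₐ[R] Localization.AtPrime r) := by
    rintro r _ P _ rfl
    haveI : IsLocalization.AtPrime (Localization.AtPrime r) (r.comap (algebraMap S S')) :=
      IsLocalization.isLocalization_isLocalization_atPrime_isLocalization M (T := Localization.AtPrime r) r
    exact ⟨this, ⟨(IsLocalization.algEquiv (r.comap (algebraMap S S')).primeCompl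
      (Localization.AtPrime (r.comap (algebraMap S S'))) (Localization.AtPrime r)).restrictScalars R⟩⟩
  obtain ⟨hq', ⟨eq'⟩⟩ := hloc q' q hcomap
  haveI : IsIntegrallyClosed (Localization.AtPrime q') := IsIntegrallyClosed.of_equiv eq'.toRingEquiv
  haveI : Algebra.QuasiFiniteAt A q' := by
    haveI : Algebra.QuasiFinite R (Localization.AtPrime q) := ‹Algebra.QuasiFiniteAt R q›
    haveI : Algebra.QuasiFinite R (Localization.AtPrime q') :=
      Algebra.QuasiFinite.of_surjective_algHom eq'.toAlgHom eq'.surjective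
    exact Algebra.QuasiFinite.of_restrictScalars R A (Localization.AtPrime q')
  have hd : ringKrullDim (Localization.AtPrime q') = ringKrullDim (Localization.AtPrime q) :=
    (ringKrullDim_eq_of_ringEquiv eq'.toRingEquiv).symm
  have key : Algebra.IsEtaleAt A q' := by
    refine isEtaleAt_of_normal q' (by rw [hd]; exact hdim.le) ?_ fun r _ hr hr1 => ?_
    · rw [← hd, IsLocalization.AtPrime.ringKrullDim_eq_height q' (Localization.AtPrime q')] at hq1
      exact_mod_cast hq1
    · obtain ⟨_, ⟨er⟩⟩ := hloc r (r.comap (algebraMap S S')) rfl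
      have h1 : (r.comap (algebraMap S S')).height = 1 := by
        rw [← Ideal.under_def, IsLocalization.height_under M r]; exact hr1
      haveI := h _ ((Ideal.comap_mono hr).trans hcomap.le) h1
      haveI : Algebra.FormallyUnramified R (Localization.AtPrime r) := Algebra.FormallyUnramified.of_equiv er
      exact Algebra.FormallyUnramified.of_restrictScalars R A (Localization.AtPrime r)
  have := (Pi1Ext.formallyEtale_atPrime_comp (A := R) (B := S) p.primeCompl q').mp key
  simpa only [hcomap] using this

theorem exists_etale_nhd_branch {X Y : Scheme.{u}} (f : X ⟶ Y) [LocallyOfFiniteType f] [IsLocallyNoetherian X]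
    [IsLocallyNoetherian Y] (x : X)
    (hx : IsDomain (X.presheaf.stalk x) ∧ IsIntegrallyClosed (X.presheaf.stalk x))
    (hy : IsRegularLocalRing (Y.presheaf.stalk (f.base x)))
    (hq : f.QuasiFiniteAt x)
    (hdim : ringKrullDim (X.presheaf.stalk x) = ringKrullDim (Y.presheaf.stalk (f.base x)))
    (hdim1 : (1 : WithBot ℕ∞) ≤ ringKrullDim (X.presheaf.stalk x))
    (hunr : ∀ x' : X, x' ⤳ x → ringKrullDim (X.presheaf.stalk x') = 1 →
      (f.stalkMap x').hom.FormallyUnramified) :
    ∃ U : X.Opens, x ∈ U ∧ Etale (U.ι ≫ f) := by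
  haveI := hx.1
  haveI := hx.2
  obtain ⟨U, hU, hxU, -⟩ := exists_isAffineOpen_mem_and_subset (x := f x) (U := ⊤) trivial
  obtain ⟨V₀, hV₀, hxV₀, hdom⟩ := InvUfdLib.exists_domain_nhd x
  obtain ⟨g, hgle, hxg⟩ := hV₀.exists_basicOpen_le (V := f ⁻¹ᵁ U) ⟨x, hxU⟩ hxV₀
  let V := X.basicOpen g
  have hV : IsAffineOpen V := hV₀.basicOpen g
  have hxV : x ∈ V := hxg
  have hVU : V ≤ f ⁻¹ᵁ U := hgle
  haveI : IsDomain Γ(X, V) := by
    haveI := hdom
    haveI := hV₀.isLocalization_basicOpen g
    refine IsLocalization.isDomain_of_le_nonZeroDivisors (M := Submonoid.powers g) Γ(X, V)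
      (powers_le_nonZeroDivisors_of_noZeroDivisors ?_)
    intro hg0
    rw [hg0, X.basicOpen_zero] at hxg
    exact absurd hxg (by simp)
  have hFT := f.finiteType_appLE hU hV hVU
  have hqq := hq.quasiFiniteAt hV hU hVU hxV
  algebraize [(f.appLE U V hVU).hom]
  haveI : IsNoetherianRing Γ(Y, U) := IsLocallyNoetherian.component_noetherian ⟨U, hU⟩
  let p := (hU.primeIdealOf ⟨f x, hVU hxV⟩).asIdeal
  let q := (hV.primeIdealOf ⟨x, hxV⟩).asIdeal
  haveI : q.LiesOver p :=
    ⟨congr($(IsAffineOpen.comap_primeIdealOf_appLE U hU V hV hVU hxV).1).symm⟩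
  haveI : Algebra.QuasiFiniteAt Γ(Y, U) q := hqq
  let _ := Y.presheaf.algebra_section_stalk (⟨f x, hVU hxV⟩ : U)
  let _ := X.presheaf.algebra_section_stalk (⟨x, hxV⟩ : V)
  haveI := hU.isLocalization_stalk ⟨f x, hVU hxV⟩
  haveI := hV.isLocalization_stalk ⟨x, hxV⟩
  let ep : Y.presheaf.stalk (f x) ≃+* Localization.AtPrime p :=
    (IsLocalization.algEquiv p.primeCompl (Y.presheaf.stalk (f x)) (Localization.AtPrime p)).toRingEquiv
  let eq : X.presheaf.stalk x ≃+* Localization.AtPrime q :=
    (IsLocalization.algEquiv q.primeCompl (X.presheaf.stalk x) (Localization.AtPrime q)).toRingEquiv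
  haveI : IsRegularLocalRing (Localization.AtPrime p) := by haveI := hy; exact IsRegularLocalRing.of_ringEquiv ep
  haveI : IsIntegrallyClosed (Localization.AtPrime q) := IsIntegrallyClosed.of_equiv eq
  have hd : ringKrullDim (Localization.AtPrime p) = ringKrullDim (Localization.AtPrime q) := by
    rw [← ringKrullDim_eq_of_ringEquiv ep, ← ringKrullDim_eq_of_ringEquiv eq]; exact hdim.symm
  have het : Algebra.IsEtaleAt Γ(Y, U) q := by
    refine isEtaleAt_branch p q hd (by rw [← ringKrullDim_eq_of_ringEquiv eq]; exact hdim1) fun P _ hPq hP1 => ?_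
    let z : X := hV.fromSpec ⟨P, inferInstance⟩
    have hzV : z ∈ V := hV.range_fromSpec.le ⟨_, rfl⟩
    have hsp : z ⤳ x := by
      have := ((PrimeSpectrum.le_iff_specializes ⟨P, inferInstance⟩ (hV.primeIdealOf ⟨x, hxV⟩)).mp hPq).map
        hV.fromSpec.continuous
      rwa [hV.fromSpec_primeIdealOf] at this
    have hzP : (hV.primeIdealOf ⟨z, hzV⟩).asIdeal = P := by
      have : hV.primeIdealOf ⟨z, hzV⟩ = ⟨P, inferInstance⟩ :=
        hV.fromSpec.isOpenEmbedding.injective (hV.fromSpec_primeIdealOf _)
      rw [this]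
    suffices Algebra.FormallyUnramified Γ(Y, U) (Localization.AtPrime (hV.primeIdealOf ⟨z, hzV⟩).asIdeal) by
      have key : ∀ (P₀ : Ideal Γ(X, V)) [P₀.IsPrime], P₀ = P →
          Algebra.FormallyUnramified Γ(Y, U) (Localization.AtPrime P₀) →
          Algebra.FormallyUnramified Γ(Y, U) (Localization.AtPrime P) := by
        rintro _ _ rfl h'
        exact h'
      exact key _ hzP this
    let P' := (hU.primeIdealOf ⟨f z, hVU hzV⟩).asIdeal
    let Q' := (hV.primeIdealOf ⟨z, hzV⟩).asIdeal
    haveI : Q'.LiesOver P' :=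
      ⟨congr($(IsAffineOpen.comap_primeIdealOf_appLE U hU V hV hVU hzV).1).symm⟩
    let := Localization.AtPrime.algebraOfLiesOver P' Q'
    have hz1 : ringKrullDim (X.presheaf.stalk z) = 1 := by
      let _ := X.presheaf.algebra_section_stalk (⟨z, hzV⟩ : V)
      haveI := hV.isLocalization_stalk ⟨z, hzV⟩
      rw [IsLocalization.AtPrime.ringKrullDim_eq_height Q' (X.presheaf.stalk z), show Q' = P from hzP, hP1]
      rfl
    have h1 : Algebra.FormallyUnramified (Localization.AtPrime P') (Localization.AtPrime Q') := by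
      rw [← RingHom.formallyUnramified_algebraMap]
      exact (RingHom.FormallyUnramified.respectsIso.arrow_mk_iso_iff
        (IsAffineOpen.arrowStalkMapIso f U hU V hV hVU hzV)).mp (hunr z hsp hz1)
    exact Algebra.FormallyUnramified.comp _ (Localization.AtPrime P') _
  let := Localization.AtPrime.algebraOfLiesOver p q
  obtain ⟨hflat, -⟩ := (EtLoc7.isEtaleAt_iff Γ(Y, U) Γ(X, V) p q).mp het
  haveI : Algebra.FormallyEtale Γ(Y, U) (Localization.AtPrime q) := het
  have hu : Algebra.FormallyUnramified (Localization.AtPrime p) (Localization.AtPrime q) :=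
    Algebra.FormallyUnramified.of_restrictScalars Γ(Y, U) _ _
  refine StalkLoc7.exists_etale f x ?_ ?_
  · rw [← RingHom.formallyUnramified_algebraMap] at hu
    exact (RingHom.FormallyUnramified.respectsIso.arrow_mk_iso_iff
      (IsAffineOpen.arrowStalkMapIso f U hU V hV hVU hxV)).mpr hu
  · rw [← RingHom.flat_algebraMap_iff] at hflat
    exact (RingHom.Flat.respectsIso.arrow_mk_iso_iff
      (IsAffineOpen.arrowStalkMapIso f U hU V hV hVU hxV)).mpr hflat

end Groth.Agent.H9Pur

end
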