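import Groth.Agent.H9Pur.Descend
import Groth.Agent.Pi1Ext.RegPurity
import Groth.Agent.Hensel.Local
import Groth.Agent.BrnchLib.Compl
import Groth.Agent.CILib.Basic
import Groth.Agent.InvEtale.Tensor
import Groth.Agent.WQ7.Purity
import Groth.Agent.Adic7.Lift
import Mathlib.RingTheory.IntegralClosure.GoingDown
import Mathlib.RingTheory.Ideal.KrullsHeightTheorem
import Mathlib.RingTheory.Regular.Flat

/-!
# Purity of the branch locus at a point, for finite algebras over regular local rings

A finite domain over a regular local ring which is normal at a maximal ideal and étale at all the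
strictly smaller primes is étale at this ideal: pass to the completion, split off the local factor and
apply purity over the complete regular local ring.
-/

set_option autoImplicit false
set_option linter.style.haveILetI false

universe u

noncomputable section

namespace Groth.Agent.H9Pur

open IsLocalRing TensorProduct Groth.Agent.Pi1Ext.RegPurity

section Height

variable (A C : Type u) [CommRing A] [IsNoetherianRing A] [IsDomain A] [IsIntegrallyClosed A] [CommRing C] [IsDomain C]
  [IsNoetherianRing C] [Algebra A C] [Algebra.IsIntegral A C]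

/-- Integral extensions of normal domains preserve heights. -/
theorem height_under (hinj : Function.Injective (algebraMap A C)) (P : Ideal C) [P.IsPrime] :
    P.height = (P.comap (algebraMap A C)).height := by
  haveI : FaithfulSMul A C := (faithfulSMul_iff_algebraMap_injective A C).mpr hinj
  let p := P.comap (algebraMap A C)
  haveI : P.LiesOver p := ⟨rfl⟩
  rw [Ideal.height_eq_height_add_of_liesOver_of_hasGoingDown p P]
  suffices (P.map (Ideal.Quotient.mk (p.map (algebraMap A C)))).height = 0 by rw [this, add_zero]
  let f := Ideal.Quotient.mk (p.map (algebraMap A C))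
  have hle : p.map (algebraMap A C) ≤ P := Ideal.map_comap_le
  haveI : (P.map f).IsPrime :=
    Ideal.map_isPrime_of_surjective Ideal.Quotient.mk_surjective (by rwa [Ideal.mk_ker])
  refine Ideal.height_eq_zero_iff.mpr ⟨⟨inferInstance, bot_le⟩, fun Q hQ hQP => ?_⟩
  haveI := hQ.1
  have hQc : Q.comap f ≤ P := (Ideal.comap_mono hQP).trans (by
    rw [Ideal.comap_map_of_surjective _ Ideal.Quotient.mk_surjective, ← RingHom.ker_eq_comap_bot,
      Ideal.mk_ker]
    exact sup_le le_rfl hle)
  have hpQ : p.map (algebraMap A C) ≤ Q.comap f := fun x hx => by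
    show f x ∈ Q
    rw [Ideal.Quotient.eq_zero_iff_mem.mpr hx]; exact Q.zero_mem
  have : Q.comap f = P := by
    refine hQc.eq_or_lt.resolve_right fun hlt => ?_
    exact (Ideal.comap_lt_comap_of_integral_mem_sdiff hlt.le
      (Classical.choose_spec (SetLike.exists_of_lt hlt)) (Algebra.IsIntegral.isIntegral (R := A) _)).not_ge
      (Ideal.map_le_iff_le_comap.mp hpQ)
  rw [← this, Ideal.map_comap_of_surjective _ Ideal.Quotient.mk_surjective]

end Height

/-- A map to a flat algebra which is bijective away from a regular pair is bijective. -/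
theorem bijective_of_isoAway {R E F : Type u} [CommRing R] [IsDomain R] [CommRing E] [CommRing F]
    [Algebra R E] [Algebra R F] [Module.Flat R F] (f : E →ₐ[R] F) {h k : R} (hh0 : h ≠ 0)
    (hfh : IsoAway f h) (hfk : IsoAway f k) (hreg : ∀ z : E, algebraMap R E h * z = 0 → z = 0)
    (hpair : ∀ z : E, algebraMap R E h ∣ algebraMap R E k * z → algebraMap R E h ∣ z) :
    Function.Bijective f := by
  have hcancel : ∀ (n : ℕ) (z : E), algebraMap R E h ^ n * z = 0 → z = 0 := fun n z hz => by
    induction n with
    | zero => simpa using hz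
    | succ n ih => exact ih (hreg _ (by rw [← mul_assoc, ← pow_succ']; exact hz))
  have hdvd : ∀ (m : ℕ) (z : E), algebraMap R E h ∣ algebraMap R E k ^ m * z → algebraMap R E h ∣ z := by
    intro m
    induction m with
    | zero => intro z hz; simpa using hz
    | succ m ih => intro z hz; exact hpair z (ih _ (by rw [← mul_assoc, ← pow_succ]; exact hz))
  have hdvdn : ∀ (n m : ℕ) (z : E), algebraMap R E h ^ n ∣ algebraMap R E k ^ m * z →
      algebraMap R E h ^ n ∣ z := by
    intro n m
    induction n with
    | zero => intro z _; rw [pow_zero]; exact one_dvd _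
    | succ n ih =>
      intro z hz
      obtain ⟨v, rfl⟩ := hdvd m z ((dvd_pow_self _ n.succ_ne_zero).trans hz)
      obtain ⟨w, hw'⟩ := hz
      have h2 := hreg (algebraMap R E k ^ m * v - algebraMap R E h ^ n * w) (by
        rw [mul_sub, ← mul_assoc, mul_comm (algebraMap R E h) (_ ^ m), mul_assoc, hw', pow_succ']; ring)
      obtain ⟨u, rfl⟩ := ih v ⟨w, sub_eq_zero.mp h2⟩
      exact ⟨u, by rw [pow_succ', mul_assoc]⟩
  have hinjf : Function.Injective f := (injective_iff_map_eq_zero f).mpr fun z hz => by
    obtain ⟨n, hn⟩ := hfh.2 z hz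
    rw [Algebra.smul_def, map_pow] at hn
    exact hcancel n z hn
  refine ⟨hinjf, fun b => ?_⟩
  obtain ⟨n, c, hc⟩ := hfh.1 b
  obtain ⟨m, c', hc'⟩ := hfk.1 b
  have h2 : k ^ m • c = h ^ n • c' := hinjf (by rw [map_smul, map_smul, ← hc, ← hc', smul_comm])
  rw [Algebra.smul_def, Algebra.smul_def, map_pow, map_pow] at h2
  obtain ⟨w, rfl⟩ := hdvdn n m c ⟨c', h2⟩
  refine ⟨w, ((Module.Flat.isSMulRegular_of_isRegular (M := F)
    (IsRegular.of_ne_zero (pow_ne_zero n hh0))) ?_).symm⟩
  show h ^ n • b = h ^ n • f w
  rw [hc, ← map_smul, Algebra.smul_def, map_pow]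

variable {A C : Type u} [CommRing A] [IsRegularLocalRing A] [CommRing C] [IsDomain C] [Algebra A C]
  [Module.Finite A C]

/-- A regular pair of the base stays regular in a normal localization of a finite extension domain. -/
theorem dvd_of_regPair (hinj : Function.Injective (algebraMap A C)) (q : Ideal C) [q.IsPrime]
    [IsIntegrallyClosed (Localization.AtPrime q)] {h k : A} (hp : RegPair A h k)
    (z : Localization.AtPrime q)
    (hz : algebraMap A (Localization.AtPrime q) h ∣ algebraMap A (Localization.AtPrime q) k * z) :
    algebraMap A (Localization.AtPrime q) h ∣ z := by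
  haveI := RegLoc6.isDomain_of_isRegularLocalRing A
  haveI := RegLoc6.isIntegrallyClosed_of_isRegularLocalRing A
  haveI : IsNoetherianRing C := IsNoetherianRing.of_finite A C
  let B := Localization.AtPrime q
  haveI : IsNoetherianRing B := IsLocalization.isNoetherianRing q.primeCompl B inferInstance
  haveI : IsDomain B := IsLocalization.isDomain_localization q.primeCompl_le_nonZeroDivisors
  have hi : Function.Injective (algebraMap A B) := by
    rw [IsScalarTower.algebraMap_eq A C B]
    exact (IsLocalization.injective B q.primeCompl_le_nonZeroDivisors).comp hinj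
  refine WQ7.dvd_of_dvd_mul (fun e => hp.1 (hi (by rw [map_zero]; exact e))) (fun Q hQ hQ1 hs ht => ?_) hz
  haveI := hQ
  have h1 : (Q.comap (algebraMap C B)).height ≤ 1 := by
    rw [← Ideal.under_def, IsLocalization.height_under q.primeCompl Q]
    exact hQ1
  rw [height_under A C hinj] at h1
  refine WQ7.not_mem_of_regular_pair hp.1 hp.2 _ h1 ?_ ?_ <;>
    simp only [Ideal.mem_comap, ← IsScalarTower.algebraMap_apply] <;> assumption

set_option maxHeartbeats 1000000 in
/-- Purity at a closed point. -/
theorem isEtaleAt_of_punctured (hd : (2 : WithBot ℕ∞) ≤ ringKrullDim A)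
    (hinj : Function.Injective (algebraMap A C)) (q : Ideal C) [q.IsPrime]
    (hq : q.comap (algebraMap A C) = maximalIdeal A) [IsIntegrallyClosed (Localization.AtPrime q)]
    (h : ∀ (p : Ideal C) [p.IsPrime], p ≤ q → p ≠ q → Algebra.IsEtaleAt A p) :
    Algebra.IsEtaleAt A q := by
  haveI := RegLoc6.isDomain_of_isRegularLocalRing A
  haveI : Algebra.FinitePresentation A C := Algebra.FinitePresentation.of_finiteType.mp inferInstance
  let R := AdicCompletion (maximalIdeal A) A
  haveI : IsRegularLocalRing R := CILib.isRegularLocalRing_adicCompletion A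
  haveI := RegLoc6.isDomain_of_isRegularLocalRing R
  haveI : HenselianLocalRing R := BrnchLib.henselianLocalRing_completion A
  haveI : Module.Flat A R := AdicCompletion.flat_of_isNoetherian _
  have hm : (maximalIdeal A).map (algebraMap A R) = maximalIdeal R :=
    (AdicCompletion.maximalIdeal_eq_map (R := A)).symm
  haveI : IsLocalHom (algebraMap A R) :=
    ((local_hom_TFAE (algebraMap A R)).out 0 2 rfl rfl).mpr hm.le
  haveI : Module.FaithfullyFlat A R := Module.FaithfullyFlat.of_flat_of_isLocalHom
  have hdR : (2 : WithBot ℕ∞) ≤ ringKrullDim R := by rwa [CILib.ringKrullDim_adicCompletion]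
  let C' := R ⊗[A] C
  letI : Algebra C C' := Algebra.TensorProduct.rightAlgebra
  haveI : IsScalarTower A C C' := IsScalarTower.of_algebraMap_eq fun a => by
    show algebraMap A C' a = (1 : R) ⊗ₜ algebraMap A C a
    rw [Algebra.algebraMap_eq_smul_one (A := C), TensorProduct.tmul_smul, Algebra.algebraMap_eq_smul_one]
    rfl
  haveI : Algebra.IsPushout A R C C' := inferInstance
  haveI : Algebra.IsPushout A C R C' := Algebra.IsPushout.symm inferInstance
  haveI : Module.FaithfullyFlat C C' :=
    Module.FaithfullyFlat.of_linearEquiv C (C ⊗[A] R) (Algebra.IsPushout.equiv A C R C').toLinearEquiv.symm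
  haveI : Module.Flat C C' := inferInstance
  haveI : IsNoetherianRing C' := IsNoetherianRing.of_finite R C'
  -- a maximal ideal over `q` and the idempotent of its factor
  obtain ⟨M, hMp, hMq⟩ := Ideal.exists_isPrime_liesOver_of_faithfullyFlat (B := C') q
  haveI := hMp
  have hMR : M.comap (algebraMap R C') = maximalIdeal R := by
    refine ((maximalIdeal.isMaximal R).eq_of_le (Ideal.IsPrime.ne_top inferInstance) ?_).symm
    rw [← hm, Ideal.map_le_iff_le_comap, Ideal.comap_comap, ← IsScalarTower.algebraMap_eq,
      IsScalarTower.algebraMap_eq A C C', ← Ideal.comap_comap]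
    rw [← Ideal.under_def C M, ← hMq.over, hq]
  haveI : M.IsMaximal :=
    Ideal.isMaximal_of_isIntegral_of_isMaximal_comap M (hMR ▸ maximalIdeal.isMaximal R)
  obtain ⟨_, ee, hee, hsep⟩ := Hensel.exists_idempotents_of_henselian R C'
  let e := ee ⟨M, inferInstance⟩
  have he : IsIdempotentElem e := hee.idem _
  have heM : e ∉ M := (hsep ⟨M, inferInstance⟩).1
  have hle : ∀ P : Ideal C', P.IsPrime → e ∉ P → P ≤ M := fun P hP heP => by
    obtain ⟨N, hN, hPN⟩ := P.exists_le_maximal hP.ne_top
    rcases eq_or_ne (⟨N, hN⟩ : MaximalSpectrum C') ⟨M, inferInstance⟩ with h' | h'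
    · exact hPN.trans (congrArg MaximalSpectrum.asIdeal h').le
    · refine absurd ((hsep _).2 _ h') fun heN => ?_
      have h1 : 1 - e ∈ P := by
        refine (hP.mem_or_mem (?_ : e * (1 - e) ∈ P)).resolve_left heP
        rw [mul_sub, mul_one, he.eq, sub_self]
        exact P.zero_mem
      have h2 := N.add_mem heN (hPN h1)
      rw [show ee ⟨M, inferInstance⟩ = e from rfl, add_sub_cancel] at h2
      exact hN.ne_top ((Ideal.eq_top_iff_one _).mpr h2)
  let E := Localization.Away e
  haveI : Module.Finite R E := Module.Finite.of_surjective (IsScalarTower.toAlgHom R C' E).toLinearMap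
    fun x => by
      obtain ⟨c, ⟨_, n, rfl⟩, rfl⟩ := IsLocalization.exists_mk'_eq (Submonoid.powers e) x
      refine ⟨c, ?_⟩
      show algebraMap C' E c = _
      rw [eq_comm, IsLocalization.mk'_eq_iff_eq_mul]
      rcases n with _ | n
      · simp
      · have : algebraMap C' E e = 1 := by
          have h2 := (IsLocalization.Away.algebraMap_isUnit (S := E) e)
          exact h2.mul_left_cancel (by rw [← map_mul, he.eq, mul_one])
        simp [this]
  haveI : IsNoetherianRing E := IsNoetherianRing.of_finite R E
  have hEp : ∀ P : Ideal E, P.IsPrime → P.comap (algebraMap C' E) ≤ M := fun P hP =>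
    hle _ inferInstance fun hmem => hP.ne_top (Ideal.eq_top_of_isUnit_mem _ hmem
      (IsLocalization.Away.algebraMap_isUnit e))
  -- étale away from the closed point
  have hEC : EtOff R E := fun g hg => by
    haveI : Algebra.FinitePresentation R E := Algebra.FinitePresentation.of_finiteType.mp inferInstance
    unfold EtAway
    rw [← Algebra.basicOpen_subset_etaleLocus_iff_etale]
    intro P hP
    let P' := P.asIdeal.comap (algebraMap C' E)
    have hP'M : P' ≤ M := hEp P.asIdeal P.2
    let p := P'.comap (algebraMap C C')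
    have hpq : p ≤ q := (Ideal.comap_mono hP'M).trans hMq.over.ge
    have hne : p ≠ q := fun e' => hP (by
      have h1 : maximalIdeal R ≤ P'.comap (algebraMap R C') := by
        rw [← hm, Ideal.map_le_iff_le_comap, Ideal.comap_comap, ← IsScalarTower.algebraMap_eq,
          IsScalarTower.algebraMap_eq A C C', ← Ideal.comap_comap, show P'.comap (algebraMap C C') = q from e', hq]
      have h2 := h1 hg
      rw [IsScalarTower.algebraMap_apply R C' E]
      exact h2)
    haveI : Algebra.IsEtaleAt A p := h p hpq hne
    haveI hP' : Algebra.IsEtaleAt R P' := InvEtale.isEtaleAt_of_isPushout A C R C' p P' rfl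
    haveI : IsLocalization.AtPrime (Localization.AtPrime P.asIdeal) P' :=
      IsLocalization.isLocalization_isLocalization_atPrime_isLocalization
        (Submonoid.powers e) (T := Localization.AtPrime P.asIdeal) P.asIdeal
    haveI : Algebra.FormallyEtale R (Localization.AtPrime P') := hP'
    exact Algebra.FormallyEtale.of_equiv (A := Localization.AtPrime P')
      ((IsLocalization.algEquiv P'.primeCompl (Localization.AtPrime P')
        (Localization.AtPrime P.asIdeal)).restrictScalars R)
  obtain ⟨Bf, _, _, f, hfin, het, hiso⟩ := exists_finite_etale_of_etOff R hdR E hEC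
  haveI := hfin
  haveI := het
  obtain ⟨h₀, k₀, hh, hk, hp⟩ := exists_regPair A hd
  have hEu : ∀ s : q.primeCompl, IsUnit (algebraMap C E s) := fun s => by
    by_contra hs
    obtain ⟨P, hP, hsP⟩ := exists_max_ideal_of_mem_nonunits hs
    haveI := hP.isPrime
    refine s.2 (hMq.over.ge ?_)
    exact hEp P hP.isPrime (show algebraMap C' E (algebraMap C C' s) ∈ P by
      rw [← IsScalarTower.algebraMap_apply]; exact hsP)
  let B := Localization.AtPrime q
  letI : Algebra B E := (IsLocalization.lift (M := q.primeCompl) (S := B) hEu).toAlgebra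
  haveI : IsScalarTower C B E := IsScalarTower.of_algebraMap_eq fun c =>
    (IsLocalization.lift_eq (M := q.primeCompl) (S := B) hEu c).symm
  haveI : Module.Flat C E := Module.Flat.trans C C' E
  haveI : Module.Flat B E := (Module.flat_iff_of_isLocalization B q.primeCompl E).mpr inferInstance
  let h' := algebraMap A R h₀
  let k' := algebraMap A R k₀
  haveI : IsScalarTower A B E := IsScalarTower.of_algebraMap_eq fun a => by
    rw [IsScalarTower.algebraMap_apply A C B, ← IsScalarTower.algebraMap_apply C B E,
      ← IsScalarTower.algebraMap_apply A C E]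
  haveI : IsDomain B := IsLocalization.isDomain_localization q.primeCompl_le_nonZeroDivisors
  let hB := algebraMap A B h₀
  let kB := algebraMap A B k₀
  have hB0 : hB ≠ 0 := fun e0 => hp.1 (hinj (IsLocalization.injective B q.primeCompl_le_nonZeroDivisors (by
    rw [← IsScalarTower.algebraMap_apply, map_zero, map_zero]; exact e0)))
  have hw : RingTheory.Sequence.IsWeaklyRegular E [algebraMap R E h', algebraMap R E k'] := by
    have : RingTheory.Sequence.IsWeaklyRegular B [hB, kB] := by
      rw [RingTheory.Sequence.isWeaklyRegular_cons_iff, RingTheory.Sequence.isWeaklyRegular_singleton_iff]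
      refine ⟨fun x y hxy => mul_left_cancel₀ hB0 hxy, ?_⟩
      refine (isSMulRegular_quotient_iff_mem_of_smul_mem _ _).mpr ?_
      intro x hx
      rw [Submodule.mem_smul_pointwise_iff_exists] at hx ⊢
      obtain ⟨w, -, hw⟩ := hx
      obtain ⟨v, hv⟩ := dvd_of_regPair hinj q hp x ⟨w, hw.symm⟩
      exact ⟨v, Submodule.mem_top, hv.symm⟩
    have h1 := this.of_flat (S := E)
    simpa [hB, kB, h', k', ← IsScalarTower.algebraMap_apply] using h1
  rw [RingTheory.Sequence.isWeaklyRegular_cons_iff, RingTheory.Sequence.isWeaklyRegular_singleton_iff] at hw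
  have hpair : ∀ z : E, algebraMap R E h' ∣ algebraMap R E k' * z → algebraMap R E h' ∣ z := fun z hz => by
    have h1 := (isSMulRegular_quotient_iff_mem_of_smul_mem _ _).mp hw.2 z
    obtain ⟨w, hw'⟩ := hz
    obtain ⟨v, -, hv⟩ := Submodule.mem_smul_pointwise_iff_exists _ _ _ |>.mp
      (h1 (Submodule.mem_smul_pointwise_iff_exists _ _ _ |>.mpr ⟨w, Submodule.mem_top, hw'.symm⟩))
    exact ⟨v, hv.symm⟩
  have hreg : ∀ z : E, algebraMap R E h' * z = 0 → z = 0 := fun z hz =>
    hw.1 (show algebraMap R E h' • z = algebraMap R E h' • (0 : E) by rw [smul_zero]; exact hz)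
  haveI : Module.Flat R Bf := inferInstance
  have hh' : h' ∈ maximalIdeal R := hm ▸ Ideal.mem_map_of_mem _ hh
  have hk' : k' ∈ maximalIdeal R := hm ▸ Ideal.mem_map_of_mem _ hk
  have hh0 : h' ≠ 0 := fun e0 => hp.1 (FaithfulSMul.algebraMap_injective A R (by rw [map_zero]; exact e0))
  have hbij : Function.Bijective f :=
    bijective_of_isoAway f hh0 (hiso h' hh') (hiso k' hk') hreg hpair
  let ef : E ≃ₐ[R] Bf := AlgEquiv.ofBijective f hbij
  haveI : Algebra.Etale R E := Algebra.Etale.of_equiv ef.symm
  -- descend
  haveI hME : (M.map (algebraMap C' E)).IsPrime :=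
    IsLocalization.isPrime_of_isPrime_disjoint (Submonoid.powers e) E M hMp (by
      rw [Set.disjoint_left]
      rintro _ ⟨n, rfl⟩ hn
      exact heM (hMp.mem_of_pow_mem _ hn))
  let L := Localization.AtPrime (M.map (algebraMap C' E))
  have hcompM : (M.map (algebraMap C' E)).comap (algebraMap C' E) = M :=
    IsLocalization.under_map_of_isPrime_disjoint (Submonoid.powers e) E hMp (by
      rw [Set.disjoint_left]
      rintro _ ⟨n, rfl⟩ hn
      exact heM (hMp.mem_of_pow_mem _ hn))
  haveI : IsLocalHom (algebraMap R L) := by
    refine ((local_hom_TFAE (algebraMap R L)).out 0 4 rfl rfl).mpr ?_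
    rw [IsScalarTower.algebraMap_eq R E L, ← Ideal.comap_comap, ← Ideal.under_def E,
      Localization.AtPrime.under_maximalIdeal, IsScalarTower.algebraMap_eq R C' E, ← Ideal.comap_comap,
      hcompM, hMR]
  haveI : Module.Flat E L := IsLocalization.flat L (M.map (algebraMap C' E)).primeCompl
  haveI : Module.Flat C L := Module.Flat.trans C E L
  haveI : Module.Flat R L := Module.Flat.trans R E L
  haveI : Algebra.EssFiniteType R L := Algebra.EssFiniteType.comp R E L
  haveI : Algebra.FormallyUnramified E L := Algebra.FormallyUnramified.of_isLocalization (M.map (algebraMap C' E)).primeCompl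
  haveI : Algebra.FormallyUnramified R L := Algebra.FormallyUnramified.comp R E L
  refine isEtaleAt_of_flat_local A C R L hm (fun x => ?_) q ?_
  · obtain ⟨r, rfl⟩ := IsLocalRing.residue_surjective x
    obtain ⟨a, ha⟩ := Adic7.exists_sub_algebraMap_mem (maximalIdeal A) (IsNoetherian.noetherian _) r 1
    refine ⟨a, ?_⟩
    rw [pow_one, hm] at ha
    exact ((Ideal.Quotient.eq).mpr ha).symm
  · rw [IsScalarTower.algebraMap_eq C E L, ← Ideal.comap_comap, ← Ideal.under_def E,
      Localization.AtPrime.under_maximalIdeal, IsScalarTower.algebraMap_eq C C' E, ← Ideal.comap_comap, hcompM]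
    exact hMq.over.symm

end Groth.Agent.H9Pur

end
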