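import Groth.Agent.H9Pur.QuotPurity

/-!
# Depth lifts along ideals with free graded pieces
-/

set_option autoImplicit false
set_option linter.style.haveILetI false

universe u

open IsLocalRing

noncomputable section

namespace Groth.Agent.H9Pur

variable {A : Type u} [CommRing A] [IsNoetherianRing A] [IsLocalRing A]

/-- In a Noetherian local ring, the second element of a regular pair is regular. -/
theorem nzd_of_pair {h k : A} (hh : h ∈ maximalIdeal A) (hl : ∀ z, h * z = 0 → z = 0)
    (hd : ∀ z w, k * z = h * w → ∃ c, z = h * c) (z : A) (hz : k * z = 0) : z = 0 := by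
  have key : ∀ (n : ℕ) (z : A), k * z = 0 → h ^ n ∣ z := fun n => by
    induction n with
    | zero => intro z _; rw [pow_zero]; exact one_dvd _
    | succ n ih =>
      intro z hz
      obtain ⟨z', rfl⟩ := hd z 0 (by rw [hz, mul_zero])
      rw [pow_succ']
      exact mul_dvd_mul_left h (ih z' (hl _ (by rw [← hz]; ring)))
  refine (Submodule.mem_bot A).1 ((Ideal.iInf_pow_eq_bot_of_isLocalRing (maximalIdeal A)
    (maximalIdeal.isMaximal A).ne_top).le ((Submodule.mem_iInf _).2 fun n => ?_))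
  obtain ⟨w, rfl⟩ := key n z hz
  exact Ideal.mul_mem_right _ _ (Ideal.pow_mem_pow hh n)

/-- Depth at least three lifts from the quotient, with a regular pair modulo the ideal. -/
theorem depth_of_quot (J : Ideal A) (hJ : J ≤ maximalIdeal A) [IsLocalRing (A ⧸ J)] (hgr : GrFree J)
    (hd : (3 : ℕ∞) ≤ LocCoh.depth (A ⧸ J) (A ⧸ J)) :
    (3 : ℕ∞) ≤ LocCoh.depth A A ∧ ∃ h ∈ maximalIdeal A, ∃ k ∈ maximalIdeal A, PairMod h k J := by
  classical
  rw [LocCoh.depth, LocCoh.idealDepth] at hd
  split_ifs at hd with htop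
  · exact absurd (by simpa using htop) (maximalIdeal.isMaximal (A ⧸ J)).ne_top
  obtain ⟨rs, hrs, hI, hlen⟩ : ∃ rs : List (A ⧸ J), RingTheory.Sequence.IsWeaklyRegular (A ⧸ J) rs ∧
      (∀ r ∈ rs, r ∈ maximalIdeal (A ⧸ J)) ∧ 3 ≤ rs.length := by
    by_contra! hne
    have h1 : (⨆ (rs : List (A ⧸ J)) (_ : RingTheory.Sequence.IsWeaklyRegular (A ⧸ J) rs ∧
        ∀ r ∈ rs, r ∈ maximalIdeal (A ⧸ J)), (rs.length : ℕ∞)) ≤ 2 := by
      refine iSup₂_le fun rs hrs => ?_
      exact_mod_cast Nat.lt_succ_iff.1 (hne rs hrs.1 hrs.2)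
    exact absurd (hd.trans h1) (by norm_num)
  match rs, hlen with
  | x :: y :: z :: tl, _ =>
    obtain ⟨h1, h2, h3⟩ := isWeaklyRegular_three hrs x y z tl rfl
    have hxm : x ∈ maximalIdeal (A ⧸ J) := hI x (by simp)
    have hy0 := nzd_of_pair hxm h1 h2
    have hlift : ∀ w ∈ maximalIdeal (A ⧸ J), ∃ g ∈ maximalIdeal A, Ideal.Quotient.mk J g = w := fun w hw => by
      obtain ⟨g, rfl⟩ := Ideal.Quotient.mk_surjective w
      rw [mem_maximalIdeal, mem_nonunits_iff] at hw
      exact ⟨g, (mem_maximalIdeal g).2 (mem_nonunits_iff.2 fun hu => hw (hu.map _)), rfl⟩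
    obtain ⟨h, hh, hhx⟩ := hlift x hxm
    obtain ⟨k, hk, hky⟩ := hlift y (hI y (by simp))
    obtain ⟨l, hl, hlz⟩ := hlift z (hI z (by simp))
    have hPJ : PairMod h k J := by
      refine ⟨fun a ha => ?_, fun a ha => ?_, fun a b hab => ?_⟩
      · rw [← Ideal.Quotient.eq_zero_iff_mem, map_mul, hhx] at ha
        exact Ideal.Quotient.eq_zero_iff_mem.1 (h1 _ ha)
      · rw [← Ideal.Quotient.eq_zero_iff_mem, map_mul, hky] at ha
        exact Ideal.Quotient.eq_zero_iff_mem.1 (hy0 _ ha)
      · rw [← Ideal.Quotient.eq_zero_iff_mem, map_sub, map_mul, map_mul, hhx, hky, sub_eq_zero] at hab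
        obtain ⟨c, hc⟩ := h2 _ _ hab
        obtain ⟨c, rfl⟩ := Ideal.Quotient.mk_surjective c
        exact ⟨c, by rw [← Ideal.Quotient.eq_zero_iff_mem, map_sub, map_mul, hhx, hc, sub_self]⟩
    refine ⟨?_, h, hh, k, hk, hPJ⟩
    have hjac : J ≤ Ideal.jacobson ⊥ := by rwa [IsLocalRing.jacobson_eq_maximalIdeal ⊥ bot_ne_top]
    have hbot := pairMod_bot_of_forall hjac (hgr.pairMod hPJ)
    have hd3 : ∀ a u v, l * a - (h * u + k * v) ∈ J → ∃ p q, a - (h * p + k * q) ∈ J := fun a u v hab => by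
      rw [← Ideal.Quotient.eq_zero_iff_mem, map_sub, map_add, map_mul, map_mul, map_mul, hhx, hky, hlz,
        sub_eq_zero] at hab
      obtain ⟨p, q, hpq⟩ := h3 _ _ _ hab
      obtain ⟨p, rfl⟩ := Ideal.Quotient.mk_surjective p
      obtain ⟨q, rfl⟩ := Ideal.Quotient.mk_surjective q
      exact ⟨p, q, by rw [← Ideal.Quotient.eq_zero_iff_mem, map_sub, map_add, map_mul, map_mul, hhx, hky, hpq, sub_self]⟩
    have hreg : RingTheory.Sequence.IsWeaklyRegular A [h, k, l] := by
      rw [RingTheory.Sequence.isWeaklyRegular_iff_Fin]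
      intro i
      rw [isSMulRegular_quotient_iff_mem_of_smul_mem]
      intro a ha
      match i with
      | ⟨0, _⟩ =>
        simp only [Ideal.ofList, List.take_zero, List.not_mem_nil, Set.ofPred_false, Ideal.span_empty,
          List.getElem_cons_zero, Fin.getElem_fin, smul_eq_mul, Ideal.mul_top] at ha ⊢
        exact hbot.left _ ha
      | ⟨1, _⟩ =>
        simp only [Ideal.ofList, List.take_succ_cons, List.take_zero, List.mem_singleton, List.getElem_cons_succ,
          List.getElem_cons_zero, Fin.getElem_fin, smul_eq_mul, Ideal.mul_top, Set.ofPred_eq_eq_singleton,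
          Ideal.mem_span_singleton] at ha ⊢
        obtain ⟨c, hc⟩ := ha
        obtain ⟨v, hv⟩ := hbot.div a c (by rw [Submodule.mem_bot, hc, sub_self])
        exact ⟨v, sub_eq_zero.1 ((Submodule.mem_bot A).1 hv)⟩
      | ⟨2, _⟩ =>
        have hset : {r | r ∈ [h, k]} = ({h, k} : Set A) := by ext; simp
        simp only [Ideal.ofList, List.take_succ_cons, List.take_zero, List.getElem_cons_succ, List.getElem_cons_zero,
          Fin.getElem_fin, smul_eq_mul, Ideal.mul_top, hset] at ha ⊢
        exact hgr.regular_third hjac hPJ hd3 ha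
    rw [LocCoh.depth, LocCoh.idealDepth]
    split_ifs with htop'
    · exact le_top
    refine le_trans (le_of_eq ?_) (le_iSup₂ [h, k, l] ⟨hreg, ?_⟩)
    · simp
    · intro r hr
      simp only [List.mem_cons, List.not_mem_nil, or_false] at hr
      rcases hr with rfl | rfl | rfl <;> assumption

end Groth.Agent.H9Pur

end
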