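import Groth.Agent.EtLoc7.Basic
import Groth.Agent.RigPt7.Base
import Mathlib.RingTheory.LocalRing.ResidueField.Basic
import Mathlib.RingTheory.Unramified.LocalRing
import Mathlib.RingTheory.Flat.FaithfullyFlat.Algebra

/-!
# Étaleness at a prime descends from a local algebra which is flat and unramified
-/

set_option autoImplicit false
set_option linter.style.haveILetI false

universe u

noncomputable section

namespace Groth.Agent.H9Pur

open IsLocalRing

/-- A finite type algebra is étale at a prime over the closed point if a flat local algebra over it is
flat and unramified over a flat local extension of the base with the same residue field. -/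
theorem isEtaleAt_of_flat_local (A C R L : Type u) [CommRing A] [CommRing C] [CommRing R] [CommRing L]
    [IsLocalRing A] [IsNoetherianRing A] [IsLocalRing R] [IsLocalRing L]
    [Algebra A C] [Algebra.FiniteType A C] [Algebra A R] [Algebra R L] [Algebra C L] [Algebra A L]
    [IsScalarTower A C L] [IsScalarTower A R L]
    [IsLocalHom (algebraMap A R)] [IsLocalHom (algebraMap R L)]
    [Module.Flat A R] [Module.Flat R L] [Module.Flat C L]
    [Algebra.FormallyUnramified R L] [Algebra.EssFiniteType R L]
    (hm : (maximalIdeal A).map (algebraMap A R) = maximalIdeal R)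
    (hres : Function.Surjective ((IsLocalRing.residue R).comp (algebraMap A R)))
    (q : Ideal C) [q.IsPrime] (hq : (maximalIdeal L).comap (algebraMap C L) = q) :
    Algebra.IsEtaleAt A q := by
  let B := Localization.AtPrime q
  have hu : ∀ s : q.primeCompl, IsUnit (algebraMap C L s) := fun s => by
    by_contra h
    exact s.2 (show (s : C) ∈ q from hq ▸ h)
  letI : Algebra B L := (IsLocalization.lift (M := q.primeCompl) (S := B) hu).toAlgebra
  haveI : IsScalarTower C B L := IsScalarTower.of_algebraMap_eq fun c =>
    (IsLocalization.lift_eq (M := q.primeCompl) (S := B) hu c).symm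
  haveI : IsScalarTower A B L := IsScalarTower.of_algebraMap_eq fun a => by
    rw [IsScalarTower.algebraMap_apply A C B, ← IsScalarTower.algebraMap_apply C B L,
      ← IsScalarTower.algebraMap_apply A C L]
  haveI : Module.Flat B L :=
    (Module.flat_iff_of_isLocalization B q.primeCompl L).mpr inferInstance
  haveI : IsLocalHom (algebraMap B L) := by
    refine ((local_hom_TFAE (algebraMap B L)).out 0 4 rfl rfl).mpr ?_
    rw [← IsLocalization.map_comap q.primeCompl B ((maximalIdeal L).comap (algebraMap B L)),
      Ideal.under, Ideal.comap_comap, ← IsScalarTower.algebraMap_eq, hq]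
    exact Localization.AtPrime.map_eq_maximalIdeal
  haveI : Module.FaithfullyFlat B L := Module.FaithfullyFlat.of_flat_of_isLocalHom
  haveI : IsLocalHom (algebraMap A B) := ⟨fun a ha => by
    have h1 : IsUnit (algebraMap A L a) := by
      rw [IsScalarTower.algebraMap_apply A B L]; exact ha.map _
    rw [IsScalarTower.algebraMap_apply A R L] at h1
    exact isUnit_of_map_unit (algebraMap A R) _ (isUnit_of_map_unit (algebraMap R L) _ h1)⟩
  haveI : Module.Flat A L := Module.Flat.trans A R L
  haveI : Module.Flat A B := RigPt7.flat_of_faithfullyFlat A B L
  haveI : Algebra.EssFiniteType A B := Algebra.EssFiniteType.comp A C B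
  have hmB : (maximalIdeal A).map (algebraMap A B) = maximalIdeal B := by
    rw [← Ideal.comap_map_eq_self_of_faithfullyFlat (B := L) ((maximalIdeal A).map (algebraMap A B)),
      Ideal.map_map, ← IsScalarTower.algebraMap_eq, IsScalarTower.algebraMap_eq A R L, ← Ideal.map_map,
      hm, Algebra.FormallyUnramified.map_maximalIdeal]
    exact ((local_hom_TFAE (algebraMap B L)).out 0 4 rfl rfl).mp ‹_›
  haveI : IsLocalHom (algebraMap A L) := by
    rw [IsScalarTower.algebraMap_eq A R L]
    exact RingHom.isLocalHom_comp _ _
  haveI : Algebra.IsSeparable (ResidueField A) (ResidueField R) := by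
    refine ⟨fun x => ?_⟩
    obtain ⟨a, rfl⟩ := hres x
    exact isSeparable_algebraMap (IsLocalRing.residue A a)
  haveI : Algebra.IsSeparable (ResidueField A) (ResidueField L) :=
    Algebra.IsSeparable.trans (ResidueField A) (ResidueField R) (ResidueField L)
  haveI : Algebra.IsSeparable (ResidueField A) (ResidueField B) :=
    Algebra.isSeparable_tower_bot_of_isSeparable (ResidueField A) (ResidueField B) (ResidueField L)
  haveI : Algebra.FormallyUnramified A B := Algebra.FormallyUnramified.of_map_maximalIdeal hmB
  exact EtLoc7.formallyEtale_of_formallyUnramified A B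

end Groth.Agent.H9Pur

end
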