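import Groth.Agent.H9Pur.GrFree
import Mathlib.LinearAlgebra.TensorProduct.Tower
import Mathlib.RingTheory.Flat.Basic
import Mathlib.RingTheory.LocalRing.ResidueField.Basic

/-!
# The graded pieces of the extended maximal ideal of a flat algebra are free
-/

set_option autoImplicit false
set_option linter.style.haveILetI false

universe u

open IsLocalRing TensorProduct

noncomputable section

namespace Groth.Agent.H9Pur

variable {A B : Type u} [CommRing A] [CommRing B] [IsLocalRing A] [Algebra A B] [Module.Flat A B]

/-- The maximal ideal of the base extends to an ideal with free graded pieces. -/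
theorem grFree_map_maximalIdeal : GrFree ((maximalIdeal A).map (algebraMap A B)) := by
  intro n
  let m := maximalIdeal A
  let J := m.map (algebraMap A B)
  let M := ↥(m ^ n)
  let N := ↥(J ^ n)
  let G := N ⧸ (J • (⊤ : Submodule B N))
  have hmem : ∀ x : M, algebraMap A B (x : A) ∈ J ^ n := fun x => by
    simp only [J, ← Ideal.map_pow]
    exact Ideal.mem_map_of_mem _ x.2
  let f : M →ₗ[A] N :=
    { toFun := fun x => ⟨algebraMap A B (x : A), hmem x⟩
      map_add' := fun x y => Subtype.ext (map_add _ _ _)
      map_smul' := fun r x => Subtype.ext (by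
        show algebraMap A B (r * (x : A)) = r • algebraMap A B (x : A)
        rw [map_mul, Algebra.smul_def]) }
  let Φ : B ⊗[A] M →ₗ[B] N := f.liftBaseChange B
  have hΦinj : Function.Injective Φ := by
    have h1 := Module.Flat.lTensor_preserves_injective_linearMap (M := B) (m ^ n).subtype Subtype.val_injective
    have h2 : ∀ z, (Φ z : B) = TensorProduct.rid A B (LinearMap.lTensor B (m ^ n).subtype z) := fun z => by
      induction z with
      | zero => simp
      | add z z' hz hz' =>
        rw [map_add, map_add, map_add]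
        exact congrArg₂ (· + ·) hz hz'
      | tmul b x =>
        simp only [Φ, LinearMap.liftBaseChange_tmul, LinearMap.lTensor_tmul, Submodule.coe_subtype,
          TensorProduct.rid_tmul]
        show b * algebraMap A B (x : A) = (x : A) • b
        rw [Algebra.smul_def, mul_comm]
    intro z z' hzz
    exact h1 ((TensorProduct.rid A B).injective (by rw [← h2, ← h2, hzz]))
  have hΦsurj : Function.Surjective Φ := by
    have h : ∀ y ∈ (m ^ n).map (algebraMap A B), ∃ z, (Φ z : B) = y := fun y hy => by
      induction hy using Submodule.span_induction with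
      | mem y hy =>
        obtain ⟨x, hx, rfl⟩ := hy
        exact ⟨1 ⊗ₜ ⟨x, hx⟩, by simp [Φ, f]⟩
      | zero => exact ⟨0, by rw [map_zero]; rfl⟩
      | add y y' _ _ h1 h2 =>
        obtain ⟨z, hz⟩ := h1
        obtain ⟨z', hz'⟩ := h2
        exact ⟨z + z', by rw [map_add]; exact congrArg₂ (· + ·) hz hz'⟩
      | smul r y _ h1 =>
        obtain ⟨z, hz⟩ := h1
        exact ⟨r • z, by rw [map_smul]; exact congrArg (r • ·) hz⟩
    intro y
    obtain ⟨z, hz⟩ := h y.1 ((Ideal.map_pow (algebraMap A B) m n).symm ▸ y.2)
    exact ⟨z, Subtype.ext hz⟩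
  let g : M →ₗ[A] G := ((Submodule.mkQ _).restrictScalars A).comp f
  let Θ : (B ⧸ J) ⊗[A] M →ₗ[B ⧸ J] G := g.liftBaseChange (B ⧸ J)
  have hq : ∀ z : B ⊗[A] M, Θ (LinearMap.rTensor M (IsScalarTower.toAlgHom A B (B ⧸ J)).toLinearMap z) =
      Submodule.Quotient.mk (Φ z) := fun z => by
    induction z with
    | zero => simp
    | add z z' hz hz' => simp [hz, hz']
    | tmul b x =>
      simp only [Θ, Φ, g, LinearMap.rTensor_tmul, LinearMap.liftBaseChange_tmul, LinearMap.comp_apply]
      rfl
  have hrs : Function.Surjective (LinearMap.rTensor M (IsScalarTower.toAlgHom A B (B ⧸ J)).toLinearMap) :=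
    LinearMap.rTensor_surjective M Ideal.Quotient.mk_surjective
  have hbij : Function.Bijective Θ := by
    refine ⟨LinearMap.ker_eq_bot.1 (LinearMap.ker_eq_bot'.2 fun z hz => ?_), fun y => ?_⟩
    · obtain ⟨z, rfl⟩ := hrs z
      rw [hq, Submodule.Quotient.mk_eq_zero] at hz
      have h1 : z ∈ J • (⊤ : Submodule B (B ⊗[A] M)) := by
        have h2 : Φ z ∈ (J • (⊤ : Submodule B (B ⊗[A] M))).map Φ := by
          rw [Submodule.map_smul'', Submodule.map_top, LinearMap.range_eq_top.2 hΦsurj]
          exact hz
        obtain ⟨w, hw, he⟩ := h2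
        rwa [← hΦinj he]
      clear hz
      induction h1 using Submodule.smul_induction_on' with
      | add a _ b _ ha hb => rw [map_add, ha, hb, add_zero]
      | smul r hr w hw =>
        clear hw
        induction w with
        | zero => simp
        | add a b ha hb => rw [smul_add, map_add, ha, hb, add_zero]
        | tmul b x =>
          rw [TensorProduct.smul_tmul', LinearMap.rTensor_tmul]
          show Ideal.Quotient.mk J (r * b) ⊗ₜ[A] x = 0
          rw [Ideal.Quotient.eq_zero_iff_mem.2 (J.mul_mem_right b hr), TensorProduct.zero_tmul]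
    · obtain ⟨y, rfl⟩ := Submodule.Quotient.mk_surjective _ y
      obtain ⟨z, rfl⟩ := hΦsurj y
      exact ⟨_, hq z⟩
  let e := (AlgebraTensorModule.cancelBaseChange A (A ⧸ m) (B ⧸ J) (B ⧸ J) M).trans
    (LinearEquiv.ofBijective Θ hbij)
  letI : Field (A ⧸ m) := Ideal.Quotient.field m
  exact Module.Free.of_equiv e

end Groth.Agent.H9Pur

end
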