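import Groth.Agent.H9Pur.Present
import Groth.Prelude.Def_CAlg
import Mathlib.RingTheory.Filtration
import Mathlib.RingTheory.Regular.RegularSequence

/-!
# Regular sequences lift along ideals with free graded pieces
-/

set_option autoImplicit false
set_option linter.style.haveILetI false

universe u

open IsLocalRing

noncomputable section

namespace Groth.Agent.H9Pur

variable {A : Type u} [CommRing A]

/-- All the graded pieces of the `J`-adic filtration are free. -/
def GrFree (J : Ideal A) : Prop :=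
  ∀ n : ℕ, Module.Free (A ⧸ J) (↥(J ^ n) ⧸ (J • (⊤ : Submodule A ↥(J ^ n))))

theorem mk_gr_eq_zero {J : Ideal A} {n : ℕ} (y : ↥(J ^ n)) :
    (Submodule.Quotient.mk y : ↥(J ^ n) ⧸ (J • (⊤ : Submodule A ↥(J ^ n)))) = 0 ↔ (y : A) ∈ J ^ (n + 1) := by
  rw [Submodule.Quotient.mk_eq_zero, Submodule.mem_smul_top_iff, smul_eq_mul, ← pow_succ']

theorem mk_smul_gr {J : Ideal A} {n : ℕ} (l : A) (y : ↥(J ^ n)) :
    (Ideal.Quotient.mk J l) • (Submodule.Quotient.mk y : ↥(J ^ n) ⧸ (J • (⊤ : Submodule A ↥(J ^ n)))) =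
      Submodule.Quotient.mk (l • y) := rfl

/-- An element regular modulo `J` is regular on the graded pieces. -/
theorem GrFree.cancel {J : Ideal A} (hgr : GrFree J) {h : A} (hl : ∀ z, h * z ∈ J → z ∈ J) (n : ℕ) {y : A}
    (hy : y ∈ J ^ n) (hhy : h * y ∈ J ^ (n + 1)) : y ∈ J ^ (n + 1) := by
  haveI := hgr n
  rw [← mk_gr_eq_zero ⟨y, hy⟩]
  let b := Module.Free.chooseBasis (A ⧸ J) (↥(J ^ n) ⧸ (J • (⊤ : Submodule A ↥(J ^ n))))
  apply b.repr.injective
  rw [map_zero]
  ext i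
  rw [Finsupp.zero_apply]
  have h1 := congrArg (fun v => b.repr v i)
    (show Ideal.Quotient.mk J h • (Submodule.Quotient.mk ⟨y, hy⟩ : ↥(J ^ n) ⧸ (J • (⊤ : Submodule A ↥(J ^ n)))) = 0 by
      rw [mk_smul_gr, mk_gr_eq_zero]; exact hhy)
  simp only [map_smul, map_zero, Finsupp.smul_apply, Finsupp.zero_apply, smul_eq_mul] at h1
  obtain ⟨c, hc⟩ := Ideal.Quotient.mk_surjective (b.repr (Submodule.Quotient.mk ⟨y, hy⟩) i)
  rw [← hc, ← map_mul, Ideal.Quotient.eq_zero_iff_mem] at h1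
  rw [← hc, Ideal.Quotient.eq_zero_iff_mem]
  exact hl c h1

/-- An element regular modulo `J + I` for a finitely generated `I` detects membership in the graded pieces. -/
theorem GrFree.div {J : Ideal A} (hgr : GrFree J) {h k l : A}
    (hd : ∀ z u v, l * z - (h * u + k * v) ∈ J → ∃ a b, z - (h * a + k * b) ∈ J) (n : ℕ) {y u v : A}
    (hy : y ∈ J ^ n) (hu : u ∈ J ^ n) (hv : v ∈ J ^ n) (he : l * y - (h * u + k * v) ∈ J ^ (n + 1)) :
    ∃ a ∈ J ^ n, ∃ b ∈ J ^ n, y - (h * a + k * b) ∈ J ^ (n + 1) := by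
  haveI := hgr n
  let Q := ↥(J ^ n) ⧸ (J • (⊤ : Submodule A ↥(J ^ n)))
  let b := Module.Free.chooseBasis (A ⧸ J) Q
  let m : ↥(J ^ n) → Q := Submodule.Quotient.mk
  have h0 : Ideal.Quotient.mk J l • m ⟨y, hy⟩ - (Ideal.Quotient.mk J h • m ⟨u, hu⟩ + Ideal.Quotient.mk J k • m ⟨v, hv⟩) = 0 := by
    show (Submodule.Quotient.mk (l • (⟨y, hy⟩ : ↥(J ^ n)) - (h • ⟨u, hu⟩ + k • ⟨v, hv⟩)) : Q) = 0
    rw [mk_gr_eq_zero]
    exact he
  have hi : ∀ i, ∃ p q : A ⧸ J, b.repr (m ⟨y, hy⟩) i = Ideal.Quotient.mk J h * p + Ideal.Quotient.mk J k * q := fun i => by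
    have h1 := congrArg (fun v => b.repr v i) h0
    simp only [map_sub, map_add, map_smul, map_zero, Finsupp.sub_apply, Finsupp.add_apply, Finsupp.smul_apply,
      Finsupp.zero_apply, smul_eq_mul] at h1
    obtain ⟨y', hy'⟩ := Ideal.Quotient.mk_surjective (b.repr (m ⟨y, hy⟩) i)
    obtain ⟨u', hu'⟩ := Ideal.Quotient.mk_surjective (b.repr (m ⟨u, hu⟩) i)
    obtain ⟨v', hv'⟩ := Ideal.Quotient.mk_surjective (b.repr (m ⟨v, hv⟩) i)
    rw [← hy', ← hu', ← hv', ← map_mul, ← map_mul, ← map_mul, ← map_add, ← map_sub,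
      Ideal.Quotient.eq_zero_iff_mem] at h1
    obtain ⟨p, q, hpq⟩ := hd y' u' v' h1
    exact ⟨Ideal.Quotient.mk J p, Ideal.Quotient.mk J q, by
      rw [← hy', ← map_mul, ← map_mul, ← map_add, Ideal.Quotient.eq]; exact hpq⟩
  choose p q hpq using hi
  let s := (b.repr (m ⟨y, hy⟩)).support
  obtain ⟨⟨a₀, ha₀⟩, hA⟩ := Submodule.Quotient.mk_surjective _ (∑ i ∈ s, p i • b i : Q)
  obtain ⟨⟨b₀, hb₀⟩, hB⟩ := Submodule.Quotient.mk_surjective _ (∑ i ∈ s, q i • b i : Q)
  refine ⟨a₀, ha₀, b₀, hb₀, (mk_gr_eq_zero ((⟨y, hy⟩ : ↥(J ^ n)) - (h • (⟨a₀, ha₀⟩ : ↥(J ^ n)) + k • (⟨b₀, hb₀⟩ : ↥(J ^ n))))).1 ?_⟩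
  rw [Submodule.Quotient.mk_sub, Submodule.Quotient.mk_add, ← mk_smul_gr, ← mk_smul_gr, hA, hB, sub_eq_zero,
    Finset.smul_sum, Finset.smul_sum, ← Finset.sum_add_distrib]
  refine (b.linearCombination_repr (m ⟨y, hy⟩)).symm.trans ?_
  rw [Finsupp.linearCombination_apply, Finsupp.sum]
  refine Finset.sum_congr rfl fun i _ => ?_
  rw [smul_smul, smul_smul, ← add_smul, ← hpq]

/-- A regular pair modulo `J` is one modulo every power. -/
theorem GrFree.pairMod {J : Ideal A} (hgr : GrFree J) {h k : A} (hP : PairMod h k J) :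
    ∀ n, PairMod h k (J ^ n) := by
  intro n
  induction n with
  | zero => rw [pow_zero, Ideal.one_eq_top]; exact ⟨fun _ _ => trivial, fun _ _ => trivial, fun _ _ _ => ⟨0, trivial⟩⟩
  | succ n ih =>
    have hle : J ^ (n + 1) ≤ J ^ n := Ideal.pow_le_pow_right n.le_succ
    refine ⟨fun z hz => hgr.cancel hP.left n (ih.left z (hle hz)) hz,
      fun z hz => hgr.cancel hP.right n (ih.right z (hle hz)) hz, fun z w hz => ?_⟩
    obtain ⟨v, hv⟩ := ih.div z w (hle hz)
    have hu : w - k * v ∈ J ^ n := ih.left _ (by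
      have := sub_mem ((J ^ n).mul_mem_left k hv) (hle hz)
      convert this using 1
      ring)
    obtain ⟨a, ha, b, hb, hab⟩ := hgr.div (h := h) (k := (0 : A)) (l := k)
      (fun z u v hz => by
        obtain ⟨w, hw⟩ := hP.div z u (by simpa using hz)
        exact ⟨w, 0, by simpa using hw⟩) n hv hu (zero_mem _) (by
      convert hz using 1
      ring)
    exact ⟨v + a, by convert hab using 1; ring⟩

theorem mem_of_forall_mem_sup [IsNoetherianRing A] {J I : Ideal A} (hJ : J ≤ Ideal.jacobson ⊥) {z : A}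
    (hz : ∀ n, ∃ c ∈ I, z - c ∈ J ^ n) : z ∈ I := by
  rw [← Ideal.Quotient.eq_zero_iff_mem]
  refine Submodule.mem_bot A |>.mp ((Ideal.iInf_pow_smul_eq_bot_of_le_jacobson (M := A ⧸ I) J hJ).le ?_)
  rw [Submodule.mem_iInf]
  intro n
  obtain ⟨c, hc, hzc⟩ := hz n
  have : (Ideal.Quotient.mk I z : A ⧸ I) = (z - c) • (1 : A ⧸ I) := by
    rw [Algebra.smul_def, mul_one, Ideal.Quotient.algebraMap_eq, map_sub, Ideal.Quotient.eq_zero_iff_mem.2 hc, sub_zero]
  rw [this]
  exact Submodule.smul_mem_smul hzc trivial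

theorem pairMod_bot_of_forall [IsNoetherianRing A] {J : Ideal A} (hJ : J ≤ Ideal.jacobson ⊥) {h k : A}
    (hP : ∀ n, PairMod h k (J ^ n)) : PairMod h k ⊥ := by
  refine ⟨fun z hz => mem_of_forall_mem_sup hJ fun n => ⟨0, zero_mem _, ?_⟩,
    fun z hz => mem_of_forall_mem_sup hJ fun n => ⟨0, zero_mem _, ?_⟩, fun z w hz => ?_⟩
  · rw [sub_zero]; exact (hP n).left z (by rw [(Submodule.mem_bot A).1 hz]; exact zero_mem _)
  · rw [sub_zero]; exact (hP n).right z (by rw [(Submodule.mem_bot A).1 hz]; exact zero_mem _)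
  · have h1 : z ∈ Ideal.span {h} := mem_of_forall_mem_sup hJ fun n => by
      obtain ⟨v, hv⟩ := (hP n).div z w (by rw [(Submodule.mem_bot A).1 hz]; exact zero_mem _)
      exact ⟨h * v, Ideal.mem_span_singleton.2 ⟨v, rfl⟩, hv⟩
    obtain ⟨v, hv⟩ := Ideal.mem_span_singleton.1 h1
    exact ⟨v, by rw [Submodule.mem_bot, hv, sub_self]⟩

/-- A third regular element lifts. -/
theorem GrFree.regular_third [IsNoetherianRing A] {J : Ideal A} (hgr : GrFree J) (hJ : J ≤ Ideal.jacobson ⊥)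
    {h k l : A} (hP : PairMod h k J)
    (hd : ∀ z u v, l * z - (h * u + k * v) ∈ J → ∃ a b, z - (h * a + k * b) ∈ J) {z : A}
    (hz : l * z ∈ Ideal.span {h, k}) : z ∈ Ideal.span {h, k} := by
  obtain ⟨u, v, huv⟩ := Ideal.mem_span_pair.1 hz
  refine mem_of_forall_mem_sup hJ fun n => ?_
  suffices h0 : ∃ a b, z - (h * a + k * b) ∈ J ^ n by
    obtain ⟨a, b, hab⟩ := h0
    exact ⟨h * a + k * b, Ideal.mem_span_pair.2 ⟨a, b, by ring⟩, hab⟩
  induction n with
  | zero => exact ⟨0, 0, by simp⟩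
  | succ n ih =>
    obtain ⟨a, b, hy⟩ := ih
    -- `l * y` is a combination, and the coefficients may be taken in `J ^ n`
    have he : h * (u - l * a) + k * (v - l * b) = l * (z - (h * a + k * b)) := by linear_combination huv
    obtain ⟨w, hw⟩ := (hgr.pairMod hP n).div (v - l * b) (-(u - l * a)) (by
      rw [show k * (v - l * b) - h * -(u - l * a) = l * (z - (h * a + k * b)) by rw [← he]; ring]
      exact (J ^ n).mul_mem_left l hy)
    have hu : u - l * a + k * w ∈ J ^ n := (hgr.pairMod hP n).left _ (by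
      have := sub_mem ((J ^ n).mul_mem_left l hy) ((J ^ n).mul_mem_left k hw)
      convert this using 1
      linear_combination he)
    obtain ⟨a', -, b', -, hab⟩ := hgr.div hd n hy hu hw (by
      rw [show l * (z - (h * a + k * b)) - (h * (u - l * a + k * w) + k * (v - l * b - h * w)) = 0 by
        rw [← he]; ring]
      exact zero_mem _)
    exact ⟨a + a', b + b', by convert hab using 1; ring⟩

theorem isWeaklyRegular_three {R : Type u} [CommRing R] {rs : List R}
    (h : RingTheory.Sequence.IsWeaklyRegular R rs) (x y z : R) (tl : List R) (he : rs = x :: y :: z :: tl) :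
    (∀ a, x * a = 0 → a = 0) ∧ (∀ a b, y * a = x * b → ∃ c, a = x * c) ∧
      ∀ a b c, z * a = x * b + y * c → ∃ p q, a = x * p + y * q := by
  subst he
  rw [RingTheory.Sequence.isWeaklyRegular_iff_Fin] at h
  refine ⟨fun a ha => ?_, fun a b hab => ?_, fun a b c habc => ?_⟩
  · have h0 := h ⟨0, by simp⟩
    rw [isSMulRegular_quotient_iff_mem_of_smul_mem] at h0
    simpa [Ideal.ofList] using h0 a (by simpa [Ideal.ofList] using ha)
  · have h1 := h ⟨1, by simp⟩
    rw [isSMulRegular_quotient_iff_mem_of_smul_mem] at h1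
    simp only [Ideal.ofList, List.take_succ_cons, List.take_zero, List.mem_singleton, List.getElem_cons_succ,
      List.getElem_cons_zero, Fin.getElem_fin, smul_eq_mul, Ideal.mul_top, Set.ofPred_eq_eq_singleton,
      Ideal.mem_span_singleton] at h1
    obtain ⟨c, hc⟩ := h1 a ⟨b, hab⟩
    exact ⟨c, hc⟩
  · have h2 := h ⟨2, by simp⟩
    rw [isSMulRegular_quotient_iff_mem_of_smul_mem] at h2
    have hset : {r | r ∈ [x, y]} = ({x, y} : Set R) := by ext; simp
    simp only [Ideal.ofList, List.take_succ_cons, List.take_zero, List.getElem_cons_succ, List.getElem_cons_zero,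
      Fin.getElem_fin, smul_eq_mul, Ideal.mul_top, hset, Ideal.mem_span_pair] at h2
    obtain ⟨p, q, hpq⟩ := h2 a ⟨b, c, by linear_combination -habc⟩
    exact ⟨p, q, by linear_combination -hpq⟩

end Groth.Agent.H9Pur

end
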