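import Groth.Agent.H9Pur.Present

/-! Sections on two opens computed in the reflexive hull, modulo ideals. -/

set_option autoImplicit false
set_option linter.style.haveILetI false

universe u

open Groth.Agent.Pi1Ext.RegPurity

noncomputable section

namespace Groth.Agent.H9Pur

variable {R C : Type u} [CommRing R] [CommRing C] [Algebra R C]

/-- A hull of `C`, split after inverting `h` and after inverting `k`. -/
structure Hull (R C : Type u) [CommRing R] [CommRing C] [Algebra R C] (h k : R) where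
  p : ℕ
  q : ℕ
  ε : C →ₗ[R] (Fin p → R)
  a : (Fin p → R) →ₗ[R] (Fin q → R)
  aε : ∀ c, a (ε c) = 0
  M : ℕ
  s₁ : (Fin p → R) →ₗ[R] C
  t₁ : (Fin q → R) →ₗ[R] (Fin p → R)
  se₁ : ∀ c, s₁ (ε c) = h ^ M • c
  es₁ : ∀ x, ε (s₁ x) + t₁ (a x) = h ^ M • x
  s₂ : (Fin p → R) →ₗ[R] C
  t₂ : (Fin q → R) →ₗ[R] (Fin p → R)
  se₂ : ∀ c, s₂ (ε c) = k ^ M • c
  es₂ : ∀ x, ε (s₂ x) + t₂ (a x) = k ^ M • x

theorem nonempty_hull [IsNoetherianRing R] [Module.Finite R C] {h k : R} (eh : EtAway R C h)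
    (ek : EtAway R C k) : Nonempty (Hull R C h k) := by
  obtain ⟨p, q, ε, a, aε, H⟩ := exists_hull_data (R := R) (C := C)
  obtain ⟨M₁, s₁, t₁, a₁, b₁⟩ := H h eh
  obtain ⟨M₂, s₂, t₂, a₂, b₂⟩ := H k ek
  exact ⟨⟨p, q, ε, a, aε, M₁ + M₂, h ^ M₂ • s₁, h ^ M₂ • t₁,
    fun c => by rw [LinearMap.smul_apply, a₁, smul_smul, ← pow_add, add_comm],
    fun x => by rw [LinearMap.smul_apply, LinearMap.smul_apply, map_smul, ← smul_add, b₁, smul_smul, ← pow_add, add_comm],
    k ^ M₁ • s₂, k ^ M₁ • t₂,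
    fun c => by rw [LinearMap.smul_apply, a₂, smul_smul, ← pow_add],
    fun x => by rw [LinearMap.smul_apply, LinearMap.smul_apply, map_smul, ← smul_add, b₂, smul_smul, ← pow_add]⟩⟩

/-- The localization of `C` away from an element of the base. -/
abbrev L (C : Type u) [CommRing C] [Algebra R C] (g : R) : Type u := Localization.Away (algebraMap R C g)

theorem isUnit_L (g : R) : IsUnit (algebraMap R (L C g) g) := by
  rw [IsScalarTower.algebraMap_apply R C (L C g)]
  exact IsLocalization.Away.algebraMap_isUnit _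

theorem isUnit_L_left (h k : R) : IsUnit (algebraMap R (L C (h * k)) h) :=
  isUnit_of_mul_isUnit_left (y := algebraMap R (L C (h * k)) k)
    ((map_mul (algebraMap R (L C (h * k))) h k) ▸ isUnit_L (C := C) (h * k) :)

theorem isUnit_L_right (h k : R) : IsUnit (algebraMap R (L C (h * k)) k) :=
  isUnit_of_mul_isUnit_right (x := algebraMap R (L C (h * k)) h)
    ((map_mul (algebraMap R (L C (h * k))) h k) ▸ isUnit_L (C := C) (h * k) :)

theorem coord_mem {p : ℕ} (f : C →ₗ[R] (Fin p → R)) {I : Ideal R} {c : C}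
    (hc : c ∈ I.map (algebraMap R C)) (i : Fin p) : f c i ∈ I := by
  have hc' : c ∈ (I • ⊤ : Submodule R C) := by rw [Ideal.smul_top_eq_map]; exact hc
  induction hc' using Submodule.smul_induction_on' with
  | smul r hr x _ => rw [map_smul, Pi.smul_apply, smul_eq_mul]; exact I.mul_mem_right _ hr
  | add x hxm y hym hx hy =>
    rw [map_add, Pi.add_apply]
    rw [Ideal.smul_top_eq_map] at hxm hym
    exact I.add_mem (hx hxm) (hy hym)

theorem mem_map_of_coord {p : ℕ} (f : (Fin p → R) →ₗ[R] C) {I : Ideal R} {x : Fin p → R}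
    (hx : ∀ i, x i ∈ I) : f x ∈ I.map (algebraMap R C) := by
  rw [apply_eq_sum f x]
  refine Ideal.sum_mem _ fun i _ => ?_
  rw [Algebra.smul_def]
  exact Ideal.mul_mem_right _ _ (Ideal.mem_map_of_mem _ (hx i))

theorem map_L_mem {g : R} {I : Ideal R} {c : C} (hc : c ∈ I.map (algebraMap R C)) :
    algebraMap C (L C g) c ∈ I.map (algebraMap R (L C g)) := by
  rw [IsScalarTower.algebraMap_eq R C (L C g), ← Ideal.map_map]
  exact Ideal.mem_map_of_mem _ hc

theorem of_map_L_mem {g : R} {I : Ideal R} {c : C}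
    (hc : algebraMap C (L C g) c ∈ I.map (algebraMap R (L C g))) :
    ∃ j : ℕ, g ^ j • c ∈ I.map (algebraMap R C) := by
  rw [IsScalarTower.algebraMap_eq R C (L C g), ← Ideal.map_map,
    IsLocalization.mem_map_algebraMap_iff (Submonoid.powers (algebraMap R C g))] at hc
  obtain ⟨⟨⟨d, hd⟩, ⟨_, i, rfl⟩⟩, he⟩ := hc
  rw [← map_mul] at he
  obtain ⟨⟨_, j, rfl⟩, he'⟩ := (IsLocalization.eq_iff_exists (Submonoid.powers (algebraMap R C g)) _).1 he
  refine ⟨j + i, ?_⟩
  have : g ^ (j + i) • c = algebraMap R C g ^ j * d := by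
    rw [Algebra.smul_def, map_pow, pow_add, ← he']; ring
  rw [this]
  exact Ideal.mul_mem_left _ _ hd

variable {h k : R} (D : Hull R C h k)

/-- The map to the sections away from `h`. -/
def Hull.Φ₁ : (Fin D.p → R) →ₗ[R] L C h :=
  (LinearMap.mulLeft R (↑((isUnit_L (C := C) h).pow D.M).unit⁻¹ : L C h)).comp
    ((IsScalarTower.toAlgHom R C (L C h)).toLinearMap.comp D.s₁)

/-- The map to the sections away from `k`. -/
def Hull.Φ₂ : (Fin D.p → R) →ₗ[R] L C k :=
  (LinearMap.mulLeft R (↑((isUnit_L (C := C) k).pow D.M).unit⁻¹ : L C k)).comp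
    ((IsScalarTower.toAlgHom R C (L C k)).toLinearMap.comp D.s₂)

theorem Hull.Φ₁_spec (x : Fin D.p → R) :
    algebraMap R (L C h) h ^ D.M * D.Φ₁ x = algebraMap C (L C h) (D.s₁ x) := by
  simp only [Hull.Φ₁, LinearMap.comp_apply, LinearMap.mulLeft_apply, AlgHom.toLinearMap_apply]
  rw [← mul_assoc, IsUnit.mul_val_inv, one_mul]
  rfl

theorem Hull.Φ₂_spec (x : Fin D.p → R) :
    algebraMap R (L C k) k ^ D.M * D.Φ₂ x = algebraMap C (L C k) (D.s₂ x) := by
  simp only [Hull.Φ₂, LinearMap.comp_apply, LinearMap.mulLeft_apply, AlgHom.toLinearMap_apply]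
  rw [← mul_assoc, IsUnit.mul_val_inv, one_mul]
  rfl

/-- Restriction from `D(h)` to `D(hk)`. -/
def res₁ (h k : R) : L C h →ₐ[C] L C (h * k) :=
  IsLocalization.Away.liftAlgHom (algebraMap R C h) (f := Algebra.ofId C (L C (h * k))) (by
    have h0 := isUnit_L_left (C := C) h k
    rw [IsScalarTower.algebraMap_apply R C (L C (h * k)) h] at h0
    exact h0)

/-- Restriction from `D(k)` to `D(hk)`. -/
def res₂ (h k : R) : L C k →ₐ[C] L C (h * k) :=
  IsLocalization.Away.liftAlgHom (algebraMap R C k) (f := Algebra.ofId C (L C (h * k))) (by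
    have h0 := isUnit_L_right (C := C) h k
    rw [IsScalarTower.algebraMap_apply R C (L C (h * k)) k] at h0
    exact h0)

theorem res₁_alg (r : R) : res₁ (C := C) h k (algebraMap R (L C h) r) = algebraMap R (L C (h * k)) r := by
  rw [IsScalarTower.algebraMap_apply R C (L C h), AlgHom.commutes, ← IsScalarTower.algebraMap_apply]

theorem res₂_alg (r : R) : res₂ (C := C) h k (algebraMap R (L C k) r) = algebraMap R (L C (h * k)) r := by
  rw [IsScalarTower.algebraMap_apply R C (L C k), AlgHom.commutes, ← IsScalarTower.algebraMap_apply]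

theorem Hull.eε_mem {I : Ideal R} {x : Fin D.p → R} (i : Fin D.p) (hx : ∀ j, D.a x j ∈ I) :
    h ^ D.M * x i - D.ε (D.s₁ x) i ∈ I ∧ k ^ D.M * x i - D.ε (D.s₂ x) i ∈ I := by
  refine ⟨?_, ?_⟩
  · have h1 := congrFun (D.es₁ x) i
    rw [Pi.add_apply, Pi.smul_apply, smul_eq_mul] at h1
    rw [← h1, add_sub_cancel_left, apply_eq_sum D.t₁ (D.a x), Finset.sum_apply]
    exact I.sum_mem fun j _ => I.mul_mem_right _ (hx j)
  · have h1 := congrFun (D.es₂ x) i
    rw [Pi.add_apply, Pi.smul_apply, smul_eq_mul] at h1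
    rw [← h1, add_sub_cancel_left, apply_eq_sum D.t₂ (D.a x), Finset.sum_apply]
    exact I.sum_mem fun j _ => I.mul_mem_right _ (hx j)

/-- Uniqueness of the hull element. -/
theorem Hull.unique {I : Ideal R} (hI : PairMod h k I) {x : Fin D.p → R} (hx : ∀ j, D.a x j ∈ I)
    (h0 : D.Φ₁ x ∈ I.map (algebraMap R (L C h))) (i : Fin D.p) : x i ∈ I := by
  have h1 : algebraMap C (L C h) (D.s₁ x) ∈ I.map (algebraMap R (L C h)) := by
    rw [← D.Φ₁_spec]; exact Ideal.mul_mem_left _ _ h0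
  obtain ⟨j, hj⟩ := of_map_L_mem h1
  have h2 := coord_mem D.ε hj i
  rw [map_smul, Pi.smul_apply, smul_eq_mul] at h2
  refine hI.cancel (j + D.M) 0 ?_
  have h3 := I.add_mem (I.mul_mem_left (h ^ j) (D.eε_mem i hx).1) h2
  convert h3 using 1
  ring

/-- Compatibility on the intersection. -/
theorem Hull.compat {I : Ideal R} {x : Fin D.p → R} (hx : ∀ j, D.a x j ∈ I) :
    res₁ h k (D.Φ₁ x) - res₂ h k (D.Φ₂ x) ∈ I.map (algebraMap R (L C (h * k))) := by
  let W := L C (h * k)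
  have hd : algebraMap C W (k ^ D.M • D.s₁ x - h ^ D.M • D.s₂ x) ∈ I.map (algebraMap R W) := by
    have hu : algebraMap C W (h ^ D.M • (k ^ D.M • D.s₁ x - h ^ D.M • D.s₂ x)) ∈ I.map (algebraMap R W) := by
      rw [← D.se₁]
      refine map_L_mem (mem_map_of_coord D.s₁ fun i => ?_)
      rw [map_sub, map_smul, map_smul, Pi.sub_apply, Pi.smul_apply, Pi.smul_apply, smul_eq_mul, smul_eq_mul]
      have h3 := I.sub_mem (I.mul_mem_left (h ^ D.M) (D.eε_mem i hx).2) (I.mul_mem_left (k ^ D.M) (D.eε_mem i hx).1)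
      convert h3 using 1
      ring
    rw [Algebra.smul_def, RingHom.map_mul (algebraMap C W), ← IsScalarTower.algebraMap_apply] at hu
    refine (Ideal.unit_mul_mem_iff_mem _ ?_).1 hu
    rw [map_pow]
    exact (isUnit_L_left (C := C) h k).pow _
  refine (Ideal.unit_mul_mem_iff_mem _ ((isUnit_L (C := C) (h * k)).pow D.M)).1 ?_
  have h1 := congrArg (res₁ h k) (D.Φ₁_spec x)
  have h2 := congrArg (res₂ h k) (D.Φ₂_spec x)
  rw [map_mul, map_pow, res₁_alg, AlgHom.commutes] at h1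
  rw [map_mul, map_pow, res₂_alg, AlgHom.commutes] at h2
  convert hd using 1
  simp only [Algebra.smul_def, map_sub, map_mul, ← IsScalarTower.algebraMap_apply, ← h1, ← h2, map_pow, W]
  ring

/-- Gluing sections on `D(h)` and `D(k)`. -/
theorem Hull.glue {I : Ideal R} (hI : PairMod h k I) (v₁ : L C h) (v₂ : L C k)
    (hv : res₁ h k v₁ - res₂ h k v₂ ∈ I.map (algebraMap R (L C (h * k)))) :
    ∃ x : Fin D.p → R, (∀ j, D.a x j ∈ I) ∧ D.Φ₁ x - v₁ ∈ I.map (algebraMap R (L C h)) ∧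
      D.Φ₂ x - v₂ ∈ I.map (algebraMap R (L C k)) := by
  obtain ⟨c₁, ⟨_, m₁, rfl⟩, rfl⟩ := IsLocalization.exists_mk'_eq (Submonoid.powers (algebraMap R C h)) v₁
  obtain ⟨c₂, ⟨_, m₂, rfl⟩, rfl⟩ := IsLocalization.exists_mk'_eq (Submonoid.powers (algebraMap R C k)) v₂
  set w₁ := IsLocalization.mk' (L C h) c₁ (⟨algebraMap R C h ^ m₁, m₁, rfl⟩ : Submonoid.powers (algebraMap R C h))
  set w₂ := IsLocalization.mk' (L C k) c₂ (⟨algebraMap R C k ^ m₂, m₂, rfl⟩ : Submonoid.powers (algebraMap R C k))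
  have hw₁ : algebraMap R (L C h) h ^ m₁ * w₁ = algebraMap C (L C h) c₁ := by
    rw [IsScalarTower.algebraMap_apply R C (L C h), ← map_pow, mul_comm]
    exact IsLocalization.mk'_spec _ _ _
  have hw₂ : algebraMap R (L C k) k ^ m₂ * w₂ = algebraMap C (L C k) c₂ := by
    rw [IsScalarTower.algebraMap_apply R C (L C k), ← map_pow, mul_comm]
    exact IsLocalization.mk'_spec _ _ _
  let W := L C (h * k)
  have h1 : algebraMap C W (k ^ m₂ • c₁ - h ^ m₁ • c₂) ∈ I.map (algebraMap R W) := by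
    have e₁ := congrArg (res₁ h k) hw₁
    have e₂ := congrArg (res₂ h k) hw₂
    rw [map_mul, map_pow, res₁_alg, AlgHom.commutes] at e₁
    rw [map_mul, map_pow, res₂_alg, AlgHom.commutes] at e₂
    convert Ideal.mul_mem_left _ (algebraMap R W h ^ m₁ * algebraMap R W k ^ m₂) hv using 1
    simp only [Algebra.smul_def, map_sub, map_mul, ← IsScalarTower.algebraMap_apply, ← e₁, ← e₂, map_pow, W]
    ring
  obtain ⟨j, hj⟩ := of_map_L_mem h1
  have hy : ∀ i, k ^ m₂ * D.ε c₁ i - h ^ m₁ * D.ε c₂ i ∈ I := fun i => by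
    have h2 := coord_mem D.ε hj i
    rw [map_smul, map_sub, map_smul, map_smul, Pi.smul_apply, Pi.sub_apply, Pi.smul_apply, Pi.smul_apply,
      smul_eq_mul, smul_eq_mul, smul_eq_mul, mul_pow] at h2
    exact hI.cancel j j h2
  choose x hx using fun i => hI.div_pow m₁ m₂ (hy i)
  have hx₂ : ∀ i, k ^ m₂ * x i - D.ε c₂ i ∈ I := fun i => by
    refine hI.cancel m₁ 0 ?_
    have h3 := I.sub_mem (hy i) (I.mul_mem_left (k ^ m₂) (hx i))
    convert h3 using 1
    ring
  have hax : ∀ l, D.a x l ∈ I := fun l => by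
    refine hI.cancel m₁ 0 ?_
    have h2 : ∀ i, (D.ε c₁ - h ^ m₁ • x) i ∈ I := fun i => by simpa using hx i
    have h3 : D.a (D.ε c₁ - h ^ m₁ • x) l ∈ I := by
      rw [apply_eq_sum D.a (D.ε c₁ - h ^ m₁ • x), Finset.sum_apply]
      exact I.sum_mem fun i _ => I.mul_mem_right _ (h2 i)
    rw [map_sub, map_smul, D.aε, zero_sub, Pi.neg_apply, neg_mem_iff, Pi.smul_apply, smul_eq_mul] at h3
    simpa using h3
  refine ⟨x, hax, ?_, ?_⟩
  · refine (Ideal.unit_mul_mem_iff_mem _ ((isUnit_L (C := C) h).pow (D.M + m₁))).1 ?_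
    have h2 : algebraMap C (L C h) (h ^ D.M • (h ^ m₁ • D.s₁ x - h ^ D.M • c₁)) ∈ I.map (algebraMap R (L C h)) := by
      rw [← D.se₁]
      refine map_L_mem (mem_map_of_coord D.s₁ fun i => ?_)
      rw [map_sub, map_smul, map_smul, Pi.sub_apply, Pi.smul_apply, Pi.smul_apply, smul_eq_mul, smul_eq_mul]
      have h3 := I.sub_mem (I.mul_mem_left (h ^ D.M) (neg_mem (hx i))) (I.mul_mem_left (h ^ m₁) (D.eε_mem i hax).1)
      convert h3 using 1
      ring
    rw [Algebra.smul_def, RingHom.map_mul, ← IsScalarTower.algebraMap_apply] at h2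
    replace h2 := (Ideal.unit_mul_mem_iff_mem _ (by rw [map_pow]; exact (isUnit_L (C := C) h).pow _)).1 h2
    convert h2 using 1
    rw [Algebra.smul_def, Algebra.smul_def, map_sub, map_mul, map_mul, ← IsScalarTower.algebraMap_apply,
      ← IsScalarTower.algebraMap_apply, ← D.Φ₁_spec, ← hw₁, map_pow, map_pow]
    ring
  · refine (Ideal.unit_mul_mem_iff_mem _ ((isUnit_L (C := C) k).pow (D.M + m₂))).1 ?_
    have h2 : algebraMap C (L C k) (k ^ D.M • (k ^ m₂ • D.s₂ x - k ^ D.M • c₂)) ∈ I.map (algebraMap R (L C k)) := by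
      rw [← D.se₂]
      refine map_L_mem (mem_map_of_coord D.s₂ fun i => ?_)
      rw [map_sub, map_smul, map_smul, Pi.sub_apply, Pi.smul_apply, Pi.smul_apply, smul_eq_mul, smul_eq_mul]
      have h3 := I.sub_mem (I.mul_mem_left (k ^ D.M) (hx₂ i)) (I.mul_mem_left (k ^ m₂) (D.eε_mem i hax).2)
      convert h3 using 1
      ring
    rw [Algebra.smul_def, RingHom.map_mul, ← IsScalarTower.algebraMap_apply] at h2
    replace h2 := (Ideal.unit_mul_mem_iff_mem _ (by rw [map_pow]; exact (isUnit_L (C := C) k).pow _)).1 h2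
    convert h2 using 1
    rw [Algebra.smul_def, Algebra.smul_def, map_sub, map_mul, map_mul, ← IsScalarTower.algebraMap_apply,
      ← IsScalarTower.algebraMap_apply, ← D.Φ₂_spec, ← hw₂, map_pow, map_pow]
    ring

end Groth.Agent.H9Pur

end
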