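import Groth.Agent.H9Pur.Hull
import Mathlib.RingTheory.Flat.Equalizer
import Mathlib.RingTheory.Flat.FaithfullyFlat.Algebra

/-!
# Base change of a hull
-/

set_option autoImplicit false
set_option linter.style.haveILetI false

universe u

open TensorProduct

noncomputable section

namespace Groth.Agent.H9Pur

variable {A : Type u} [CommRing A] {C : Type u} [CommRing C] [Algebra A C] {h k : A}
  (A' : Type u) [CommRing A'] [Algebra A A']

/-- Vectors after base change. -/
abbrev bcVec (p : ℕ) : A' ⊗[A] (Fin p → A) ≃ₗ[A'] (Fin p → A') := TensorProduct.piScalarRight A A' A' (Fin p)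

variable {A'}

/-- The base change of a hull. -/
def Hull.baseChange (D : Hull A C h k) (A' : Type u) [CommRing A'] [Algebra A A'] :
    Hull A' (A' ⊗[A] C) (algebraMap A A' h) (algebraMap A A' k) where
  p := D.p
  q := D.q
  ε := (bcVec (A := A) A' D.p).toLinearMap ∘ₗ D.ε.baseChange A'
  a := (bcVec (A := A) A' D.q).toLinearMap ∘ₗ D.a.baseChange A' ∘ₗ (bcVec (A := A) A' D.p).symm.toLinearMap
  aε c := by
    have h1 : (D.a.baseChange A').comp (D.ε.baseChange A') = 0 := by
      rw [← LinearMap.baseChange_comp, show D.a.comp D.ε = 0 from LinearMap.ext D.aε, LinearMap.baseChange_zero]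
    simp only [LinearMap.comp_apply, LinearEquiv.coe_coe, LinearEquiv.symm_apply_apply]
    rw [← LinearMap.comp_apply, h1, LinearMap.zero_apply, map_zero]
  M := D.M
  s₁ := D.s₁.baseChange A' ∘ₗ (bcVec (A := A) A' D.p).symm.toLinearMap
  t₁ := (bcVec (A := A) A' D.p).toLinearMap ∘ₗ D.t₁.baseChange A' ∘ₗ (bcVec (A := A) A' D.q).symm.toLinearMap
  se₁ c := by
    have h1 : (D.s₁.baseChange A').comp (D.ε.baseChange A') = algebraMap A A' h ^ D.M • LinearMap.id := by
      rw [← LinearMap.baseChange_comp, show D.s₁.comp D.ε = h ^ D.M • LinearMap.id from LinearMap.ext D.se₁,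
        LinearMap.baseChange_smul, LinearMap.baseChange_id, ← map_pow, algebraMap_smul]
    simp only [LinearMap.comp_apply, LinearEquiv.coe_coe, LinearEquiv.symm_apply_apply]
    rw [← LinearMap.comp_apply, h1]
    rfl
  es₁ x := by
    obtain ⟨y, rfl⟩ := (bcVec (A := A) A' D.p).surjective x
    have h1 : (D.ε.baseChange A').comp (D.s₁.baseChange A') + (D.t₁.baseChange A').comp (D.a.baseChange A') =
        algebraMap A A' h ^ D.M • LinearMap.id := by
      rw [← LinearMap.baseChange_comp, ← LinearMap.baseChange_comp, ← LinearMap.baseChange_add,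
        show D.ε.comp D.s₁ + D.t₁.comp D.a = h ^ D.M • LinearMap.id from LinearMap.ext D.es₁,
        LinearMap.baseChange_smul, LinearMap.baseChange_id, ← map_pow, algebraMap_smul]
    simp only [LinearMap.comp_apply, LinearEquiv.coe_coe, LinearEquiv.symm_apply_apply]
    rw [← map_add, ← LinearMap.comp_apply (D.ε.baseChange A'), ← LinearMap.comp_apply (D.t₁.baseChange A'),
      ← LinearMap.add_apply, h1, LinearMap.smul_apply, map_smul]
    rfl
  s₂ := D.s₂.baseChange A' ∘ₗ (bcVec (A := A) A' D.p).symm.toLinearMap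
  t₂ := (bcVec (A := A) A' D.p).toLinearMap ∘ₗ D.t₂.baseChange A' ∘ₗ (bcVec (A := A) A' D.q).symm.toLinearMap
  se₂ c := by
    have h1 : (D.s₂.baseChange A').comp (D.ε.baseChange A') = algebraMap A A' k ^ D.M • LinearMap.id := by
      rw [← LinearMap.baseChange_comp, show D.s₂.comp D.ε = k ^ D.M • LinearMap.id from LinearMap.ext D.se₂,
        LinearMap.baseChange_smul, LinearMap.baseChange_id, ← map_pow, algebraMap_smul]
    simp only [LinearMap.comp_apply, LinearEquiv.coe_coe, LinearEquiv.symm_apply_apply]
    rw [← LinearMap.comp_apply, h1]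
    rfl
  es₂ x := by
    obtain ⟨y, rfl⟩ := (bcVec (A := A) A' D.p).surjective x
    have h1 : (D.ε.baseChange A').comp (D.s₂.baseChange A') + (D.t₂.baseChange A').comp (D.a.baseChange A') =
        algebraMap A A' k ^ D.M • LinearMap.id := by
      rw [← LinearMap.baseChange_comp, ← LinearMap.baseChange_comp, ← LinearMap.baseChange_add,
        show D.ε.comp D.s₂ + D.t₂.comp D.a = k ^ D.M • LinearMap.id from LinearMap.ext D.es₂,
        LinearMap.baseChange_smul, LinearMap.baseChange_id, ← map_pow, algebraMap_smul]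
    simp only [LinearMap.comp_apply, LinearEquiv.coe_coe, LinearEquiv.symm_apply_apply]
    rw [← map_add, ← LinearMap.comp_apply (D.ε.baseChange A'), ← LinearMap.comp_apply (D.t₂.baseChange A'),
      ← LinearMap.add_apply, h1, LinearMap.smul_apply, map_smul]
    rfl

/-- The kernel of a hull commutes with flat base change. -/
def Hull.kerBaseChange (D : Hull A C h k) (A' : Type u) [CommRing A'] [Algebra A A'] [Module.Flat A A'] :
    A' ⊗[A] LinearMap.ker D.a ≃ₗ[A'] LinearMap.ker (D.baseChange A').a :=
  (LinearMap.tensorKerEquiv A' A' D.a).trans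
    { toFun := fun y => ⟨bcVec (A := A) A' D.p y.1, by
        show bcVec (A := A) A' D.q (D.a.baseChange A' ((bcVec (A := A) A' D.p).symm (bcVec (A := A) A' D.p y.1))) = 0
        rw [LinearEquiv.symm_apply_apply, show D.a.baseChange A' y.1 = 0 from y.2, map_zero]⟩
      map_add' := fun y z => Subtype.ext (map_add _ _ _)
      map_smul' := fun r y => Subtype.ext (map_smul _ _ _)
      invFun := fun x => ⟨(bcVec (A := A) A' D.p).symm x.1, (bcVec (A := A) A' D.q).injective
        ((show bcVec (A := A) A' D.q (D.a.baseChange A' ((bcVec (A := A) A' D.p).symm x.1)) = 0 from x.2).trans (map_zero _).symm)⟩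
      left_inv := fun y => Subtype.ext ((bcVec (A := A) A' D.p).symm_apply_apply _)
      right_inv := fun x => Subtype.ext ((bcVec (A := A) A' D.p).apply_symm_apply _) }

/-- Flatness of the kernel descends. -/
theorem Hull.flat_ker_of_baseChange (D : Hull A C h k) (A' : Type u) [CommRing A'] [Algebra A A']
    [Module.FaithfullyFlat A A'] [Module.Flat A' (LinearMap.ker (D.baseChange A').a)] :
    Module.Flat A (LinearMap.ker D.a) := by
  haveI : Module.Flat A' (A' ⊗[A] LinearMap.ker D.a) := Module.Flat.of_linearEquiv (D.kerBaseChange A')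
  exact Module.Flat.of_flat_tensorProduct A _ A'

end Groth.Agent.H9Pur

end
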