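import Groth.Agent.H9Pur.RetractAlg
import Groth.Agent.CplFib6.PS
import Groth.Agent.McCoy.HilbertBurch
import Mathlib.RingTheory.MvPowerSeries.Equiv
import Mathlib.RingTheory.PowerSeries.Inverse

/-!
# Power series as a retracted complete ring
-/

set_option autoImplicit false
set_option linter.style.haveILetI false

universe u

open IsLocalRing

noncomputable section

namespace Groth.Agent.H9Pur

/-- Purity for power series over a local ring with a regular pair. -/
theorem purityHolds_mvPowerSeries (A : Type u) [CommRing A] [IsNoetherianRing A] [IsLocalRing A] (e : ℕ)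
    {h k : A} (hh : h ∈ maximalIdeal A) (hk : k ∈ maximalIdeal A) (hl : ∀ z, h * z = 0 → z = 0)
    (hd : ∀ z, h ∣ k * z → h ∣ z) : FEt.PurityHolds (MvPowerSeries (Fin (e + 1)) A) := by
  classical
  let A' := MvPowerSeries (Fin e) A
  let R := MvPowerSeries (Fin (e + 1)) A
  let ψ : R ≃+* PowerSeries A' := (MvPowerSeries.finSuccEquiv A e).toRingEquiv
  letI iA : Algebra A' R := (ψ.symm.toRingHom.comp (PowerSeries.C : A' →+* PowerSeries A')).toAlgebra
  have hι : ∀ x : A', ψ (algebraMap A' R x) = PowerSeries.C x := fun x => ψ.apply_symm_apply _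
  let T : R := MvPowerSeries.X 0
  have hψT : ψ T = PowerSeries.X := MvPowerSeries.finSuccEquiv_X_zero
  have hdvd : ∀ (n : ℕ) (r : R), T ^ n ∣ r ↔ ∀ m, m < n → PowerSeries.coeff m (ψ r) = 0 := fun n r => by
    rw [← PowerSeries.X_pow_dvd_iff, ← hψT, ← map_pow]
    exact (map_dvd_iff ψ).symm
  let π : R →ₐ[A'] A' :=
    { (PowerSeries.constantCoeff (R := A')).comp ψ.toRingHom with
      commutes' := fun x => by
        show PowerSeries.constantCoeff (ψ (algebraMap A' R x)) = x
        rw [hι, PowerSeries.constantCoeff_C] }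
  have hπ : ∀ r, π r = PowerSeries.constantCoeff (ψ r) := fun r => rfl
  let P : Retr A' R :=
    { π := π
      T := T
      reg := fun z hz => ψ.injective (by
        have h1 := congrArg ψ hz
        rw [map_mul, hψT, map_zero] at h1
        rw [map_zero]
        ext m : 1
        have h2 := congrArg (PowerSeries.coeff (m + 1)) h1
        rwa [PowerSeries.coeff_succ_X_mul, map_zero] at h2)
      ker := fun r => by
        rw [← map_dvd_iff ψ, hψT, PowerSeries.X_dvd_iff, hπ] }
  haveI : IsLocalHom (algebraMap A' R) := ⟨fun x hx => by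
    have h1 := hx.map π
    rwa [AlgHom.commutes] at h1⟩
  have hT : T ∈ maximalIdeal R := by
    rw [mem_maximalIdeal, mem_nonunits_iff, MvPowerSeries.isUnit_iff_constantCoeff]
    simp [T]
  have hTn : ∀ n : ℕ, P.T ^ n ∉ (maximalIdeal A').map (algebraMap A' R) := fun n hn => by
    let χ : R →+* PowerSeries (ResidueField A') := (PowerSeries.map (residue A')).comp ψ.toRingHom
    have h1 : (maximalIdeal A').map (algebraMap A' R) ≤ RingHom.ker χ := Ideal.map_le_iff_le_comap.2 fun x hx => by
      show PowerSeries.map (residue A') (ψ (algebraMap A' R x)) = 0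
      rw [hι, PowerSeries.map_C, (residue_eq_zero_iff x).2 hx, map_zero]
    have h2 : PowerSeries.map (residue A') (ψ (T ^ n)) = 0 := h1 hn
    rw [map_pow, hψT, map_pow, PowerSeries.map_X] at h2
    exact pow_ne_zero n PowerSeries.X_ne_zero h2
  haveI : IsAdicComplete (Ideal.span {P.T}) R := by
    have hI : ∀ (n : ℕ) (r : R), r ∈ (Ideal.span {P.T} ^ n • ⊤ : Submodule R R) ↔ T ^ n ∣ r := fun n r => by
      rw [smul_eq_mul, Ideal.mul_top, Ideal.span_singleton_pow, Ideal.mem_span_singleton]
    refine { haus' := fun x hx => ψ.injective ?_, prec' := fun f hf => ?_ }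
    · rw [map_zero]
      ext m : 1
      rw [map_zero]
      exact (hdvd (m + 1) x).1 ((hI _ x).1 (SModEq.zero.1 (hx (m + 1)))) m m.lt_succ_self
    · refine ⟨ψ.symm (PowerSeries.mk fun m => PowerSeries.coeff m (ψ (f (m + 1)))), fun n => ?_⟩
      rw [SModEq.sub_mem, hI, hdvd]
      intro m hm
      rw [map_sub, map_sub, ψ.apply_symm_apply, PowerSeries.coeff_mk, sub_eq_zero]
      have h1 := (hdvd (m + 1) _).1 ((hI _ _).1 (SModEq.sub_mem.1 (hf (Nat.succ_le_of_lt hm)))) m m.lt_succ_self
      rw [map_sub, map_sub, sub_eq_zero] at h1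
      exact h1.symm
  haveI : Module.Flat A' R := by
    haveI := CplFib6.flat_mvPowerSeries A' 1
    let e₁ : MvPowerSeries (Fin 1) A' ≃ₐ[A'] PowerSeries A' := MvPowerSeries.renameEquiv A' finOneEquiv
    haveI : Module.Flat A' (PowerSeries A') := Module.Flat.of_linearEquiv e₁.symm.toLinearEquiv
    let e₂ : R ≃ₗ[A'] PowerSeries A' :=
      { ψ.toAddEquiv with
        map_smul' := fun x r => by
          show ψ (x • r) = x • ψ r
          rw [Algebra.smul_def, map_mul, hι, PowerSeries.smul_eq_C_mul] }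
    exact Module.Flat.of_linearEquiv e₂
  have hkl : ∀ z : A, k * z = 0 → z = 0 := fun z hz => by
    have key : ∀ (n : ℕ) (z : A), k * z = 0 → h ^ n ∣ z := fun n => by
      induction n with
      | zero => intro z _; rw [pow_zero]; exact one_dvd _
      | succ n ih =>
        intro z hz
        obtain ⟨z', rfl⟩ := hd z (hz ▸ dvd_zero h)
        rw [pow_succ']
        exact mul_dvd_mul_left h (ih z' (hl _ (by rw [← hz]; ring)))
    refine (Submodule.mem_bot A).1 ((Ideal.iInf_pow_eq_bot_of_isLocalRing (maximalIdeal A)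
      (maximalIdeal.isMaximal A).ne_top).le ((Submodule.mem_iInf _).2 fun n => ?_))
    obtain ⟨w, rfl⟩ := key n z hz
    exact Ideal.mul_mem_right _ _ (Ideal.pow_mem_pow hh n)
  have hC : ∀ {a : A}, (∀ z, a * z = 0 → z = 0) → ∀ z : A', MvPowerSeries.C a * z = 0 → z = 0 := fun ha z hz => by
    ext d
    rw [map_zero]
    exact ha _ (by rw [← MvPowerSeries.coeff_C_mul, hz, map_zero])
  have hm : ∀ a ∈ maximalIdeal A, (MvPowerSeries.C a : A') ∈ maximalIdeal A' := fun a ha => by
    rwa [mem_maximalIdeal, mem_nonunits_iff, MvPowerSeries.isUnit_iff_constantCoeff,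
      MvPowerSeries.constantCoeff_C]
  have hd' : ∀ z : A', MvPowerSeries.C h ∣ MvPowerSeries.C k * z → MvPowerSeries.C h ∣ z := fun z ⟨w, hw⟩ => by
    have h1 : ∀ d, h ∣ MvPowerSeries.coeff d z := fun d => hd _ ⟨MvPowerSeries.coeff d w, by
      rw [← MvPowerSeries.coeff_C_mul, hw, MvPowerSeries.coeff_C_mul]⟩
    choose v hv using h1
    let v' : MvPowerSeries (Fin e) A := v
    refine ⟨v', MvPowerSeries.ext fun d => ?_⟩
    rw [MvPowerSeries.coeff_C_mul, hv d]
    rfl
  exact purityHolds_of_forall R fun C _ _ _ hC' => exists_finite_etale P hT hTn (hm h hh) (hm k hk)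
    (hC hl) (hC hkl) hd' C hC'

end Groth.Agent.H9Pur

end
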