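import Groth.Agent.H9Pur.RetractPurity
import Groth.Agent.Pi1Ext.PuritySch
import Mathlib.RingTheory.KrullDimension.NonZeroDivisors

/-!
# The finite étale algebra extending a cover of the punctured spectrum of a retracted complete ring
-/

set_option autoImplicit false
set_option linter.style.haveILetI false

universe u

open Groth.Agent.Pi1Ext.RegPurity IsLocalRing TensorProduct AlgebraicGeometry CategoryTheory

noncomputable section

namespace Groth.Agent.H9Pur

section Split

variable {R C : Type u} [CommRing R] [CommRing C] [Algebra R C]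

/-- The hull is split after inverting `g`. -/
def Hull.SplitAt {h k : R} (D : Hull R C h k) (g : R) : Prop :=
  ∃ (M : ℕ) (s : (Fin D.p → R) →ₗ[R] C) (t : (Fin D.q → R) →ₗ[R] (Fin D.p → R)),
    (∀ c, s (D.ε c) = g ^ M • c) ∧ ∀ x, D.ε (s x) + t (D.a x) = g ^ M • x

theorem exists_hull_split [IsNoetherianRing R] [Module.Finite R C] {h k : R} (eh : EtAway R C h)
    (ek : EtAway R C k) : ∃ D : Hull R C h k, ∀ g, EtAway R C g → D.SplitAt g := by
  obtain ⟨p, q, ε, a, aε, H⟩ := exists_hull_data (R := R) (C := C)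
  obtain ⟨M₁, s₁, t₁, a₁, b₁⟩ := H h eh
  obtain ⟨M₂, s₂, t₂, a₂, b₂⟩ := H k ek
  exact ⟨⟨p, q, ε, a, aε, M₁ + M₂, h ^ M₂ • s₁, h ^ M₂ • t₁,
    fun c => by rw [LinearMap.smul_apply, a₁, smul_smul, ← pow_add, add_comm],
    fun x => by rw [LinearMap.smul_apply, LinearMap.smul_apply, map_smul, ← smul_add, b₁, smul_smul, ← pow_add, add_comm],
    k ^ M₁ • s₂, k ^ M₁ • t₂,
    fun c => by rw [LinearMap.smul_apply, a₂, smul_smul, ← pow_add],
    fun x => by rw [LinearMap.smul_apply, LinearMap.smul_apply, map_smul, ← smul_add, b₂, smul_smul, ← pow_add]⟩,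
    H⟩

end Split

section Glue

variable {R C : Type u} [CommRing R] [CommRing C] [Algebra R C] {h k : R} (D : Hull R C h k)

/-- The functions on `D(h) ∪ D(k)`. -/
abbrev sect (C : Type u) [CommRing C] [Algebra R C] (h k : R) : Subalgebra R (L C h × L C k) :=
  AlgHom.equalizer (((res₁ (C := C) h k).restrictScalars R).comp (AlgHom.fst R _ _))
    (((res₂ (C := C) h k).restrictScalars R).comp (AlgHom.snd R _ _))

/-- Functions on the spectrum restrict to sections. -/
def toSect (C : Type u) [CommRing C] [Algebra R C] (h k : R) : C →ₐ[R] sect C h k :=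
  ((IsScalarTower.toAlgHom R C (L C h)).prod (IsScalarTower.toAlgHom R C (L C k))).codRestrict _ fun c => by
    show res₁ h k (algebraMap C (L C h) c) = res₂ h k (algebraMap C (L C k) c)
    rw [AlgHom.commutes, AlgHom.commutes]

theorem map_bot_eq {S : Type u} [CommRing S] [Algebra R S] {x : S}
    (hx : x ∈ (⊥ : Ideal R).map (algebraMap R S)) : x = 0 := by
  rwa [Ideal.map_bot, Ideal.mem_bot] at hx

/-- The hull elements give sections. -/
def Hull.toSections : LinearMap.ker D.a →ₗ[R] sect C h k :=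
  LinearMap.codRestrict (Subalgebra.toSubmodule (sect C h k)) ((D.Φ₁.prod D.Φ₂).comp (LinearMap.ker D.a).subtype)
    fun x => sub_eq_zero.1 (map_bot_eq (R := R) (D.compat (I := ⊥) (x := x.1) fun j => by
      rw [LinearMap.mem_ker.1 x.2]; exact zero_mem _))

theorem Hull.bijective_toSections (hP : PairMod h k ⊥) : Function.Bijective D.toSections := by
  refine ⟨LinearMap.ker_eq_bot.1 (LinearMap.ker_eq_bot'.2 fun x hx => ?_), fun v => ?_⟩
  · refine Subtype.ext (funext fun i => ?_)
    have h1 : D.Φ₁ x.1 = 0 := congrArg (fun v : sect C h k => v.1.1) hx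
    exact Submodule.mem_bot R |>.mp (D.unique hP (x := x.1)
      (fun j => by rw [LinearMap.mem_ker.1 x.2]; exact zero_mem _) (by rw [h1]; exact zero_mem _) i)
  · obtain ⟨x, hx, h1, h2⟩ := D.glue hP v.1.1 v.1.2 (by
      rw [show res₁ h k v.1.1 = res₂ h k v.1.2 from v.2, sub_self]; exact zero_mem _)
    exact ⟨⟨x, LinearMap.mem_ker.2 (funext fun j => (Submodule.mem_bot R).1 (hx j))⟩,
      Subtype.ext (Prod.ext (sub_eq_zero.1 (map_bot_eq h1)) (sub_eq_zero.1 (map_bot_eq h2)))⟩

theorem Hull.toSections_ε (c : C) : D.toSections ⟨D.ε c, LinearMap.mem_ker.2 (D.aε c)⟩ = toSect C h k c := by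
  refine Subtype.ext (Prod.ext ?_ ?_)
  · refine ((isUnit_L (C := C) h).pow D.M).mul_left_cancel ?_
    show _ * D.Φ₁ (D.ε c) = _ * algebraMap C (L C h) c
    rw [D.Φ₁_spec, D.se₁, Algebra.smul_def, map_mul, ← IsScalarTower.algebraMap_apply, map_pow]
  · refine ((isUnit_L (C := C) k).pow D.M).mul_left_cancel ?_
    show _ * D.Φ₂ (D.ε c) = _ * algebraMap C (L C k) c
    rw [D.Φ₂_spec, D.se₂, Algebra.smul_def, map_mul, ← IsScalarTower.algebraMap_apply, map_pow]

theorem Hull.isoAway (hP : PairMod h k ⊥) {g : R} (hg : D.SplitAt g) : IsoAway (toSect C h k) g := by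
  obtain ⟨M, s, t, h1, h2⟩ := hg
  refine ⟨fun b => ?_, fun c hc => ?_⟩
  · obtain ⟨x, rfl⟩ := (D.bijective_toSections hP).2 b
    refine ⟨M, s x.1, ?_⟩
    rw [← D.toSections_ε, ← map_smul]
    congr 1
    refine Subtype.ext ?_
    have := h2 x.1
    rw [LinearMap.mem_ker.1 x.2, map_zero, add_zero] at this
    exact this.symm
  · refine ⟨M, ?_⟩
    have h0 : (⟨D.ε c, LinearMap.mem_ker.2 (D.aε c)⟩ : LinearMap.ker D.a) = 0 :=
      (D.bijective_toSections hP).1 (by rw [D.toSections_ε, hc, map_zero])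
    rw [← h1, show D.ε c = 0 from congrArg Subtype.val h0, map_zero]

end Glue

section Flat

variable {A R : Type u} [CommRing A] [CommRing R] [Algebra A R] (P : Retr A R)

include P in
theorem Retr.surjective : Function.Surjective P.π := fun x => ⟨algebraMap A R x, by simp⟩

/-- The localization at the parameter is faithfully flat over the base. -/
theorem faithfullyFlat_away [IsLocalRing A] [Module.Flat A R]
    (hTn : ∀ n : ℕ, P.T ^ n ∉ (maximalIdeal A).map (algebraMap A R)) :
    Module.FaithfullyFlat A (Localization.Away P.T) := by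
  haveI : Module.Flat A (Localization.Away P.T) := Module.Flat.trans A R _
  refine ⟨fun {m} hm htop => ?_⟩
  rw [IsLocalRing.eq_maximalIdeal hm, Ideal.smul_top_eq_map, Submodule.restrictScalars_eq_top_iff,
    IsScalarTower.algebraMap_eq A R (Localization.Away P.T), ← Ideal.map_map, Ideal.eq_top_iff_one,
    IsLocalization.mem_map_algebraMap_iff (Submonoid.powers P.T)] at htop
  obtain ⟨⟨⟨d, hd⟩, ⟨_, n, rfl⟩⟩, he⟩ := htop
  rw [one_mul] at he
  obtain ⟨⟨_, j, rfl⟩, he'⟩ := (IsLocalization.eq_iff_exists (Submonoid.powers P.T) _).1 he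
  exact hTn (j + n) (by rw [pow_add]; exact he' ▸ Ideal.mul_mem_left _ _ hd)

variable [IsNoetherianRing A] [IsLocalRing A] [IsNoetherianRing R] [IsLocalRing R]
  [IsAdicComplete (Ideal.span {P.T}) R] [Module.Flat A R] {C : Type u} [CommRing C] [Algebra R C]
  [Algebra A C] [IsScalarTower A R C] [Module.Finite R C] {h k : A}
  (D : Hull R C (algebraMap A R h) (algebraMap A R k))

omit [Module.Finite R C] in
theorem flat_ker (hT : P.T ∈ maximalIdeal R) (hTn : ∀ n : ℕ, P.T ^ n ∉ (maximalIdeal A).map (algebraMap A R))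
    (hl : ∀ z, h * z = 0 → z = 0) (hr : ∀ z, k * z = 0 → z = 0) (hd : ∀ z, h ∣ k * z → h ∣ z)
    (eh : EtAway R C (algebraMap A R h)) (ek : EtAway R C (algebraMap A R k))
    (ehk : EtAway R C (algebraMap A R h * algebraMap A R k)) (eT : EtAway R C P.T) (sT : D.SplitAt P.T) :
    Module.Flat R (LinearMap.ker D.a) := by
  let B₀ := redHull P D
  let RT := Localization.Away P.T
  let K := LinearMap.ker D.a
  let e : R ⊗[A] B₀ ≃ₗ[R] K := LinearEquiv.ofBijective _ (bijective_liftBaseChange_sec P D hl hr hd eh ek ehk hT)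
  obtain ⟨M, s, t, h1, h2⟩ := sT
  have hu : IsUnit (algebraMap R RT P.T ^ M) := (IsLocalization.Away.algebraMap_isUnit P.T).pow M
  let f : K →ₗ[R] C := s.comp K.subtype
  let g : C →ₗ[R] K := D.ε.codRestrict K fun c => LinearMap.mem_ker.2 (D.aε c)
  have hgf : g.comp f = P.T ^ M • LinearMap.id := LinearMap.ext fun x => Subtype.ext (by
    have := h2 x.1
    rw [LinearMap.mem_ker.1 x.2, map_zero, add_zero] at this
    exact this)
  have hfg : f.comp g = P.T ^ M • LinearMap.id := LinearMap.ext fun c => h1 c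
  have hb : ∀ {N : Type u} [AddCommGroup N] [Module R N],
      (P.T ^ M • LinearMap.id : N →ₗ[R] N).baseChange RT = algebraMap R RT P.T ^ M • LinearMap.id :=
    fun {N} _ _ => by
      rw [LinearMap.baseChange_smul, LinearMap.baseChange_id, ← map_pow, algebraMap_smul]
  haveI : Algebra.Etale RT (RT ⊗[R] C) :=
    etale_tensor_of_etAway eT RT (IsLocalization.Away.algebraMap_isUnit P.T)
  haveI : Module.Flat RT (RT ⊗[R] C) := inferInstance
  haveI hflatK : Module.Flat RT (RT ⊗[R] K) := by
    refine Module.Flat.of_linearEquiv (M := RT ⊗[R] C) (LinearEquiv.ofBijective (f.baseChange RT) ⟨fun x y hxy => ?_, fun y => ?_⟩)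
    · have h3 := congrArg (g.baseChange RT) hxy
      rw [← LinearMap.comp_apply, ← LinearMap.comp_apply, ← LinearMap.baseChange_comp, hgf, hb] at h3
      exact hu.smul_left_cancel.1 h3
    · obtain ⟨v, hv⟩ := hu
      refine ⟨g.baseChange RT ((↑v⁻¹ : RT) • y), ?_⟩
      rw [← LinearMap.comp_apply, ← LinearMap.baseChange_comp, hfg, hb, LinearMap.smul_apply,
        LinearMap.id_apply, smul_smul, ← hv, Units.mul_inv, one_smul]
  haveI : Module.Flat RT (RT ⊗[A] B₀) := Module.Flat.of_linearEquiv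
    ((AlgebraTensorModule.cancelBaseChange A R RT RT B₀).symm ≪≫ₗ LinearEquiv.baseChange R RT _ _ e)
  haveI := faithfullyFlat_away P hTn
  haveI : Module.Flat A B₀ := Module.Flat.of_flat_tensorProduct A B₀ RT
  exact Module.Flat.of_linearEquiv e.symm

end Flat

section Purity

theorem two_le_ringKrullDim {A R : Type u} [CommRing A] [CommRing R] [Algebra A R] (P : Retr A R)
    [IsLocalRing A] [IsLocalRing R] [IsNoetherianRing R] {h : A}
    (hh : h ∈ maximalIdeal A) (hl : ∀ z, h * z = 0 → z = 0) : (2 : WithBot ℕ∞) ≤ ringKrullDim R := by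
  let e : (R ⧸ Ideal.span {P.T}) ≃+* A := ((Ideal.quotEquivOfEq (by
    ext r; rw [Ideal.mem_span_singleton]; exact (P.ker r).symm)).trans
      (RingHom.quotientKerEquivOfSurjective (f := P.π.toRingHom) P.surjective))
  have h1 : ringKrullDim (A ⧸ Ideal.span {h}) + 1 ≤ ringKrullDim A :=
    ringKrullDim_quotient_succ_le_of_nonZeroDivisor (mem_nonZeroDivisors_iff_left.2 hl)
  have h2 : ringKrullDim (R ⧸ Ideal.span {P.T}) + 1 ≤ ringKrullDim R :=
    ringKrullDim_quotient_succ_le_of_nonZeroDivisor (mem_nonZeroDivisors_iff_left.2 P.reg)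
  haveI : Nontrivial (A ⧸ Ideal.span {h}) := Ideal.Quotient.nontrivial_iff.2 fun htop =>
    ((maximalIdeal.isMaximal A).ne_top) (top_le_iff.1 (htop ▸ (Ideal.span_singleton_le_iff_mem _).2 hh))
  rw [ringKrullDim_eq_of_ringEquiv e] at h2
  calc (2 : WithBot ℕ∞) = 0 + 1 + 1 := rfl
    _ ≤ ringKrullDim (A ⧸ Ideal.span {h}) + 1 + 1 := by gcongr; exact ringKrullDim_nonneg_of_nontrivial
    _ ≤ ringKrullDim A + 1 := by gcongr
    _ ≤ ringKrullDim R := h2

/-- An algebra étale off the closed point extends to a finite étale algebra. -/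
theorem exists_finite_etale {A R : Type u} [CommRing A] [CommRing R] [Algebra A R] (P : Retr A R)
    [IsNoetherianRing A] [IsLocalRing A] [IsNoetherianRing R] [IsLocalRing R] [IsLocalHom (algebraMap A R)]
    [IsAdicComplete (Ideal.span {P.T}) R] [Module.Flat A R] (hT : P.T ∈ maximalIdeal R)
    (hTn : ∀ n : ℕ, P.T ^ n ∉ (maximalIdeal A).map (algebraMap A R)) {h k : A} (hh : h ∈ maximalIdeal A)
    (hk : k ∈ maximalIdeal A) (hl : ∀ z, h * z = 0 → z = 0) (hr : ∀ z, k * z = 0 → z = 0)
    (hd : ∀ z, h ∣ k * z → h ∣ z) (C : Type u) [CommRing C] [Algebra R C] [Module.Finite R C]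
    (hC : EtOff R C) :
    ∃ (B : Type u) (_ : CommRing B) (_ : Algebra R B) (f : C →ₐ[R] B),
      Module.Finite R B ∧ Algebra.Etale R B ∧ ∀ g ∈ maximalIdeal R, IsoAway f g := by
  letI : Algebra A C := Algebra.compHom C (algebraMap A R)
  haveI : IsScalarTower A R C := IsScalarTower.of_algebraMap_eq fun _ => rfl
  have hm : ∀ x ∈ maximalIdeal A, algebraMap A R x ∈ maximalIdeal R := fun x hx =>
    map_nonunit (algebraMap A R) x hx
  have eh := hC _ (hm h hh)
  have ek := hC _ (hm k hk)
  obtain ⟨D, hD⟩ := exists_hull_split eh ek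
  haveI := flat_ker P D hT hTn hl hr hd eh ek (hC _ (Ideal.mul_mem_left _ _ (hm k hk))) (hC _ hT)
    (hD _ (hC _ hT))
  have hP := P.pairMod_bot hT hl hr hd
  let S := sect C (algebraMap A R h) (algebraMap A R k)
  let e : LinearMap.ker D.a ≃ₗ[R] S := LinearEquiv.ofBijective _ (D.bijective_toSections hP)
  haveI : Module.Finite R S := Module.Finite.equiv e
  haveI : Module.Flat R S := Module.Flat.of_linearEquiv e.symm
  have hiso : ∀ g ∈ maximalIdeal R, IsoAway (toSect C (algebraMap A R h) (algebraMap A R k)) g :=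
    fun g hg => D.isoAway hP (hD g (hC g hg))
  refine ⟨S, inferInstance, inferInstance, toSect C _ _, inferInstance, ?_, hiso⟩
  haveI : Algebra.FinitePresentation R S := Algebra.FinitePresentation.of_finiteType.mp inferInstance
  refine Pi1Ext.etale_of_flat_etale_off {p | p.asIdeal ≠ maximalIdeal R} (fun q hq => ?_) fun p hp' => ?_
  · obtain ⟨g, hg, hgq⟩ : ∃ g ∈ maximalIdeal R, g ∉ (PrimeSpectrum.comap (algebraMap R S) q).asIdeal := by
      refine SetLike.not_le_iff_exists.1 fun hle => hq ?_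
      exact ((IsLocalRing.maximalIdeal.isMaximal R).eq_of_le (Ideal.IsPrime.ne_top inferInstance) hle).symm
    exact Algebra.basicOpen_subset_etaleLocus_iff_etale.2 ((hiso g hg).etale (hC g hg)) hgq
  · have hpm : p.asIdeal = maximalIdeal R := not_not.1 hp'
    rw [IsLocalization.AtPrime.ringKrullDim_eq_height p.asIdeal (Localization.AtPrime p.asIdeal), hpm,
      IsLocalRing.maximalIdeal_height_eq_ringKrullDim]
    exact two_le_ringKrullDim P hh hl

open Pi1Ext.PuritySch in
/-- Purity follows from the algebraic form. -/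
theorem purityHolds_of_forall (R : Type u) [CommRing R] [IsLocalRing R] [IsNoetherianRing R]
    (H : ∀ (C : Type u) [CommRing C] [Algebra R C] [Module.Finite R C], EtOff R C →
      ∃ (B : Type u) (_ : CommRing B) (_ : Algebra R B) (f : C →ₐ[R] B),
        Module.Finite R B ∧ Algebra.Etale R B ∧ ∀ g ∈ maximalIdeal R, IsoAway f g) :
    FEt.PurityHolds R := by
  refine ⟨fun V => ?_⟩
  obtain ⟨C, _, _, _, hC, ⟨e⟩⟩ := exists_finite_model V
  obtain ⟨B, _, _, f, hfin, het, hiso⟩ := H C hC
  haveI := hfin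
  haveI := het
  let Bo : FEt.Cat (Spec (CommRingCat.of R)) :=
    MorphismProperty.Over.mk ⊤ (sp R B) (fet_sp_iff.2 ⟨hfin, het⟩)
  have hB : FEt.prop (rest R B) := MorphismProperty.pullback_snd _ _ (fet_sp_iff.2 ⟨hfin, het⟩)
  obtain ⟨e'⟩ := nonempty_iso f hiso (prop_rest C hC) hB
  exact ⟨Bo, ⟨MorphismProperty.Over.isoMk (Iso.refl _) (by simp [Bo]) ≪≫ e' ≪≫ e⟩⟩

end Purity

end Groth.Agent.H9Pur

end
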