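import Groth.Agent.H9Pur.RedPurity
import Groth.Agent.H9Pur.HullBC
import Groth.Agent.H9Pur.AdicBC
import Groth.Agent.H9Pur.GrFree
import Groth.Agent.H9Pur.RetractAlg

/-!
# Purity lifts along ideals with free graded pieces
-/

set_option autoImplicit false
set_option linter.style.haveILetI false

universe u

open CategoryTheory CategoryTheory.Limits AlgebraicGeometry IsLocalRing Groth.Agent.Pi1Ext.RegPurity
  Groth.Agent.Pi1Ext.PuritySch TensorProduct

noncomputable section

namespace Groth.Agent.H9Pur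

/-- The algebra of a finite cover of an affine scheme, restricted to the punctured spectrum. -/
theorem exists_extension_of_purity {Ā : Type u} [CommRing Ā] [IsLocalRing Ā] (hP : FEt.PurityHolds Ā)
    {C₀ : Type u} [CommRing C₀] [Algebra Ā C₀] (hC₀ : FEt.prop (rest Ā C₀)) :
    ∃ (B₀ : Type u) (_ : CommRing B₀) (_ : Algebra Ā B₀), Module.Finite Ā B₀ ∧ Algebra.Etale Ā B₀ ∧
      ∃ (φ : pullback (sp Ā C₀) (FEt.puncturedSpec Ā).ι ⟶ pullback (sp Ā B₀) (FEt.puncturedSpec Ā).ι)
        (ψ : pullback (sp Ā B₀) (FEt.puncturedSpec Ā).ι ⟶ pullback (sp Ā C₀) (FEt.puncturedSpec Ā).ι),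
        φ ≫ pullback.snd _ _ = pullback.snd _ _ ∧ ψ ≫ pullback.snd _ _ = pullback.snd _ _ ∧
          φ ≫ ψ = 𝟙 _ ∧ ψ ≫ φ = 𝟙 _ := by
  obtain ⟨Y, ⟨e⟩⟩ := hP.mem_essImage (obj C₀ hC₀)
  let y : Y.left ⟶ Spec (CommRingCat.of Ā) := Y.hom
  haveI : IsFinite y := Y.prop.1
  haveI : IsAffine Y.left := isAffine_of_isAffineHom y
  let B₀ := Γ(Y.left, ⊤)
  let φB := (Scheme.ΓSpecIso (CommRingCat.of Ā)).inv ≫ y.appTop
  letI : Algebra Ā B₀ := φB.hom.toAlgebra
  have hsp : Y.left.isoSpec.hom ≫ sp Ā B₀ = y := by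
    show Y.left.isoSpec.hom ≫ Spec.map φB = _
    rw [Spec.map_comp, ← Category.assoc, Scheme.isoSpec_hom_naturality, Category.assoc]
    simp [Scheme.isoSpec, toSpecΓ_SpecMap_ΓSpecIso_inv]
  have hprop : FEt.prop (sp Ā B₀) := by
    rw [← MorphismProperty.cancel_left_of_respectsIso (P := FEt.prop) Y.left.isoSpec.hom, hsp]
    exact Y.prop
  have hsp' : Y.left.isoSpec.inv ≫ y = sp Ā B₀ := by rw [← hsp, Iso.inv_hom_id_assoc]
  let q : pullback (sp Ā B₀) (FEt.puncturedSpec Ā).ι ⟶ pullback y (FEt.puncturedSpec Ā).ι :=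
    pullback.map _ _ _ _ Y.left.isoSpec.inv (𝟙 _) (𝟙 _)
      (by rw [Category.comp_id, hsp']) (by rw [Category.comp_id, Category.id_comp])
  have hq : q ≫ pullback.snd _ _ = pullback.snd _ _ := by
    simp only [q, pullback.map, pullback.lift_snd, Category.comp_id]
  haveI hqi : IsIso q := pullback.map_isIso _ _ _ _ Y.left.isoSpec.inv (𝟙 _) (𝟙 _) _ _
  let qi : pullback (sp Ā B₀) (FEt.puncturedSpec Ā).ι ≅ pullback y (FEt.puncturedSpec Ā).ι := asIso q
  let el : pullback y (FEt.puncturedSpec Ā).ι ≅ pullback (sp Ā C₀) (FEt.puncturedSpec Ā).ι :=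
    (MorphismProperty.Over.forget FEt.prop ⊤ _ ⋙ CategoryTheory.Over.forget _).mapIso e
  have hel : el.hom ≫ rest Ā C₀ = pullback.snd y (FEt.puncturedSpec Ā).ι := MorphismProperty.Over.w e.hom
  have hel' : el.inv ≫ pullback.snd y (FEt.puncturedSpec Ā).ι = rest Ā C₀ := by
    rw [← hel]; exact el.inv_hom_id_assoc _
  refine ⟨B₀, inferInstance, inferInstance, (fet_sp_iff.1 hprop).1, (fet_sp_iff.1 hprop).2,
    el.inv ≫ qi.inv, qi.hom ≫ el.hom, ?_, ?_, ?_, ?_⟩
  · rw [Category.assoc, ← hq, show qi.inv ≫ q ≫ pullback.snd y (FEt.puncturedSpec Ā).ι = _ from qi.inv_hom_id_assoc _]; exact hel'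
  · exact (Category.assoc _ _ _).trans ((congrArg (q ≫ ·) hel).trans hq)
  · exact (Category.assoc _ _ _).trans ((congrArg (el.inv ≫ ·) (qi.inv_hom_id_assoc _)).trans el.inv_hom_id)
  · exact (Category.assoc _ _ _).trans ((congrArg (q ≫ ·) (el.hom_inv_id_assoc _)).trans qi.hom_inv_id)

/-- An algebra étale off the closed point with flat sections extends to a finite étale algebra. -/
theorem exists_finite_etale_of_flat {R : Type u} [CommRing R] [IsLocalRing R] [IsNoetherianRing R]
    {C : Type u} [CommRing C] [Algebra R C] [Module.Finite R C] (hC : EtOff R C) {h k : R} (D : Hull R C h k)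
    (hD : ∀ g, EtAway R C g → D.SplitAt g) (hP : PairMod h k ⊥) (hdim : (2 : WithBot ℕ∞) ≤ ringKrullDim R)
    [Module.Flat R (LinearMap.ker D.a)] :
    ∃ (B : Type u) (_ : CommRing B) (_ : Algebra R B) (f : C →ₐ[R] B),
      Module.Finite R B ∧ Algebra.Etale R B ∧ ∀ g ∈ maximalIdeal R, IsoAway f g := by
  let S := sect C h k
  let e : LinearMap.ker D.a ≃ₗ[R] S := LinearEquiv.ofBijective _ (D.bijective_toSections hP)
  haveI : Module.Finite R S := Module.Finite.equiv e
  haveI : Module.Flat R S := Module.Flat.of_linearEquiv e.symm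
  have hiso : ∀ g ∈ maximalIdeal R, IsoAway (toSect C h k) g :=
    fun g hg => D.isoAway hP (hD g (hC g hg))
  refine ⟨S, inferInstance, inferInstance, toSect C h k, inferInstance, ?_, hiso⟩
  haveI : Algebra.FinitePresentation R S := Algebra.FinitePresentation.of_finiteType.mp inferInstance
  refine Pi1Ext.etale_of_flat_etale_off {p | p.asIdeal ≠ maximalIdeal R} (fun q hq => ?_) fun p hp' => ?_
  · obtain ⟨g, hg, hgq⟩ : ∃ g ∈ maximalIdeal R, g ∉ (PrimeSpectrum.comap (algebraMap R S) q).asIdeal := by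
      refine SetLike.not_le_iff_exists.1 fun hle => hq ?_
      exact ((IsLocalRing.maximalIdeal.isMaximal R).eq_of_le (Ideal.IsPrime.ne_top inferInstance) hle).symm
    exact Algebra.basicOpen_subset_etaleLocus_iff_etale.2 ((hiso g hg).etale (hC g hg)) hgq
  · have hpm : p.asIdeal = maximalIdeal R := not_not.1 hp'
    rw [IsLocalization.AtPrime.ringKrullDim_eq_height p.asIdeal (Localization.AtPrime p.asIdeal), hpm,
      IsLocalRing.maximalIdeal_height_eq_ringKrullDim]
    exact hdim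

theorem two_le_ringKrullDim_of_pair {R : Type u} [CommRing R] [IsLocalRing R] [IsNoetherianRing R] {h k : R}
    (hh : h ∈ maximalIdeal R) (hk : k ∈ maximalIdeal R) (hP : PairMod h k ⊥) :
    (2 : WithBot ℕ∞) ≤ ringKrullDim R := by
  let R₁ := R ⧸ Ideal.span {h}
  have h1 : ringKrullDim R₁ + 1 ≤ ringKrullDim R :=
    ringKrullDim_quotient_succ_le_of_nonZeroDivisor (mem_nonZeroDivisors_iff_left.2 fun z hz =>
      (Submodule.mem_bot R).1 (hP.left z ((Submodule.mem_bot R).2 hz)))
  have hk' : Ideal.Quotient.mk (Ideal.span {h}) k ∈ nonZeroDivisors R₁ := mem_nonZeroDivisors_iff_left.2 fun z hz => by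
    obtain ⟨z, rfl⟩ := Ideal.Quotient.mk_surjective z
    rw [← map_mul, Ideal.Quotient.eq_zero_iff_mem, Ideal.mem_span_singleton] at hz
    obtain ⟨w, hw⟩ := hz
    obtain ⟨v, hv⟩ := hP.div z w (by rw [hw, sub_self]; exact zero_mem _)
    rw [Ideal.Quotient.eq_zero_iff_mem, Ideal.mem_span_singleton]
    exact ⟨v, sub_eq_zero.1 ((Submodule.mem_bot R).1 hv)⟩
  have h2 : ringKrullDim (R₁ ⧸ Ideal.span {Ideal.Quotient.mk (Ideal.span {h}) k}) + 1 ≤ ringKrullDim R₁ :=
    ringKrullDim_quotient_succ_le_of_nonZeroDivisor hk'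
  haveI : Nontrivial (R₁ ⧸ Ideal.span {Ideal.Quotient.mk (Ideal.span {h}) k}) := by
    refine Ideal.Quotient.nontrivial_iff.2 fun htop => (maximalIdeal.isMaximal R).ne_top (top_le_iff.1 ?_)
    have h3 : (⊤ : Ideal R) ≤ Ideal.span {k} ⊔ Ideal.span {h} := by
      have h4 := congrArg (Ideal.comap (Ideal.Quotient.mk (Ideal.span {h}))) htop
      rw [← Set.image_singleton, ← Ideal.map_span, Ideal.comap_map_of_surjective _ Ideal.Quotient.mk_surjective,
        ← RingHom.ker_eq_comap_bot, Ideal.mk_ker, Ideal.comap_top] at h4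
      exact h4.ge
    exact h3.trans (sup_le ((Ideal.span_singleton_le_iff_mem _).2 hk) ((Ideal.span_singleton_le_iff_mem _).2 hh))
  calc (2 : WithBot ℕ∞) = 0 + 1 + 1 := rfl
    _ ≤ ringKrullDim (R₁ ⧸ Ideal.span {Ideal.Quotient.mk (Ideal.span {h}) k}) + 1 + 1 := by
      gcongr; exact ringKrullDim_nonneg_of_nontrivial
    _ ≤ ringKrullDim R₁ + 1 := by gcongr
    _ ≤ ringKrullDim R := h1

/-- Purity lifts from the quotient by an ideal with free graded pieces. -/
theorem purityHolds_of_quot {A : Type u} [CommRing A] [IsLocalRing A] [IsNoetherianRing A] (J : Ideal A)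
    (hJ : J ≤ maximalIdeal A) [IsLocalRing (A ⧸ J)] (hgr : GrFree J) (h0 : FEt.PurityHolds (A ⧸ J))
    {h k : A} (hh : h ∈ maximalIdeal A) (hk : k ∈ maximalIdeal A) (hPJ : PairMod h k J) : FEt.PurityHolds A := by
  have hjac : J ≤ Ideal.jacobson ⊥ := by rwa [IsLocalRing.jacobson_eq_maximalIdeal ⊥ bot_ne_top]
  have hbot := pairMod_bot_of_forall hjac (hgr.pairMod hPJ)
  refine purityHolds_of_forall A fun C _ _ _ hC => ?_
  obtain ⟨D, hD⟩ := exists_hull_split (hC h hh) (hC k hk)
  suffices Module.Flat A (LinearMap.ker D.a) by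
    haveI := this
    exact exists_finite_etale_of_flat hC D hD hbot (two_le_ringKrullDim_of_pair hh hk hbot)
  -- pass to the `J`-adic completion
  let Ā := A ⧸ J
  let A' := AdicCompletion J A
  let J' := J.map (algebraMap A A')
  haveI : IsAdicComplete J' A' := AdicCompletion.isAdicComplete_self J (IsNoetherian.noetherian _)
  haveI : IsNoetherianRing A' := FormalFib6.isNoetherianRing_adicCompletion A J
  haveI : IsLocalRing A' := isLocalRing_adic J hJ
  haveI := faithfullyFlat_adic J hJ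
  letI : Algebra A' Ā := (AdicCompletion.evalOneₐ J).toRingHom.toAlgebra
  haveI : IsScalarTower A A' Ā := IsScalarTower.of_algebraMap_eq fun r => ((AdicCompletion.evalOneₐ J).commutes r).symm
  have hA₀ : Function.Surjective (algebraMap A' Ā) := AdicCompletion.evalOneₐ_surjective J
  have hker : RingHom.ker (algebraMap A' Ā) = J' :=
    AdicCompletion.ker_evalOneₐ_eq_map J (IsNoetherian.noetherian _)
  have hmem : ∀ g ∈ maximalIdeal A, algebraMap A' Ā (algebraMap A A' g) ∈ maximalIdeal Ā := fun g hg => by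
    rw [← IsScalarTower.algebraMap_apply, Ideal.Quotient.algebraMap_eq, ← RegLoc6.map_maximalIdeal_quot J]
    exact Ideal.mem_map_of_mem _ hg
  let π : A' ⊗[A] C →ₐ[A'] Ā ⊗[A] C := Algebra.TensorProduct.map (Algebra.ofId A' Ā) (AlgHom.id A C)
  have hπ : Function.Surjective π := Algebra.TensorProduct.map_surjective (f := Algebra.ofId A' Ā) (g := AlgHom.id A C) hA₀ Function.surjective_id
  have hπker : ∀ c, π c = 0 → c ∈ J'.map (algebraMap A' (A' ⊗[A] C)) := fun c hc => by
    have h1 : c ∈ RingHom.ker π := hc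
    rw [Algebra.TensorProduct.map_ker (f := Algebra.ofId A' Ā) (g := AlgHom.id A C) hA₀ Function.surjective_id] at h1
    have h2 : RingHom.ker (AlgHom.id A C) = ⊥ := (RingHom.injective_iff_ker_eq_bot _).1 Function.injective_id
    rw [h2, Ideal.map_bot, sup_bot_eq] at h1
    rw [← hker]
    exact h1
  obtain ⟨B₀, _, _, hfin, het, φ, ψ, hφ, hψ, hφψ, hψφ⟩ :=
    exists_extension_of_purity h0 (prop_rest (Ā ⊗[A] C) (etOff_quot hC J))
  haveI := hfin
  haveI := het
  have ehk : EtAway A' (A' ⊗[A] C) (algebraMap A A' h * algebraMap A A' k) := by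
    rw [← map_mul]; exact etAway_baseChange A' (hC _ (Ideal.mul_mem_left _ _ hk))
  haveI := flat_ker_of_red (A := A') (A₀ := Ā) J' hA₀ hker (hmem h hh) (hmem k hk)
    (fun n => pairMod_adic J hJ (hgr.pairMod hPJ n))
    (pairMod_bot_of_forall (IsAdicComplete.le_jacobson_bot J') fun n => pairMod_adic J hJ (hgr.pairMod hPJ n))
    π hπ hπker (etAway_baseChange A' (hC h hh)) (etAway_baseChange A' (hC k hk)) ehk (D.baseChange A')
    B₀ φ ψ hφ hψ hφψ hψφ
  exact D.flat_ker_of_baseChange A'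

end Groth.Agent.H9Pur

end
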