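import Groth.Agent.H9Pur.SectHom
import Groth.Agent.H9Pur.SchemeSect
import Groth.Agent.Hensel.FiniteEtaleLift

/-!
# Purity modulo `J` gives flatness of sections
-/

set_option autoImplicit false
set_option linter.style.haveILetI false

universe u

open Groth.Agent.Pi1Ext.RegPurity IsLocalRing

noncomputable section

namespace Groth.Agent.H9Pur

section Res

variable {A C : Type u} [CommRing A] [CommRing C] [Algebra A C]

theorem isUnit_L_of_dvd {g g' : A} (h : g ∣ g') : IsUnit (algebraMap A (L C g') g) :=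
  isUnit_of_dvd_unit (map_dvd _ h) (isUnit_L g')

/-- Restriction between standard opens. -/
def resG (C : Type u) [CommRing C] [Algebra A C] {g g' : A} (h : g ∣ g') : L C g →ₐ[C] L C g' :=
  IsLocalization.Away.liftAlgHom (algebraMap A C g) (f := Algebra.ofId C (L C g')) (by
    have h0 := isUnit_L_of_dvd (C := C) h
    rw [IsScalarTower.algebraMap_apply A C (L C g') g] at h0
    exact h0)

end Res

section Red

variable {A A₀ : Type u} [CommRing A] [CommRing A₀] [Algebra A A₀] (J : Ideal A)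
  (hJ : ∀ r ∈ J, algebraMap A A₀ r = 0)
  {C C₀ : Type u} [CommRing C] [CommRing C₀] [Algebra A C] [Algebra A₀ C₀] [Algebra A C₀]
  [IsScalarTower A A₀ C₀] (π : C →ₐ[A] C₀) (hπ : Function.Surjective π)
  (hπker : ∀ c, π c = 0 → c ∈ J.map (algebraMap A C)) {g g' : A}

theorem algebraMap_L₀ (r : A) :
    algebraMap A (L C₀ (algebraMap A A₀ g)) r = algebraMap A₀ (L C₀ (algebraMap A A₀ g)) (algebraMap A A₀ r) := by
  rw [IsScalarTower.algebraMap_apply A C₀ (L C₀ _), IsScalarTower.algebraMap_apply A A₀ C₀,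
    ← IsScalarTower.algebraMap_apply A₀ C₀ (L C₀ _)]

variable (A₀) in
/-- Reduction of functions on a standard open. -/
def nu (g : A) : L C g →ₐ[A] L C₀ (algebraMap A A₀ g) :=
  IsLocalization.liftAlgHom (M := Submonoid.powers (algebraMap A C g))
    (f := (IsScalarTower.toAlgHom A C₀ (L C₀ (algebraMap A A₀ g))).comp π) (by
    rintro ⟨_, n, rfl⟩
    simp only [map_pow, AlgHom.commutes]
    rw [algebraMap_L₀]
    exact (isUnit_L (C := C₀) _).pow n)

theorem nu_algebraMap (g : A) (c : C) :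
    nu A₀ π g (algebraMap C (L C g) c) = algebraMap C₀ (L C₀ (algebraMap A A₀ g)) (π c) := by
  unfold nu
  exact IsLocalization.lift_eq _ c

/-- Reduction factors through the first thickening. -/
def nbar (g : A) : TQ J C 0 g →ₐ[A] L C₀ (algebraMap A A₀ g) :=
  Ideal.Quotient.liftₐ (Th J C 0 g) (nu A₀ π g) fun z hz => by
    have hle : Th J C 0 g ≤ RingHom.ker (nu A₀ π g) := Ideal.map_le_iff_le_comap.2 fun r hr => by
      rw [zero_add, pow_one] at hr
      rw [Ideal.mem_comap, RingHom.mem_ker, AlgHom.commutes, algebraMap_L₀ (A₀ := A₀) (C₀ := C₀) (g := g), hJ r hr, map_zero]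
    exact hle hz

theorem nbar_tq (g : A) (z : L C g) : nbar J hJ π g (tq J 0 g z) = nu A₀ π g z := rfl

/-- Functions modulo `J` on the standard open. -/
def mu₀ (g : A) : C₀ →ₐ[A] TQ J C 0 g :=
  AlgHom.liftOfSurjective π hπ ((tq J 0 g).comp (IsScalarTower.toAlgHom A C (L C g))) fun c hc => by
    rw [RingHom.mem_ker]
    show tq J 0 g (algebraMap C (L C g) c) = 0
    rw [Ideal.Quotient.mkₐ_eq_mk, Ideal.Quotient.eq_zero_iff_mem]
    have hle : J.map (algebraMap A C) ≤ (Th J C 0 g).comap (algebraMap C (L C g)) :=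
      Ideal.map_le_iff_le_comap.2 fun r hr => by
        rw [Ideal.mem_comap, Ideal.mem_comap, ← IsScalarTower.algebraMap_apply]
        exact Ideal.mem_map_of_mem _ (by rwa [zero_add, pow_one])
    exact hle (hπker c (RingHom.mem_ker.1 hc))

theorem mu₀_apply (g : A) (c : C) : mu₀ J π hπ hπker g (π c) = tq J 0 g (algebraMap C (L C g) c) :=
  AlgHom.liftOfSurjective_apply _ _ _ _ c

variable (A₀) in
/-- Functions on the reduced standard open, modulo `J`. -/
def mu (g : A) : L C₀ (algebraMap A A₀ g) →ₐ[A] TQ J C 0 g :=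
  IsLocalization.liftAlgHom (M := Submonoid.powers (algebraMap A₀ C₀ (algebraMap A A₀ g)))
    (f := mu₀ J π hπ hπker g) (by
    rintro ⟨_, n, rfl⟩
    simp only [← IsScalarTower.algebraMap_apply, map_pow, AlgHom.commutes]
    rw [IsScalarTower.algebraMap_apply A (L C g) (TQ J C 0 g)]
    exact ((isUnit_L (C := C) g).map _).pow n)

theorem mu_algebraMap (g : A) (c : C) :
    mu A₀ J π hπ hπker g (algebraMap C₀ _ (π c)) = tq J 0 g (algebraMap C (L C g) c) := by
  rw [← mu₀_apply J π hπ hπker g c]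
  unfold mu
  exact IsLocalization.lift_eq _ _

theorem mu_nu (g : A) (z : L C g) : mu A₀ J π hπ hπker g (nu A₀ π g z) = tq J 0 g z := by
  refine RingHom.congr_fun (IsLocalization.ringHom_ext (Submonoid.powers (algebraMap A C g))
    (j := (mu A₀ J π hπ hπker g).toRingHom.comp (nu A₀ π g).toRingHom) (k := (tq J 0 g).toRingHom) ?_) z
  ext c
  show mu A₀ J π hπ hπker g (nu A₀ π g (algebraMap C (L C g) c)) = _
  rw [nu_algebraMap, mu_algebraMap]
  rfl

theorem nbar_mu (g : A) (x : L C₀ (algebraMap A A₀ g)) : nbar J hJ π g (mu A₀ J π hπ hπker g x) = x := by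
  refine RingHom.congr_fun (IsLocalization.ringHom_ext
    (Submonoid.powers (algebraMap A₀ C₀ (algebraMap A A₀ g)))
    (j := (nbar J hJ π g).toRingHom.comp (mu A₀ J π hπ hπker g).toRingHom) (k := RingHom.id _) ?_) x
  refine RingHom.ext fun c₀ => ?_
  obtain ⟨c, rfl⟩ := hπ c₀
  show nbar J hJ π g (mu A₀ J π hπ hπker g (algebraMap C₀ _ (π c))) = _
  rw [mu_algebraMap, nbar_tq, nu_algebraMap]
  rfl

theorem tres_mu (r : L C g →ₐ[C] L C g') (r₀ : L C₀ (algebraMap A A₀ g) →ₐ[C₀] L C₀ (algebraMap A A₀ g'))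
    (x : L C₀ (algebraMap A A₀ g)) : tres J r 0 (mu A₀ J π hπ hπker g x) = mu A₀ J π hπ hπker g' (r₀ x) := by
  refine RingHom.congr_fun (IsLocalization.ringHom_ext
    (Submonoid.powers (algebraMap A₀ C₀ (algebraMap A A₀ g)))
    (j := (tres J r 0).toRingHom.comp (mu A₀ J π hπ hπker g).toRingHom)
    (k := (mu A₀ J π hπ hπker g').toRingHom.comp r₀.toRingHom) ?_) x
  refine RingHom.ext fun c₀ => ?_
  obtain ⟨c, rfl⟩ := hπ c₀
  show tres J r 0 (mu A₀ J π hπ hπker g (algebraMap C₀ _ (π c))) = mu A₀ J π hπ hπker g' (r₀ (algebraMap C₀ _ (π c)))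
  rw [AlgHom.commutes, mu_algebraMap, mu_algebraMap, tres_tq, AlgHom.commutes]

theorem nu_res (r : L C g →ₐ[C] L C g') (r₀ : L C₀ (algebraMap A A₀ g) →ₐ[C₀] L C₀ (algebraMap A A₀ g'))
    (z : L C g) : r₀ (nu A₀ π g z) = nu A₀ π g' (r z) := by
  refine RingHom.congr_fun (IsLocalization.ringHom_ext (Submonoid.powers (algebraMap A C g))
    (j := r₀.toRingHom.comp (nu A₀ π g).toRingHom) (k := (nu A₀ π g').toRingHom.comp r.toRingHom) ?_) z
  ext c
  show r₀ (nu A₀ π g (algebraMap C (L C g) c)) = nu A₀ π g' (r (algebraMap C (L C g) c))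
  rw [nu_algebraMap, AlgHom.commutes, AlgHom.commutes, nu_algebraMap]

end Red

end Groth.Agent.H9Pur

end
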