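import Groth.Agent.H9Pur.RedMaps

/-!
# A cover extending modulo `J` has flat sections
-/

set_option autoImplicit false
set_option linter.style.haveILetI false

universe u

open CategoryTheory CategoryTheory.Limits AlgebraicGeometry IsLocalRing Groth.Agent.Pi1Ext.RegPurity
  Groth.Agent.Pi1Ext.PuritySch TensorProduct

noncomputable section

namespace Groth.Agent.H9Pur

variable {A A₀ : Type u} [CommRing A] [CommRing A₀] [IsLocalRing A₀] [Algebra A A₀]

omit [IsLocalRing A₀] in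
theorem isScalarTower_L₀ {C₀ : Type u} [CommRing C₀] [Algebra A₀ C₀] [Algebra A C₀] [IsScalarTower A A₀ C₀]
    (g : A) : IsScalarTower A A₀ (L C₀ (algebraMap A A₀ g)) :=
  IsScalarTower.of_algebraMap_eq fun r => algebraMap_L₀ (A₀ := A₀) (C₀ := C₀) (g := g) r

/-- The comparison of two algebras modulo `J` given by a map over the punctured spectrum. -/
def compatOfMap {J : Ideal A}
    {B B₀ C C₀ : Type u} [CommRing B] [CommRing B₀] [CommRing C] [CommRing C₀]
    [Algebra A B] [Algebra A₀ B₀] [Algebra A B₀] [IsScalarTower A A₀ B₀]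
    [Algebra A C] [Algebra A₀ C₀] [Algebra A C₀] [IsScalarTower A A₀ C₀]
    (πC : C →ₐ[A] C₀) (πB : B →ₐ[A] B₀) (hπB : Function.Surjective πB)
    (hπBker : ∀ b, πB b = 0 → b ∈ J.map (algebraMap A B))
    (ψ : pullback (sp A₀ B₀) (FEt.puncturedSpec A₀).ι ⟶ pullback (sp A₀ C₀) (FEt.puncturedSpec A₀).ι)
    (hψ : ψ ≫ pullback.snd _ _ = pullback.snd _ _)
    {h k : A} (hh : algebraMap A A₀ h ∈ maximalIdeal A₀) (hk : algebraMap A A₀ k ∈ maximalIdeal A₀)
    (hhk : algebraMap A A₀ (h * k) ∈ maximalIdeal A₀)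
    (eh : EtAway A C h) (ek : EtAway A C k) (ehk : EtAway A C (h * k)) : Compat J C B h k :=
  haveI := fun g : A => isScalarTower_L₀ (A := A) (A₀ := A₀) (C₀ := C₀) g
  haveI := fun g : A => isScalarTower_L₀ (A := A) (A₀ := A₀) (C₀ := B₀) g
  { eh := eh
    ek := ek
    ehk := ehk
    u₁ := (mu A₀ J πB hπB hπBker h).comp (((τ ψ hψ hh).restrictScalars A).comp (nu A₀ πC h))
    u₂ := (mu A₀ J πB hπB hπBker k).comp (((τ ψ hψ hk).restrictScalars A).comp (nu A₀ πC k))
    u₁₂ := (mu A₀ J πB hπB hπBker (h * k)).comp (((τ ψ hψ hhk).restrictScalars A).comp (nu A₀ πC (h * k)))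
    comm₁ := fun z => by
      show tres J (res₁ h k) 0 (mu A₀ J πB hπB hπBker h (τ ψ hψ hh (nu A₀ πC h z))) =
        mu A₀ J πB hπB hπBker (h * k) (τ ψ hψ hhk (nu A₀ πC (h * k) (res₁ h k z)))
      rw [tres_mu J πB hπB hπBker _ (resG B₀ (map_dvd (algebraMap A A₀) (dvd_mul_right h k))),
        τ_res ψ hψ hh hhk (resG C₀ (map_dvd (algebraMap A A₀) (dvd_mul_right h k))),
        nu_res (A₀ := A₀) πC (res₁ h k)]
    comm₂ := fun z => by
      show tres J (res₂ h k) 0 (mu A₀ J πB hπB hπBker k (τ ψ hψ hk (nu A₀ πC k z))) =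
        mu A₀ J πB hπB hπBker (h * k) (τ ψ hψ hhk (nu A₀ πC (h * k) (res₂ h k z)))
      rw [tres_mu J πB hπB hπBker _ (resG B₀ (map_dvd (algebraMap A A₀) (dvd_mul_left k h))),
        τ_res ψ hψ hk hhk (resG C₀ (map_dvd (algebraMap A A₀) (dvd_mul_left k h))),
        nu_res (A₀ := A₀) πC (res₂ h k)] }

/-- A free algebra is its own hull. -/
def freeHull (A : Type u) [CommRing A] (B : Type u) [CommRing B] [Algebra A B] {p : ℕ}
    (e : B ≃ₗ[A] (Fin p → A)) (h k : A) : Hull A B h k where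
  p := p
  q := 0
  ε := e.toLinearMap
  a := 0
  aε := fun _ => rfl
  M := 0
  s₁ := e.symm.toLinearMap
  t₁ := 0
  se₁ := fun c => by simp
  es₁ := fun x => by simp
  s₂ := e.symm.toLinearMap
  t₂ := 0
  se₂ := fun c => by simp
  es₂ := fun x => by simp

/-- A cover extending modulo `J` has flat sections. -/
theorem flat_ker_of_red [IsNoetherianRing A] [IsLocalRing A] (J : Ideal A) [IsAdicComplete J A]
    (hA₀ : Function.Surjective (algebraMap A A₀)) (hker : RingHom.ker (algebraMap A A₀) = J)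
    {h k : A} (hh : algebraMap A A₀ h ∈ maximalIdeal A₀) (hk : algebraMap A A₀ k ∈ maximalIdeal A₀)
    (hP : ∀ n, PairMod h k (J ^ n)) (hbot : PairMod h k ⊥)
    {C C₀ : Type u} [CommRing C] [CommRing C₀] [Algebra A C] [Algebra A₀ C₀] [Algebra A C₀]
    [IsScalarTower A A₀ C₀] (πC : C →ₐ[A] C₀) (hπC : Function.Surjective πC)
    (hπCker : ∀ c, πC c = 0 → c ∈ J.map (algebraMap A C))
    (eh : EtAway A C h) (ek : EtAway A C k) (ehk : EtAway A C (h * k)) (D : Hull A C h k)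
    (B₀ : Type u) [CommRing B₀] [Algebra A₀ B₀] [Module.Finite A₀ B₀] [Algebra.Etale A₀ B₀]
    (φ : pullback (sp A₀ C₀) (FEt.puncturedSpec A₀).ι ⟶ pullback (sp A₀ B₀) (FEt.puncturedSpec A₀).ι)
    (ψ : pullback (sp A₀ B₀) (FEt.puncturedSpec A₀).ι ⟶ pullback (sp A₀ C₀) (FEt.puncturedSpec A₀).ι)
    (hφ : φ ≫ pullback.snd _ _ = pullback.snd _ _) (hψ : ψ ≫ pullback.snd _ _ = pullback.snd _ _)
    (hφψ : φ ≫ ψ = 𝟙 _) (hψφ : ψ ≫ φ = 𝟙 _) : Module.Flat A (LinearMap.ker D.a) := by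
  have hJ : ∀ r ∈ J, algebraMap A A₀ r = 0 := fun r hr => by rwa [← hker] at hr
  let e₀ : (A ⧸ J) ≃ₐ[A] A₀ :=
    (Ideal.quotientEquivAlgOfEq A hker.symm).trans (Ideal.quotientKerAlgEquivOfSurjective (f := Algebra.ofId A A₀) hA₀)
  letI : Algebra (A ⧸ J) A₀ := e₀.toRingEquiv.toRingHom.toAlgebra
  letI : Algebra (A ⧸ J) B₀ := ((algebraMap A₀ B₀).comp (algebraMap (A ⧸ J) A₀)).toAlgebra
  letI : Algebra A B₀ := ((algebraMap A₀ B₀).comp (algebraMap A A₀)).toAlgebra
  haveI : IsScalarTower (A ⧸ J) A₀ B₀ := IsScalarTower.of_algebraMap_eq fun _ => rfl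
  haveI : IsScalarTower A A₀ B₀ := IsScalarTower.of_algebraMap_eq fun _ => rfl
  haveI : IsScalarTower A (A ⧸ J) B₀ := IsScalarTower.of_algebraMap_eq fun r => by
    show algebraMap A₀ B₀ (algebraMap A A₀ r) = algebraMap A₀ B₀ (e₀ (algebraMap A (A ⧸ J) r))
    rw [AlgEquiv.commutes]
  let eA : (A ⧸ J) ≃ₐ[A ⧸ J] A₀ := AlgEquiv.ofRingEquiv (f := e₀.toRingEquiv) fun _ => rfl
  haveI : Module.Finite (A ⧸ J) A₀ := Module.Finite.equiv eA.toLinearEquiv
  haveI : Algebra.Etale (A ⧸ J) A₀ := Algebra.Etale.of_equiv eA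
  haveI : Module.Finite (A ⧸ J) B₀ := Module.Finite.trans A₀ B₀
  haveI : Algebra.Etale (A ⧸ J) B₀ := Algebra.Etale.comp (A ⧸ J) A₀ B₀
  obtain ⟨B, _, _, hfin, het, ⟨eB⟩⟩ := Hensel.exists_finite_etale_lift (A := A) (I := J) B₀
  haveI := hfin
  haveI := het
  let πB : B →ₐ[A] B₀ := (eB.restrictScalars A).toAlgHom.comp Algebra.TensorProduct.includeRight
  have hπB : Function.Surjective πB := fun b => by
    obtain ⟨z, rfl⟩ := eB.surjective b
    obtain ⟨w, rfl⟩ := TensorProduct.mk_surjective A B (A ⧸ J) Ideal.Quotient.mk_surjective z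
    exact ⟨w, rfl⟩
  have hπBker : ∀ b, πB b = 0 → b ∈ J.map (algebraMap A B) := fun b hb => by
    have h1 : (1 : A ⧸ J) ⊗ₜ[A] b = 0 := eB.injective (hb.trans (map_zero eB).symm)
    have h2 : Submodule.Quotient.mk b = (0 : B ⧸ (J • (⊤ : Submodule A B))) := by
      rw [← map_zero (TensorProduct.quotTensorEquivQuotSMul B J), ← h1]
      exact (by simp : TensorProduct.quotTensorEquivQuotSMul B J ((1 : A ⧸ J) ⊗ₜ[A] b) = _).symm
    rw [Submodule.Quotient.mk_eq_zero, Ideal.smul_top_eq_map] at h2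
    exact h2
  haveI : Module.FinitePresentation A B := Module.finitePresentation_of_finite _ _
  haveI : Module.Free A B := Module.free_of_flat_of_isLocalRing
  let e := (Module.finBasis A B).equivFun
  let E := freeHull A B e h k
  have hhk : algebraMap A A₀ (h * k) ∈ maximalIdeal A₀ := by
    rw [map_mul]; exact Ideal.mul_mem_left _ _ hk
  have eBg : ∀ g : A, EtAway A B g := fun g => by
    haveI : Algebra.Etale B (Localization.Away (algebraMap A B g)) :=
      Algebra.Etale.of_isLocalizationAway (algebraMap A B g)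
    exact Algebra.Etale.comp A B _
  let U := compatOfMap πC πB hπB hπBker ψ hψ hh hk hhk eh ek ehk
  let V := compatOfMap πB πC hπC hπCker φ hφ hh hk hhk (eBg h) (eBg k) (eBg (h * k))
  haveI := fun g : A => isScalarTower_L₀ (A := A) (A₀ := A₀) (C₀ := C₀) g
  haveI := fun g : A => isScalarTower_L₀ (A := A) (A₀ := A₀) (C₀ := B₀) g
  let Θ : sect C h k ≃ₐ[A] sect B h k := U.equiv E hP hbot V D
    (fun z w hzw => by
      have h1 := congrArg (nbar J hJ πB h) hzw
      rw [nbar_tq] at h1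
      show mu A₀ J πC hπC hπCker h (τ φ hφ hh (nu A₀ πB h w)) = tq J 0 h z
      rw [← h1]
      show mu A₀ J πC hπC hπCker h (τ φ hφ hh (nbar J hJ πB h (mu A₀ J πB hπB hπBker h
        (τ ψ hψ hh (nu A₀ πC h z))))) = _
      rw [nbar_mu, τ_τ φ hφ ψ hψ hφψ, mu_nu])
    (fun z w hzw => by
      have h1 := congrArg (nbar J hJ πC h) hzw
      rw [nbar_tq] at h1
      show mu A₀ J πB hπB hπBker h (τ ψ hψ hh (nu A₀ πC h w)) = tq J 0 h z
      rw [← h1]
      show mu A₀ J πB hπB hπBker h (τ ψ hψ hh (nbar J hJ πC h (mu A₀ J πC hπC hπCker h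
        (τ φ hφ hh (nu A₀ πB h z))))) = _
      rw [nbar_mu, τ_τ ψ hψ φ hφ hψφ, mu_nu])
  haveI : Module.Flat A (LinearMap.ker E.a) :=
    Module.Flat.of_linearEquiv ((LinearEquiv.ofEq _ _ LinearMap.ker_zero).trans Submodule.topEquiv)
  exact Module.Flat.of_linearEquiv ((LinearEquiv.ofBijective _ (D.bijective_toSections hbot)).trans
    (Θ.toLinearEquiv.trans (LinearEquiv.ofBijective _ (E.bijective_toSections hbot)).symm))

end Groth.Agent.H9Pur

end
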