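import Groth.Agent.H9Pur.Hull
import Mathlib.RingTheory.Filtration
import Mathlib.RingTheory.TensorProduct.Quotient
import Mathlib.RingTheory.AdicCompletion.Basic
import Mathlib.RingTheory.Unramified.Basic
import Mathlib.RingTheory.Smooth.Basic

/-!
# Sections of an étale algebra over the punctured spectrum of a retracted complete ring

`R` is complete for a regular element `T` with `R/(T) = A`. The hull of an algebra étale on the punctured
spectrum of `R` is then the base change of its reduction: sections lift uniquely by formal étaleness.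
-/

set_option autoImplicit false
set_option linter.style.haveILetI false

universe u

open Groth.Agent.Pi1Ext.RegPurity IsLocalRing TensorProduct

noncomputable section

namespace Groth.Agent.H9Pur

variable {A R : Type u} [CommRing A] [CommRing R] [Algebra A R]

/-- A retraction with kernel generated by a regular element. -/
structure Retr (A R : Type u) [CommRing A] [CommRing R] [Algebra A R] where
  π : R →ₐ[A] A
  T : R
  reg : ∀ z, T * z = 0 → z = 0
  ker : ∀ r, π r = 0 ↔ T ∣ r

namespace Retr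

variable (P : Retr A R)

theorem πT : P.π P.T = 0 := (P.ker _).2 dvd_rfl

theorem exists_eq (r : R) : ∃ r', r = algebraMap A R (P.π r) + P.T * r' := by
  obtain ⟨r', hr⟩ := (P.ker (r - algebraMap A R (P.π r))).1 (by simp)
  exact ⟨r', by rw [← hr, add_sub_cancel]⟩

theorem dvd_of_dvd_mul_pow {h : A} (hl : ∀ z, h * z = 0 → z = 0) :
    ∀ (n : ℕ) (z : R), P.T ^ n ∣ algebraMap A R h * z → P.T ^ n ∣ z
  | 0, z, _ => by rw [pow_zero]; exact one_dvd _
  | n + 1, z, hz => by
    have h1 : P.π z = 0 := hl _ (by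
      rw [show h = P.π (algebraMap A R h) by simp, ← map_mul, P.ker]
      exact (dvd_pow_self _ n.succ_ne_zero).trans hz)
    obtain ⟨z', rfl⟩ := (P.ker z).1 h1
    obtain ⟨w, hw⟩ := hz
    have : P.T ^ n ∣ algebraMap A R h * z' := ⟨w, by
      refine sub_eq_zero.mp (P.reg _ ?_)
      rw [mul_sub, ← mul_assoc, mul_comm P.T (algebraMap A R h), mul_assoc, hw, pow_succ']
      ring⟩
    rw [pow_succ']
    exact mul_dvd_mul_left _ (dvd_of_dvd_mul_pow hl n z' this)

/-- A regular pair of the base is one modulo every power of `T`. -/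
theorem pairMod_pow {h k : A} (hl : ∀ z, h * z = 0 → z = 0) (hr : ∀ z, k * z = 0 → z = 0)
    (hd : ∀ z, h ∣ k * z → h ∣ z) (n : ℕ) :
    PairMod (algebraMap A R h) (algebraMap A R k) (Ideal.span {P.T ^ n}) := by
  refine ⟨fun z hz => ?_, fun z hz => ?_, ?_⟩
  · rw [Ideal.mem_span_singleton] at hz ⊢; exact P.dvd_of_dvd_mul_pow hl n z hz
  · rw [Ideal.mem_span_singleton] at hz ⊢; exact P.dvd_of_dvd_mul_pow hr n z hz
  induction n with
  | zero => intro z w _; exact ⟨0, by simp⟩
  | succ n ih =>
    intro z w hzw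
    rw [Ideal.mem_span_singleton] at hzw
    have h1 : P.π (algebraMap A R k * z - algebraMap A R h * w) = 0 :=
      (P.ker _).2 ((dvd_pow_self _ n.succ_ne_zero).trans hzw)
    simp only [map_sub, map_mul, AlgHom.commutes, Algebra.algebraMap_self, RingHom.id_apply, sub_eq_zero] at h1
    obtain ⟨v, hv⟩ := hd (P.π z) ⟨P.π w, h1⟩
    obtain ⟨z', hz'⟩ := (P.ker (z - algebraMap A R h * algebraMap A R v)).1 (by simp [hv])
    let w' := w - algebraMap A R k * algebraMap A R v
    have e1 : algebraMap A R k * z - algebraMap A R h * w = P.T * (algebraMap A R k * z') - algebraMap A R h * w' := by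
      rw [show z = P.T * z' + algebraMap A R h * algebraMap A R v by rw [← hz']; ring]
      ring
    have h2 : P.π w' = 0 := hl _ (by
      have h3 := congrArg P.π e1
      simp only [map_sub, map_mul, AlgHom.commutes, Algebra.algebraMap_self, RingHom.id_apply, P.πT,
        zero_mul, zero_sub, h1, sub_self] at h3
      exact neg_eq_zero.mp h3.symm)
    obtain ⟨u, hu⟩ := (P.ker w').1 h2
    obtain ⟨c, hc⟩ := hzw
    have h3 : algebraMap A R k * z' - algebraMap A R h * u ∈ Ideal.span {P.T ^ n} := by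
      rw [Ideal.mem_span_singleton]
      refine ⟨c, sub_eq_zero.mp (P.reg _ ?_)⟩
      rw [e1, hu, pow_succ'] at hc
      linear_combination hc
    obtain ⟨x, hx⟩ := ih z' u h3
    rw [Ideal.mem_span_singleton] at hx
    obtain ⟨y, hy⟩ := hx
    refine ⟨algebraMap A R v + P.T * x, Ideal.mem_span_singleton.2 ⟨y, ?_⟩⟩
    rw [pow_succ']
    linear_combination hz' + P.T * hy

theorem pairMod_bot [IsNoetherianRing R] [IsLocalRing R] (hT : P.T ∈ maximalIdeal R) {h k : A}
    (hl : ∀ z, h * z = 0 → z = 0) (hr : ∀ z, k * z = 0 → z = 0) (hd : ∀ z, h ∣ k * z → h ∣ z) :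
    PairMod (algebraMap A R h) (algebraMap A R k) ⊥ := by
  have hle : Ideal.span {P.T} ≤ Ideal.jacobson ⊥ := by
    rw [IsLocalRing.jacobson_eq_maximalIdeal ⊥ bot_ne_top, Ideal.span_le, Set.singleton_subset_iff]
    exact hT
  have h0 : ∀ z : R, (∀ n, z ∈ Ideal.span {P.T ^ n}) → z = 0 := fun z hz => by
    refine Submodule.mem_bot R |>.mp ((Ideal.iInf_pow_smul_eq_bot_of_le_jacobson (Ideal.span {P.T}) hle).le ?_)
    simp only [Submodule.mem_iInf, smul_eq_mul, Ideal.mul_top, Ideal.span_singleton_pow]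
    exact hz
  refine ⟨fun z hz => ?_, fun z hz => ?_, fun z w hzw => ?_⟩
  · rw [Submodule.mem_bot] at hz ⊢
    exact h0 z fun n => (P.pairMod_pow hl hr hd n).left z (by rw [hz]; exact zero_mem _)
  · rw [Submodule.mem_bot] at hz ⊢
    exact h0 z fun n => (P.pairMod_pow hl hr hd n).right z (by rw [hz]; exact zero_mem _)
  · rw [Submodule.mem_bot] at hzw
    let M := R ⧸ Ideal.span {algebraMap A R h}
    have hz : (Ideal.Quotient.mk (Ideal.span {algebraMap A R h}) z : M) = 0 := by
      refine Submodule.mem_bot R |>.mp ((Ideal.iInf_pow_smul_eq_bot_of_le_jacobson (M := M) (Ideal.span {P.T}) hle).le ?_)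
      rw [Submodule.mem_iInf]
      intro n
      obtain ⟨v, hv⟩ := (P.pairMod_pow hl hr hd n).div z w (by rw [hzw]; exact zero_mem _)
      rw [Ideal.mem_span_singleton] at hv
      obtain ⟨y, hy⟩ := hv
      have : (Ideal.Quotient.mk (Ideal.span {algebraMap A R h}) z : M) = (P.T ^ n) • (Ideal.Quotient.mk _ y : M) := by
        rw [Algebra.smul_def, Ideal.Quotient.algebraMap_eq, ← map_mul, ← hy, Ideal.Quotient.eq]
        exact Ideal.mem_span_singleton.2 ⟨v, by ring⟩
      rw [this]
      exact Submodule.smul_mem_smul (Ideal.pow_mem_pow (Ideal.mem_span_singleton_self _) n) trivial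
    rw [Ideal.Quotient.eq_zero_iff_mem, Ideal.mem_span_singleton] at hz
    obtain ⟨v, hv⟩ := hz
    exact ⟨v, by rw [Submodule.mem_bot, hv, sub_self]⟩

end Retr

section Lift

variable (P : Retr A R) {C : Type u} [CommRing C] [Algebra R C] [Algebra A C] [IsScalarTower A R C]

instance (g : R) : IsScalarTower A R (L C g) := IsScalarTower.of_algebraMap_eq fun x => by
  rw [IsScalarTower.algebraMap_apply A C (L C g), IsScalarTower.algebraMap_apply A R C,
    ← IsScalarTower.algebraMap_apply R C (L C g)]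

/-- The ideal of the `n`-th thickening. -/
abbrev J (C : Type u) [CommRing C] [Algebra R C] (n : ℕ) (g : R) : Ideal (L C g) :=
  (Ideal.span {P.T ^ (n + 1)}).map (algebraMap R (L C g))

/-- The functions on the `n`-th thickening. -/
abbrev Q (C : Type u) [CommRing C] [Algebra R C] (n : ℕ) (g : R) : Type u := L C g ⧸ J P C n g

theorem J_le {m n : ℕ} (g : R) (h : m ≤ n) : J P C n g ≤ J P C m g :=
  Ideal.map_mono (Ideal.span_singleton_le_span_singleton.2 (pow_dvd_pow _ (by omega)))

/-- Reduction of thickenings. -/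
def red {m n : ℕ} (g : R) (h : m ≤ n) : Q P C n g →ₐ[A] Q P C m g :=
  Ideal.Quotient.factorₐ A (J_le P g h)

theorem red_mk {m n : ℕ} (g : R) (h : m ≤ n) (z : L C g) :
    red P g h (Ideal.Quotient.mk (J P C n g) z) = Ideal.Quotient.mk (J P C m g) z := rfl

theorem red_red {l m n : ℕ} (g : R) (h : l ≤ m) (h' : m ≤ n) (x : Q P C n g) :
    red P g h (red P g h' x) = red P g (h.trans h') x := by
  obtain ⟨z, rfl⟩ := Ideal.Quotient.mk_surjective x
  rw [red_mk, red_mk, red_mk]

theorem red_surjective {m n : ℕ} (g : R) (h : m ≤ n) : Function.Surjective (red P (C := C) g h) := fun y => by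
  obtain ⟨z, rfl⟩ := Ideal.Quotient.mk_surjective y
  exact ⟨_, red_mk P g h z⟩

theorem isNilpotent_ker_red (n : ℕ) (g : R) :
    IsNilpotent (RingHom.ker (red P (C := C) g (Nat.zero_le n) : Q P C n g →+* Q P C 0 g)) := by
  refine ⟨n + 1, ?_⟩
  have h1 : RingHom.ker (red P (C := C) g (Nat.zero_le n) : Q P C n g →+* Q P C 0 g)
      = (J P C 0 g).map (Ideal.Quotient.mk (J P C n g)) := Ideal.Quotient.factor_ker (J_le P g (Nat.zero_le n))
  rw [h1, Ideal.zero_eq_bot, ← Ideal.map_pow, Ideal.map_eq_bot_iff_le_ker, Ideal.mk_ker]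
  show ((Ideal.span {P.T ^ (0 + 1)}).map (algebraMap R (L C g))) ^ (n + 1) ≤ _
  rw [← Ideal.map_pow, Ideal.span_singleton_pow, zero_add, pow_one]

theorem formallyEtale_Q_zero (g : R) (hg : EtAway R C g) : Algebra.FormallyEtale A (Q P C 0 g) := by
  haveI : Algebra.Etale R (L C g) := hg
  let R₀ := R ⧸ Ideal.span {P.T ^ (0 + 1)}
  let B := L C g ⊗[R] R₀
  letI : Algebra R₀ B := Algebra.TensorProduct.rightAlgebra
  haveI : Algebra.IsPushout R R₀ (L C g) B := inferInstance
  haveI : Algebra.Etale R₀ B := Algebra.Etale.of_equiv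
    (Algebra.IsPushout.equiv R R₀ (L C g) B)
  haveI : IsScalarTower A R₀ B := IsScalarTower.of_algebraMap_eq fun x => by
    show algebraMap A (L C g) x ⊗ₜ[R] (1 : R₀) = (1 : L C g) ⊗ₜ[R] algebraMap A R₀ x
    rw [IsScalarTower.algebraMap_apply A R (L C g), IsScalarTower.algebraMap_apply A R R₀,
      Algebra.algebraMap_eq_smul_one (R := R) (A := L C g), Algebra.algebraMap_eq_smul_one (R := R) (A := R₀),
      TensorProduct.smul_tmul]
  have hb : Function.Bijective (algebraMap A R₀) := by
    refine ⟨fun x y hxy => ?_, fun z => ?_⟩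
    · rw [IsScalarTower.algebraMap_apply A R R₀, IsScalarTower.algebraMap_apply A R R₀,
        Ideal.Quotient.algebraMap_eq, Ideal.Quotient.eq, zero_add, pow_one, Ideal.mem_span_singleton, ← P.ker,
        map_sub, AlgHom.commutes, AlgHom.commutes, sub_eq_zero] at hxy
      exact hxy
    · obtain ⟨r, rfl⟩ := Ideal.Quotient.mk_surjective z
      obtain ⟨r', hr⟩ := P.exists_eq r
      refine ⟨P.π r, ?_⟩
      rw [IsScalarTower.algebraMap_apply A R R₀, Ideal.Quotient.algebraMap_eq, Ideal.Quotient.eq, zero_add,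
        pow_one, Ideal.mem_span_singleton]
      exact ⟨-r', by linear_combination -hr⟩
  haveI : Algebra.FormallyEtale A R₀ := Algebra.FormallyEtale.of_equiv (AlgEquiv.ofBijective (Algebra.ofId A R₀) hb)
  haveI : Algebra.FormallyEtale A B := Algebra.FormallyEtale.comp A R₀ B
  exact Algebra.FormallyEtale.of_equiv
    ((Algebra.TensorProduct.quotIdealMapEquivTensorQuot (L C g) (Ideal.span {P.T ^ (0 + 1)})).symm.restrictScalars A)

/-- The lifting of functions to the thickenings. -/
def sig (n : ℕ) (g : R) (hg : EtAway R C g) : Q P C 0 g →ₐ[A] Q P C n g :=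
  haveI := formallyEtale_Q_zero P g hg
  Algebra.FormallySmooth.liftOfSurjective (AlgHom.id A _) (red P g (Nat.zero_le n))
    (red_surjective P g (Nat.zero_le n)) (isNilpotent_ker_red P n g)

theorem red_sig (n : ℕ) (g : R) (hg : EtAway R C g) (u : Q P C 0 g) :
    red P g (Nat.zero_le n) (sig P n g hg u) = u := by
  unfold sig
  haveI := formallyEtale_Q_zero P g hg
  exact Algebra.FormallySmooth.liftOfSurjective_apply (AlgHom.id A _) (red P g (Nat.zero_le n))
    (red_surjective P g (Nat.zero_le n)) (isNilpotent_ker_red P n g) u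

theorem sig_unique (n : ℕ) {g g' : R} (hg : EtAway R C g) (f₁ f₂ : Q P C 0 g →ₐ[A] Q P C n g')
    (h : ∀ u, red P g' (Nat.zero_le n) (f₁ u) = red P g' (Nat.zero_le n) (f₂ u)) (u : Q P C 0 g) :
    f₁ u = f₂ u := by
  haveI := formallyEtale_Q_zero P g hg
  exact DFunLike.congr_fun (Algebra.FormallyUnramified.lift_unique' (red P g' (Nat.zero_le n))
    (isNilpotent_ker_red P n g') f₁ f₂ (AlgHom.ext h)) u

theorem red_sig' {m n : ℕ} (h : m ≤ n) (g : R) (hg : EtAway R C g) (u : Q P C 0 g) :
    red P g h (sig P n g hg u) = sig P m g hg u :=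
  sig_unique P m hg ((red P g h).comp (sig P n g hg)) (sig P m g hg) (fun u => by
    rw [AlgHom.comp_apply, red_red, red_sig, red_sig]) u

/-- The map of thickenings induced by a restriction. -/
def resQ {g g' : R} (f : L C g →ₐ[C] L C g') (n : ℕ) : Q P C n g →ₐ[A] Q P C n g' :=
  Ideal.quotientMapₐ (J P C n g') (f.restrictScalars A) (by
    refine Ideal.map_le_iff_le_comap.2 fun r hr => ?_
    rw [Ideal.mem_comap, Ideal.mem_comap]
    show f (algebraMap R (L C g) r) ∈ _
    rw [IsScalarTower.algebraMap_apply R C (L C g), AlgHom.commutes, ← IsScalarTower.algebraMap_apply]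
    exact Ideal.mem_map_of_mem _ hr)

theorem resQ_mk {g g' : R} (f : L C g →ₐ[C] L C g') (n : ℕ) (z : L C g) :
    resQ P f n (Ideal.Quotient.mk (J P C n g) z) = Ideal.Quotient.mk (J P C n g') (f z) := rfl

theorem red_resQ {g g' : R} (f : L C g →ₐ[C] L C g') {m n : ℕ} (h : m ≤ n) (x : Q P C n g) :
    red P g' h (resQ P f n x) = resQ P f m (red P g h x) := by
  obtain ⟨z, rfl⟩ := Ideal.Quotient.mk_surjective x
  rw [resQ_mk, red_mk, red_mk, resQ_mk]

theorem resQ_sig {g g' : R} (f : L C g →ₐ[C] L C g') (hg : EtAway R C g) (hg' : EtAway R C g') (n : ℕ)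
    (u : Q P C 0 g) : resQ P f n (sig P n g hg u) = sig P n g' hg' (resQ P f 0 u) :=
  sig_unique P n hg ((resQ P f n).comp (sig P n g hg)) ((sig P n g' hg').comp (resQ P f 0)) (fun u => by
    rw [AlgHom.comp_apply, AlgHom.comp_apply, red_resQ, red_sig, red_sig]) u

end Lift

end Groth.Agent.H9Pur

end
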