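import Groth.Agent.H9Pur.Retract
import Groth.Agent.Pi1Ext.EtalePure
import Mathlib.RingTheory.Flat.FaithfullyFlat.Algebra

/-!
# Purity over a retracted complete ring

An algebra étale on the punctured spectrum of `R` becomes finite étale, when `R` is complete for a regular
element `T` with `R/(T) = A`, and `A` has a regular pair.
-/

set_option autoImplicit false
set_option linter.style.haveILetI false

universe u

open Groth.Agent.Pi1Ext.RegPurity IsLocalRing TensorProduct

noncomputable section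

namespace Groth.Agent.H9Pur

variable {A R : Type u} [CommRing A] [CommRing R] [Algebra A R] (P : Retr A R)
  {C : Type u} [CommRing C] [Algebra R C] [Algebra A C] [IsScalarTower A R C] {h k : A}
  (D : Hull R C (algebraMap A R h) (algebraMap A R k))

/-- Constant vectors. -/
abbrev cst {p : ℕ} (b : Fin p → A) : Fin p → R := fun i => algebraMap A R (b i)

/-- The reduction of the hull. -/
def redHull : Submodule A (Fin D.p → A) :=
  LinearMap.ker ((P.π.toLinearMap.compLeft (Fin D.q)).comp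
    ((D.a.restrictScalars A).comp ((Algebra.linearMap A R).compLeft (Fin D.p))))

theorem mem_redHull {b : Fin D.p → A} : b ∈ redHull P D ↔ ∀ j, D.a (cst b) j ∈ Ideal.span {P.T ^ (0 + 1)} := by
  simp only [redHull, LinearMap.mem_ker, funext_iff, zero_add, pow_one, Ideal.mem_span_singleton, ← P.ker]
  rfl

/-- `x` lifts `b` through all the thickenings. -/
def IsSec (eh : EtAway R C (algebraMap A R h)) (n : ℕ) (b : Fin D.p → A) (x : Fin D.p → R) : Prop :=
  (∀ j, D.a x j ∈ Ideal.span {P.T ^ (n + 1)}) ∧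
    Ideal.Quotient.mk (J P C n (algebraMap A R h)) (D.Φ₁ x) =
      sig P n _ eh (Ideal.Quotient.mk (J P C 0 (algebraMap A R h)) (D.Φ₁ (cst b)))

variable (hl : ∀ z, h * z = 0 → z = 0) (hr : ∀ z, k * z = 0 → z = 0) (hd : ∀ z, h ∣ k * z → h ∣ z)
  (eh : EtAway R C (algebraMap A R h)) (ek : EtAway R C (algebraMap A R k))
  (ehk : EtAway R C (algebraMap A R h * algebraMap A R k))

include hl hr hd in
theorem isSec_unique {n : ℕ} {b : Fin D.p → A} {x x' : Fin D.p → R} (hx : IsSec P D eh n b x)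
    (hx' : IsSec P D eh n b x') (i : Fin D.p) : x i - x' i ∈ Ideal.span {P.T ^ (n + 1)} := by
  refine D.unique (P.pairMod_pow hl hr hd (n + 1)) (x := x - x') (fun j => ?_) ?_ i
  · rw [map_sub]; exact sub_mem (hx.1 j) (hx'.1 j)
  · rw [map_sub, ← Ideal.Quotient.eq, hx.2, hx'.2]

include hl hr hd ek ehk in
theorem exists_isSec (n : ℕ) {b : Fin D.p → A} (hb : b ∈ redHull P D) : ∃ x, IsSec P D eh n b x := by
  let hR := algebraMap A R h
  let kR := algebraMap A R k
  obtain ⟨v₁, hv₁⟩ := Ideal.Quotient.mk_surjective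
    (sig P n hR eh (Ideal.Quotient.mk (J P C 0 hR) (D.Φ₁ (cst b))))
  obtain ⟨v₂, hv₂⟩ := Ideal.Quotient.mk_surjective
    (sig P n kR ek (Ideal.Quotient.mk (J P C 0 kR) (D.Φ₂ (cst b))))
  have hc := D.compat ((mem_redHull P D).1 hb)
  have e : resQ P (res₁ hR kR) n (Ideal.Quotient.mk (J P C n hR) v₁) =
      resQ P (res₂ hR kR) n (Ideal.Quotient.mk (J P C n kR) v₂) := by
    rw [hv₁, hv₂, resQ_sig P _ eh ehk, resQ_sig P _ ek ehk, resQ_mk, resQ_mk, Ideal.Quotient.eq.2 hc]
  rw [resQ_mk, resQ_mk, Ideal.Quotient.eq] at e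
  obtain ⟨x, hax, h1, -⟩ := D.glue (P.pairMod_pow hl hr hd (n + 1)) v₁ v₂ e
  exact ⟨x, hax, by rw [Ideal.Quotient.eq.2 h1, hv₁]⟩

theorem isSec_mono {m n : ℕ} (hmn : m ≤ n) {b : Fin D.p → A} {x : Fin D.p → R} (hx : IsSec P D eh n b x) :
    IsSec P D eh m b x := by
  refine ⟨fun j => Ideal.span_singleton_le_span_singleton.2 (pow_dvd_pow _ (by omega)) (hx.1 j), ?_⟩
  rw [← red_mk P _ hmn, hx.2, red_sig']

theorem isSec_add {n : ℕ} {b b' : Fin D.p → A} {x x' : Fin D.p → R} (hx : IsSec P D eh n b x)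
    (hx' : IsSec P D eh n b' x') : IsSec P D eh n (b + b') (x + x') := by
  refine ⟨fun j => by rw [map_add]; exact add_mem (hx.1 j) (hx'.1 j), ?_⟩
  have : cst (R := R) (b + b') = cst b + cst b' := funext fun i => map_add _ _ _
  rw [map_add, map_add, hx.2, hx'.2, this, map_add, map_add, map_add]

theorem isSec_smul {n : ℕ} (c : A) {b : Fin D.p → A} {x : Fin D.p → R} (hx : IsSec P D eh n b x) :
    IsSec P D eh n (c • b) (algebraMap A R c • x) := by
  refine ⟨fun j => by rw [map_smul]; exact Ideal.mul_mem_left _ _ (hx.1 j), ?_⟩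
  have : cst (R := R) (c • b) = algebraMap A R c • cst b := funext fun i => map_mul _ _ _
  have hmk : ∀ (m : ℕ) (z : Fin D.p → R), Ideal.Quotient.mk (J P C m (algebraMap A R h)) (D.Φ₁ (algebraMap A R c • z))
      = c • Ideal.Quotient.mk (J P C m (algebraMap A R h)) (D.Φ₁ z) := fun m z => by
    rw [map_smul, algebraMap_smul]
    exact (Ideal.Quotient.mkₐ A _).toLinearMap.map_smul c (D.Φ₁ z)
  rw [this, hmk, hmk, hx.2, map_smul]

variable [IsNoetherianRing R] [IsLocalRing R] [IsAdicComplete (Ideal.span {P.T}) R] (hT : P.T ∈ maximalIdeal R)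

theorem eq_zero_of_forall (z : R) (hz : ∀ n, z ∈ Ideal.span {P.T ^ n}) : z = 0 :=
  IsHausdorff.haus (I := Ideal.span {P.T}) inferInstance z fun n => SModEq.zero.2 (by
    rw [smul_eq_mul, Ideal.mul_top, Ideal.span_singleton_pow]; exact hz n)

include hl hr hd ek ehk in
theorem exists_sec {b : Fin D.p → A} (hb : b ∈ redHull P D) :
    ∃! x : Fin D.p → R, ∀ n, IsSec P D eh n b x := by
  choose f hf using fun n => exists_isSec P D hl hr hd eh ek ehk n hb
  have hff : ∀ {m n}, m ≤ n → ∀ i, f m i - f n i ∈ Ideal.span {P.T ^ (m + 1)} := fun hmn i =>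
    isSec_unique P D hl hr hd eh (hf _) (isSec_mono P D eh hmn (hf _)) i
  have hlim : ∀ i, ∃ L : R, ∀ n, f n i ≡ L [SMOD (Ideal.span {P.T} ^ n • ⊤ : Submodule R R)] := fun i =>
    IsPrecomplete.prec (I := Ideal.span {P.T}) inferInstance (f := fun n => f n i) fun {m n} hmn => SModEq.sub_mem.2 (by
      rw [smul_eq_mul, Ideal.mul_top, Ideal.span_singleton_pow]
      exact Ideal.span_singleton_le_span_singleton.2 (pow_dvd_pow _ (by omega)) (hff hmn i))
  choose L hL using hlim
  have hLn : ∀ n i, L i - f n i ∈ Ideal.span {P.T ^ (n + 1)} := fun n i => by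
    have h1 := SModEq.sub_mem.1 (hL i (n + 1))
    rw [smul_eq_mul, Ideal.mul_top, Ideal.span_singleton_pow] at h1
    have h2 := hff n.le_succ i
    have h3 := add_mem (neg_mem h1) (neg_mem h2)
    convert h3 using 1
    ring
  refine ⟨L, fun n => ⟨fun j => ?_, ?_⟩, fun x hx => funext fun i => sub_eq_zero.1 (eq_zero_of_forall P _ fun n => ?_)⟩
  · have h1 : D.a (L - f n) j ∈ Ideal.span {P.T ^ (n + 1)} := by
      rw [apply_eq_sum D.a (L - f n), Finset.sum_apply]
      exact Ideal.sum_mem _ fun i _ => Ideal.mul_mem_right _ _ (hLn n i)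
    have h2 := add_mem h1 ((hf n).1 j)
    rwa [map_sub, Pi.sub_apply, sub_add_cancel] at h2
  · rw [← (hf n).2, Ideal.Quotient.eq, ← map_sub, apply_eq_sum D.Φ₁ (L - f n)]
    refine Ideal.sum_mem _ fun i _ => ?_
    rw [Algebra.smul_def]
    exact Ideal.mul_mem_right _ _ (Ideal.mem_map_of_mem _ (hLn n i))
  · have h1 := add_mem (isSec_unique P D hl hr hd eh (hx n) (hf n) i) (neg_mem (hLn n i))
    have h2 := Ideal.span_singleton_le_span_singleton.2 (pow_dvd_pow P.T n.le_succ) h1
    convert h2 using 1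
    ring

/-- The section of the hull over its reduction. -/
def sec : redHull P D →ₗ[A] LinearMap.ker D.a where
  toFun b := ⟨(exists_sec P D hl hr hd eh ek ehk b.2).choose, LinearMap.mem_ker.2 (funext fun j =>
    eq_zero_of_forall P _ fun n => Ideal.span_singleton_le_span_singleton.2 (pow_dvd_pow P.T n.le_succ)
      (((exists_sec P D hl hr hd eh ek ehk b.2).choose_spec.1 n).1 j))⟩
  map_add' b b' := Subtype.ext ((exists_sec P D hl hr hd eh ek ehk (b + b').2).choose_spec.2 _ fun n =>
    isSec_add P D eh ((exists_sec P D hl hr hd eh ek ehk b.2).choose_spec.1 n)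
      ((exists_sec P D hl hr hd eh ek ehk b'.2).choose_spec.1 n)).symm
  map_smul' c b := Subtype.ext (by
    refine ((exists_sec P D hl hr hd eh ek ehk (c • b).2).choose_spec.2 _ fun n => ?_).symm
    show IsSec P D eh n (c • b.1) (c • (exists_sec P D hl hr hd eh ek ehk b.2).choose)
    rw [← algebraMap_smul R c (exists_sec P D hl hr hd eh ek ehk b.2).choose]
    exact isSec_smul P D eh c ((exists_sec P D hl hr hd eh ek ehk b.2).choose_spec.1 n))

theorem π_sec (b : redHull P D) (i : Fin D.p) : P.π ((sec P D hl hr hd eh ek ehk b).1 i) = b.1 i := by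
  have h2 : IsSec P D eh 0 b.1 (cst b.1) := ⟨(mem_redHull P D).1 b.2, by
    conv_rhs => rw [← red_sig P 0 _ eh (Ideal.Quotient.mk _ (D.Φ₁ (cst b.1)))]
    rw [red_sig, ← red_mk P _ (le_refl 0), ← red_sig' P (le_refl 0) _ eh, red_mk]
    conv_lhs => rw [← red_sig P 0 _ eh (Ideal.Quotient.mk _ (D.Φ₁ (cst b.1)))]⟩
  have h1 := isSec_unique P D hl hr hd eh
    ((exists_sec P D hl hr hd eh ek ehk b.2).choose_spec.1 0) h2 i
  rw [zero_add, pow_one, Ideal.mem_span_singleton, ← P.ker, map_sub, AlgHom.commutes, sub_eq_zero] at h1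
  exact h1

theorem exists_decomp {M : Type u} [AddCommGroup M] [Module A M] (z : R ⊗[A] M) :
    ∃ (m : M) (z' : R ⊗[A] M), z = (1 : R) ⊗ₜ m + P.T • z' := by
  induction z with
  | zero => exact ⟨0, 0, by simp⟩
  | add z z' hz hz' =>
    obtain ⟨m, w, rfl⟩ := hz
    obtain ⟨m', w', rfl⟩ := hz'
    exact ⟨m + m', w + w', by rw [tmul_add, smul_add]; abel⟩
  | tmul r m =>
    obtain ⟨r', hr'⟩ := P.exists_eq r
    refine ⟨P.π r • m, r' ⊗ₜ m, ?_⟩
    conv_lhs => rw [hr', add_tmul, Algebra.algebraMap_eq_smul_one, smul_tmul]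
    rw [TensorProduct.smul_tmul', smul_eq_mul]

include hT hl hr hd eh ek ehk in
theorem bijective_liftBaseChange_sec [Module.Finite A (redHull P D)] :
    Function.Bijective ((sec P D hl hr hd eh ek ehk).liftBaseChange R) := by
  let ψ := (sec P D hl hr hd eh ek ehk).liftBaseChange R
  have hle : Ideal.span {P.T} ≤ Ideal.jacobson ⊥ := by
    rw [IsLocalRing.jacobson_eq_maximalIdeal ⊥ bot_ne_top, Ideal.span_le, Set.singleton_subset_iff]
    exact hT
  refine ⟨LinearMap.ker_eq_bot.1 ?_, LinearMap.range_eq_top.1 ?_⟩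
  · refine Submodule.eq_bot_of_le_smul_of_le_jacobson_bot (Ideal.span {P.T}) _ (IsNoetherian.noetherian _) ?_ hle
    intro z hz
    obtain ⟨b, z', rfl⟩ := exists_decomp P z
    have h0 : ψ ((1 : R) ⊗ₜ b + P.T • z') = 0 := hz
    rw [map_add, map_smul, LinearMap.liftBaseChange_tmul, one_smul] at h0
    have hb : b = 0 := Subtype.ext (funext fun i => by
      have h1 := congrArg (fun w : LinearMap.ker D.a => P.π (w.1 i)) h0
      simpa [π_sec, P.πT] using h1)
    subst hb
    rw [map_zero, zero_add] at h0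
    rw [tmul_zero, zero_add]
    refine Submodule.smul_mem_smul (Ideal.mem_span_singleton_self _) (LinearMap.mem_ker.2 (Subtype.ext (funext fun i => ?_)))
    exact P.reg _ (by simpa using congrArg (fun w : LinearMap.ker D.a => w.1 i) h0)
  · refine top_unique (Submodule.le_of_le_smul_of_le_jacobson_bot (IsNoetherian.noetherian _) hle ?_)
    intro x _
    let b : Fin D.p → A := fun i => P.π (x.1 i)
    have hb : b ∈ redHull P D := by
      refine (mem_redHull P D).2 fun j => ?_
      choose r hr using fun i => P.exists_eq (x.1 i)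
      have hcst : cst (R := R) b = x.1 - P.T • r := funext fun i => by
        rw [Pi.sub_apply, Pi.smul_apply, smul_eq_mul, eq_sub_iff_add_eq]; exact (hr i).symm
      rw [hcst, map_sub, map_smul, LinearMap.mem_ker.1 x.2, zero_sub, zero_add, pow_one, Ideal.mem_span_singleton]
      exact ⟨-D.a r j, by simp⟩
    have hdiv : ∀ i, ∃ y, x.1 i - (sec P D hl hr hd eh ek ehk ⟨b, hb⟩).1 i = P.T * y := fun i => by
      obtain ⟨y, hy⟩ := (P.ker _).1 (show P.π (x.1 i - (sec P D hl hr hd eh ek ehk ⟨b, hb⟩).1 i) = 0 by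
        rw [map_sub, π_sec]; exact sub_self _)
      exact ⟨y, hy⟩
    choose y hy using hdiv
    have hay : y ∈ LinearMap.ker D.a := LinearMap.mem_ker.2 (funext fun j => P.reg _ (by
      have : P.T • y = x.1 - (sec P D hl hr hd eh ek ehk ⟨b, hb⟩).1 := funext fun i => (hy i).symm
      have h2 := congrArg (fun w => D.a w j) this
      simpa [LinearMap.mem_ker.1 x.2, LinearMap.mem_ker.1 (sec P D hl hr hd eh ek ehk ⟨b, hb⟩).2] using h2))
    have hx : x = ψ ((1 : R) ⊗ₜ ⟨b, hb⟩) + P.T • ⟨y, hay⟩ := Subtype.ext (funext fun i => by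
      simp only [ψ, LinearMap.liftBaseChange_tmul, one_smul, Submodule.coe_add, Submodule.coe_smul, Pi.add_apply,
        Pi.smul_apply, smul_eq_mul, ← hy i, add_sub_cancel])
    rw [hx]
    exact Submodule.add_mem_sup (LinearMap.mem_range_self _ _)
      (Submodule.smul_mem_smul (Ideal.mem_span_singleton_self _) trivial)

end Groth.Agent.H9Pur

end
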